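import Cfsg.Agent.Pz.JB
import Cfsg.Agent.Leech.MCls
import Cfsg.Agent.Leech.Punct

/-! The third Janko group and the Monster: adjacent pairs. -/

set_option autoImplicit false

namespace CF.Pz.J

open Cfsg Subgroup CF.Leech CF.Leech.M CF.Loc CF.Even CF.LX CF.Known.Mon CF.Mx
open scoped Pointwise

variable {G : Type*} [Group G]

namespace J1
variable {c d D : Finset GolayPt}

theorem card_compl (c : Finset GolayPt) : cᶜ.card + c.card = 24 := by
  rw [Finset.card_compl_add_card, card_pts]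

theorem sub_dod (hD : D ∈ CS) (k : D.card = 12) (hd : d ∈ CS) (h : d ⊆ D) : d = ∅ ∨ d = D := by
  have h1 := card_symmDiff_add d D
  have h2 := card_of_mem_CS (symmDiff_mem_CS hd hD)
  have h3 := card_of_mem_CS hd
  have h4 := Finset.card_le_card h
  rw [Finset.inter_eq_left.2 h] at h1
  by_cases h0 : d.card = 0
  · exact .inl (Finset.card_eq_zero.1 h0)
  · exact .inr (Finset.eq_of_subset_of_card_le h (by omega))

theorem four (hD : D ∈ CS) (k : D.card = 12) (hd : d ∈ CS) (h : D ∩ d ∈ CS) :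
    d = ∅ ∨ d = D ∨ d = Dᶜ ∨ d = Finset.univ := by
  have k' : Dᶜ.card = 12 := by have := card_compl D; omega
  have h' : symmDiff d (D ∩ d) ⊆ Dᶜ := fun p => by simp [Finset.mem_symmDiff]; tauto
  rcases sub_dod hD k h Finset.inter_subset_left with a | a <;>
    rcases sub_dod (compl_mem_CS hD) k' (symmDiff_mem_CS hd h) h' with b | b <;>
    simp only [Finset.ext_iff, Finset.mem_symmDiff, Finset.mem_inter, Finset.mem_compl,
      Finset.notMem_empty, Finset.mem_univ] at a b ⊢
  · exact .inl fun p => by have := a p; have := b p; tauto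
  · exact .inr (.inr (.inl fun p => by have := a p; have := b p; tauto))
  · exact .inr (.inl fun p => by have := a p; have := b p; tauto)
  · exact .inr (.inr (.inr fun p => by have := a p; have := b p; tauto))

theorem ep_fix (hD : D ∈ CS) (hd : d ∈ CS) {x : W2} (e : ep hD • x = x)
    (h : d = ∅ ∨ d = D ∨ d = Dᶜ ∨ d = Finset.univ) : ep hd • x = x := by
  rcases h with rfl | rfl | rfl | rfl
  · rw [show ep hd = 1 from mono_one, one_smul]
  · exact e
  · rw [show ep hd = _ from ep_compl hD, mul_smul, e, negCo_red]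
  · rw [show ep hd = _ from mono_neg, negCo_red]

theorem eq_or_compl (h : ∀ p q, p ≠ q → ((p ∈ d ↔ q ∈ d) ↔ (p ∈ c ↔ q ∈ c))) : d = c ∨ d = cᶜ := by
  have k : ∀ q, (none ∈ d ↔ q ∈ d) ↔ (none ∈ c ↔ q ∈ c) := fun q => by
    by_cases e : none = q
    · subst e; simp
    · exact h _ _ e
  by_cases e : none ∈ d ↔ none ∈ c
  · exact .inl (Finset.ext fun q => by have := k q; tauto)
  · exact .inr (Finset.ext fun q => by have := k q; rw [Finset.mem_compl]; tauto)

theorem Rp_compl {Q : Subgroup G} {z g : G} {M : MT Q z} {hc : c ∈ CS} (r : M.Rp g (ep hc)) :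
    M.Rp g (ep (compl_mem_CS hc)) := ep_compl hc ▸ r.neg

end J1

variable [Finite G] {z₀ : G}

open J1 in
theorem ty1 (h : B0 z₀) {z t i j k : G} (bz : IsConj z₀ z) (bt : IsConj z₀ t) (m : t ∈ QO z)
    (n : t ≠ z) (hi : i ∈ QO z) (hj : j ∈ QO t) (hk : k ∈ QO t) (hij : i * j ∈ QO (z * t))
    (ii : i * i = z) (it : i * t = t * i) (jz : j * z = z * j) (kz : k * z = z * k)
    (ij : i * j = j * i) (ik : k * i * k⁻¹ = z * t * i) : False := by
  obtain ⟨M, F⟩ := exists_fr h bz bt m n
  obtain ⟨v, hv⟩ := red_surjective (M.lam i)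
  obtain ⟨c', P⟩ := exists_pat ((F.ev hi hv.symm).1 it)
  obtain ⟨c, hc, r⟩ := F.eps hj jz
  obtain ⟨d, hd, r'⟩ := F.eps hk kz
  have z1 := h.ne bz
  have t1 := h.ne bt
  have r1 : M.Rp j (ep P.mem) := by
    have : c' = c ∨ c' = cᶜ := eq_or_compl fun p q e => by
      obtain ⟨w, w1, w2, -, l⟩ := F.exists_w e
      rw [← Fr.w_pat hi hv.symm P w1 l, ← F.w_eps hj r w1 e l, ← conj_eq_iff, ← conj_eq_iff]
      have a := h.cases (h.mul bz bt m n.symm) hij (h.inf_le bz bt m n.symm ⟨w1, w2⟩)
      rw [show i * j * w * (i * j)⁻¹ = i * (j * w * j⁻¹) * i⁻¹ by group] at a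
      refine ⟨fun e1 => (h.cases bt hj w2).resolve_right fun e2 => ?_,
        fun e1 => (h.cases bz hi w1).resolve_right fun e2 => ?_⟩
      · rw [e2, ← conj_mul, e1, conj_eq_iff.2 it] at a
        rcases a with a | a
        · exact t1 (mul_eq_right.1 a)
        · exact z1 (mul_eq_right.1 (mul_right_cancel a).symm)
      · rw [e1, e2] at a
        rcases a with a | a
        · exact z1 (mul_eq_right.1 a)
        · exact t1 (mul_eq_left.1 (mul_right_cancel a).symm)
    rcases this with rfl | rfl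
    exacts [r, Rp_compl r]
  have e1 : ep P.mem • red v = red v := by rw [hv, ← r1.lam hi, conj_eq_iff.2 ij.symm]
  have n1 := P.norm P.mem e1
  have n2 : ¬ (32 : ℤ) ∣ nm v := fun e => z1 (ii.symm.trans ((M.sq_iff hi hv.symm).2 e))
  have k12 : c'.card = 12 := by have := card_of_mem_CS P.mem; omega
  have e2 : ep hd • red v = red v + w8 := by
    rw [hv, ← r'.lam hi, ik, mul_assoc, M.lam_z_mul (mul_mem m hi), M.lam_mul t m i hi, F.ls,
      add_comm]
  rw [ep_fix P.mem hd e1 (four P.mem k12 hd (P.inter hd (.inr e2)))] at e2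
  exact MT.w8_ne (left_eq_add.1 e2)

end CF.Pz.J
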