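import Cfsg.Agent.Pz.J1

/-! The third Janko group and the Monster: trios. -/

set_option autoImplicit false

namespace CF.Pz.J

open Cfsg Subgroup CF.Leech CF.Leech.M CF.Loc CF.Even CF.LX CF.Known.Mon CF.Mx
open scoped Pointwise

variable {G : Type*} [Group G]

open J1 in
theorem exists_meet {c : Finset GolayPt} (hc : c ∈ CS) (k : c.card = 8 ∨ c.card = 12) {p q : GolayPt}
    (hp : p ∈ c) (hq : q ∈ c) (n : p ≠ q) : ∃ o ∈ CS, o ∩ c = {p, q} := by
  rcases k with k | k
  · have := meet24 card_pts steiner_octads (b := c) ⟨hc, k⟩ {p, q}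
      (Finset.insert_subset hp (Finset.singleton_subset_iff.2 hq))
    rw [Finset.card_pair n] at this
    obtain ⟨o, h1, h2⟩ := Set.nonempty_of_ncard_ne_zero (this ▸ (by decide : m24 2 ≠ 0))
    exact ⟨o, h1.1, by rw [Finset.inter_comm, h2]⟩
  have one : ∀ o ∈ CS, ∀ s, o ∩ c.erase p = s → p ∉ s → (p ∈ o ↔ Odd s.card) ∧
      o ∩ c = if p ∈ o then insert p s else s := fun o ho s e ps => by
    have e2 : o ∩ c = if p ∈ o then insert p s else s := by
      subst e
      ext x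
      by_cases a : x = p <;> split_ifs <;> simp [*]
    have e3 := even_card_inter ho hc
    rw [e2] at e3
    refine ⟨?_, e2⟩
    rw [Nat.odd_iff]
    split_ifs at e3 with a
    · rw [Finset.card_insert_of_notMem ps] at e3
      exact iff_of_true a (by omega)
    · exact iff_of_false a (by omega)
  by_contra! H
  have := Finset.card_le_mul_card_image_of_maps_to (s := (Set.toFinite CS).toFinset)
    (t := (c.erase p).powerset.erase {q}) (f := fun o => o ∩ c.erase p) (fun o ho => by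
      rw [Set.Finite.mem_toFinset] at ho
      refine Finset.mem_erase.2 ⟨fun e => H o ho ?_,
        Finset.mem_powerset.2 Finset.inter_subset_right⟩
      obtain ⟨h1, h2⟩ := one o ho _ e (by simpa using n)
      rwa [if_pos (h1.2 (by simp))] at h2) 2 fun b _ => by
    rcases Finset.eq_empty_or_nonempty {a ∈ (Set.toFinite CS).toFinset | a ∩ c.erase p = b}
      with e | ⟨o, ho⟩
    · rw [e]; simp
    refine (Finset.card_le_card (t := {o, symmDiff o cᶜ}) fun o' ho' => ?_).trans Finset.card_le_two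
    simp only [Finset.mem_filter, Set.Finite.mem_toFinset] at ho ho'
    have hd := symmDiff_mem_CS ho.1 ho'.1
    have e : symmDiff o o' ∩ c.erase p = ∅ := by
      rw [← Finset.inf_eq_inter, inf_symmDiff_distrib_right, Finset.inf_eq_inter,
        Finset.inf_eq_inter, ho.2, ho'.2, symmDiff_self]
      rfl
    obtain ⟨h1, h2⟩ := one _ hd _ e (by simp)
    rw [if_neg (fun a => by simpa using h1.1 a)] at h2
    rcases sub_dod (compl_mem_CS hc) (by have := card_compl c; omega) hd (fun x hx =>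
      Finset.mem_compl.2 fun a => Finset.notMem_empty x (h2 ▸ Finset.mem_inter.2 ⟨hx, a⟩)) with a | a
    · exact Finset.mem_insert.2 (.inl (symmDiff_eq_bot.1 a).symm)
    · exact Finset.mem_insert_of_mem (Finset.mem_singleton.2 (by
        rw [← a, symmDiff_symmDiff_cancel_left]))
  rw [← Set.ncard_eq_toFinset_card, ncard_CS_all, Finset.card_erase_of_mem (by simp [hq, n.symm]),
    Finset.card_powerset, Finset.card_erase_of_mem hp, k] at this
  omega

namespace J2
variable {p z : G} {M : MT (QO p) p} {c : Finset GolayPt}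

theorem red_p4 {i j : GolayPt} (n : i ≠ j) : red (p4 i j) ≠ 0 := fun e => by
  have h := nm_p4 n
  have := eq_or_neg_of_red (y := 0) (by omega) (by rw [nm_eq_zero.2 rfl]; omega)
    (e.trans (map_zero red).symm)
  rw [neg_zero, or_self, ← nm_eq_zero] at this
  omega

theorem vv {A : Subgroup G} (zA : z ∈ A) (nA : QO p ≤ 𝐍(A)) {hc : c ∈ CS} (r : M.Rp z (ep hc))
    (k : c.card = 8 ∨ c.card = 12) {i j : GolayPt} (hi : i ∈ c) (hj : j ∈ c) (n : i ≠ j) :
    ∃ v ∈ A, v ∈ QO p ∧ M.lam v = red (p4 i j) := by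
  obtain ⟨o, ho, e⟩ := exists_meet hc k hi hj n
  obtain ⟨q, hq, l⟩ := M.exists_lam ⟨_, two_ind_mem ho⟩
  have h1 := r.conj_mem (inv_mem hq)
  refine ⟨q * (z * q⁻¹ * z⁻¹), ?_, mul_mem hq h1, ?_⟩
  · rw [← mul_assoc, ← mul_assoc]
    exact mul_mem ((mem_normalizer_iff.1 (nA hq) z).1 zA) (inv_mem zA)
  · rw [M.lam_mul _ hq _ h1, r.lam (inv_mem hq), M.lam_inv hq, l, ← red_smul, ← red_sub]
    refine congrArg red (Subtype.ext (funext fun x => ?_))
    have := Finset.ext_iff.1 e x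
    simp only [Finset.mem_inter, Finset.mem_insert, Finset.mem_singleton] at this
    simp only [AddSubgroup.coe_sub, Pi.sub_apply, ep_apply, p4_apply, Pi.smul_apply, ind,
      smul_eq_mul]
    split_ifs <;> simp_all

theorem ep_ne {hc : c ∈ CS} (r : M.Rp z (ep hc)) (n : z ∉ QO p) : c.card ≠ 0 ∧ c.card ≠ 24 :=
  ⟨fun e => n (r.mem_Q_iff.2 ((ep_pm hc).2 (.inl (Finset.card_eq_zero.1 e)))),
    fun e => n (r.mem_Q_iff.2 ((ep_pm hc).2 (.inr (Finset.eq_univ_of_card _ (e.trans card_pts.symm)))))⟩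

theorem small {hc : c ∈ CS} (r : M.Rp z (ep hc)) (n : z ∉ QO p) :
    ∃ d, ∃ hd : d ∈ CS, M.Rp z (ep hd) ∧ (d.card = 8 ∨ d.card = 12) := by
  have h1 := ep_ne r n
  have h2 := card_of_mem_CS hc
  have h3 := J1.card_compl c
  by_cases k : c.card ≤ 12
  · exact ⟨c, hc, r, by omega⟩
  · exact ⟨cᶜ, _, J1.Rp_compl r, by omega⟩

theorem ep_cases {d : Finset GolayPt} {hc : c ∈ CS} {hd : d ∈ CS} (r : M.Rp z (ep hc))
    (r' : M.Rp z (ep hd)) : c = d ∨ c = dᶜ :=
  (r.cases r').imp (fun e => (mono_inj _ _ _ _ e).2)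
    fun e => (mono_inj _ _ _ _ (e.trans (ep_compl hd).symm)).2

end J2

variable [Finite G] {z₀ : G}

open J1 J2 in
theorem th3_of (h : B0 z₀) {p s z t y : G} {A B : Subgroup G} (bp : IsConj z₀ p) (bs : IsConj z₀ s)
    (m : s ∈ QO p) (n : s ≠ p) (zs : z ∈ QO s) (zp : z * p = p * z) (zn : z ∉ QO p)
    (zA : z ∈ A) (tB : t ∈ B) (pB : p ∈ B) (nA : QO p ≤ 𝐍(A)) (nB : QO p ≤ 𝐍(B))
    (pu : ∀ v ∈ A, v ∈ B → v = 1 ∨ IsConj z₀ v) (o : orderOf y = 3) (yp : y * p = p * y)
    (ys : y * s = s * y) (yz : y * z * y⁻¹ = t) (yt : y * t * y⁻¹ = z * t) : Th3 z₀ y := by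
  obtain ⟨M, F⟩ := exists_fr h bp bs m n
  have yp' := conj_eq_iff.2 yp
  have nq : ∀ a, a ∉ QO p → y * a * y⁻¹ ∉ QO p := fun a ha e => ha (conj_mem_QO.1 (yp'.symm ▸ e))
  have tn : t ∉ QO p := yz ▸ nq z zn
  have tp : t * p = p * t := by rw [← yz, ← yp', conj_comm]; exact zp
  obtain ⟨_, _, r0⟩ := F.eps zs zp
  obtain ⟨c1, h1, r1, k1⟩ := small r0 zn
  obtain ⟨_, _, r0'⟩ := F.eps (yz ▸ conj_QO ys zs) tp
  obtain ⟨c2, h2, r2, k2⟩ := small r0' tn
  have r3 : M.Rp (z * t) (ep (symmDiff_mem_CS h1 h2)) := ep_mul h1 h2 ▸ r1.mul r2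
  have k3 := ep_ne r3 (yt ▸ nq t tn)
  have i0 : (c1 ∩ c2).card = 0 := by
    have e := even_card_inter h1 h2
    by_contra a
    obtain ⟨i, hi, j, hj, ij⟩ := Finset.one_lt_card.1 (show 1 < (c1 ∩ c2).card by omega)
    rw [Finset.mem_inter] at hi hj
    obtain ⟨v, vA, vQ, l⟩ := vv zA nA r1 k1 hi.1 hj.1 ij
    obtain ⟨w, wB, wQ, l'⟩ := vv tB nB r2 k2 hi.2 hj.2 ij
    have vB : v ∈ B := by
      rcases (M.lam_eq_iff vQ wQ).1 (l.trans l'.symm) with rfl | rfl
      exacts [wB, mul_mem pB wB]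
    rcases pu v vA vB with rfl | b
    · exact red_p4 ij (l.symm.trans M.lam_one)
    · exact M.not_conj vQ l (nm_p4 ij) (bp.symm.trans b)
  have k4 := card_symmDiff_add c1 c2
  have k5 := card_of_mem_CS (symmDiff_mem_CS h1 h2)
  have k6 := card_compl c2
  obtain ⟨σ, c, hσ, hc, r⟩ := F.mon yp ys
  have s1 : σ • c1 = c2 := by
    have := r.conj r1
    rw [mono_ep, yz] at this
    refine (ep_cases this r2).resolve_right fun e => ?_
    have := Finset.card_smul_finset σ c1
    rw [e] at this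
    omega
  have s2 : σ • c2 = (symmDiff c1 c2)ᶜ := by
    have := r.conj r2
    rw [mono_ep, yt] at this
    refine (ep_cases this r3).resolve_left fun e => ?_
    have := Finset.card_smul_finset σ c2
    rw [e] at this
    omega
  have nf : (fx σ).card = 0 := fx_empty.2 fun x e => by
    have a : ∀ d : Finset GolayPt, x ∈ σ • d ↔ x ∈ d := fun d => by
      rw [← Finset.smul_mem_smul_finset_iff σ (s := d), Equiv.Perm.smul_def, e]
    have a1 := a c1
    have a2 := a c2
    have a3 := Finset.ext_iff.1 (Finset.card_eq_zero.1 i0) x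
    rw [s1] at a1
    rw [s2] at a2
    simp only [Finset.mem_compl, Finset.mem_symmDiff, Finset.mem_inter, Finset.notMem_empty] at a2 a3
    tauto
  obtain ⟨k, e⟩ := ((cls3 (F.std3 o yp ys r (k := 1) rfl).1).resolve_left fun a => by
    have := a.1
    simp only [one_mul, inv_one, mul_one] at this
    omega).2
  rw [one_mul, inv_one, mul_one] at e
  obtain ⟨-, g, gp, gs, r'⟩ := F.std3 o yp ys r e
  have o' : orderOf (g * y * g⁻¹) = 3 := (CF.Invol.orderOf_conj ..).trans o
  have cm : ∀ a, g * a = a * g → y * a = a * y → g * y * g⁻¹ * a = a * (g * y * g⁻¹) :=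
    fun a e1 e2 => by rw [← conj_eq_iff.2 e1, conj_comm]; exact e2
  have T : Th3 z₀ (g * y * g⁻¹) := ⟨o', p, s, bp, bs, m, n, cm p gp yp, cm s gs ys, by
    have := M.ncard_lam {w | Leech.permHom (CF.Comp.ev Leech.M.m C3B.w) • w = w}
    rw [C3B.main.1.card] at this
    exact le_trans (Set.ncard_le_ncard fun x a =>
      And.intro a.1 ((r'.comm_iff (o' ▸ by decide) a.1).1 a.2)) this.le⟩
  simpa [mul_assoc] using T.cj g⁻¹

end CF.Pz.J
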