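import Cfsg.Agent.Pz.J2

/-! The third Janko group and the Monster: pairs in an orthogonal subgroup. -/

set_option autoImplicit false

namespace CF.Pz.J

open Cfsg Subgroup CF.Loc CF.Even CF.LX CF.Known.Mon CF.Mx

variable {G : Type*} [Group G]

namespace J3

/-- the product over the orbit of an automorphism of order three -/
def nr (γ : MulAut G) (v : G) : G := v * γ v * γ (γ v)

theorem nr_fix {A : Subgroup G} (sq : ∀ a ∈ A, a * a = 1) {γ : MulAut G}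
    (h3 : ∀ x, γ (γ (γ x)) = x) (hA : ∀ x ∈ A, γ x ∈ A) {v : G} (hv : v ∈ A) :
    γ (nr γ v) = nr γ v := by
  rw [nr, map_mul, map_mul, h3, mul_assoc v,
    comm_of_sq sq hv (mul_mem (hA _ hv) (hA _ (hA _ hv)))]

theorem nr_mem {A : Subgroup G} {γ : MulAut G} (hA : ∀ x ∈ A, γ x ∈ A) {v : G} (hv : v ∈ A) :
    nr γ v ∈ A := mul_mem (mul_mem hv (hA _ hv)) (hA _ (hA _ hv))

theorem nr_not [Finite G] {V T : Subgroup G} (l : T ≤ V) (c : Nat.card V ≤ 2 * Nat.card T)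
    {γ : MulAut G} (hV : ∀ x ∈ V, γ x ∈ V) (hT : ∀ x ∈ V, γ x ∈ T → x ∈ T) {v : G} (hv : v ∈ V)
    (n : v ∉ T) : nr γ v ∉ T := fun r =>
  n (hT _ hv (hT _ (hV _ hv) ((mul_mem_cancel_left
    (mul_mem_of_card l c hv (hV _ hv) n (mt (hT _ hv) n))).1 r)))

theorem fix_of {T : Subgroup G} (sq : ∀ a ∈ T, a * a = 1) {α β : MulAut G}
    (a3 : ∀ x, α (α (α x)) = x) (ab : ∀ x, β (α x) = α (β x)) (hα : ∀ x ∈ T, α x ∈ T)
    (hβ : ∀ x ∈ T, β x ∈ T) {v : G} (hv : v ∈ T) (h1 : nr β v = 1) (h2 : nr (α * β) v = 1)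
    (h3 : nr (α * α * β) v = 1) : α v = v := by
  have e : β (β v) = v * β v :=
    (eq_inv_of_mul_eq_one_right h1).trans (inv_eq (sq _ (mul_mem hv (hβ _ hv))))
  simp only [nr, MulAut.mul_apply, ab, a3, e, map_mul] at h2 h3
  have x := hα _ (hβ _ hv)
  have y := hα _ x
  have u := hα _ hv
  have k := h2.trans h3.symm
  rw [mul_assoc, mul_assoc, mul_right_inj, comm_of_sq sq x (mul_mem (hα _ u) y),
    ← mul_assoc, mul_left_inj, comm_of_sq sq y u, mul_left_inj] at k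
  exact α.injective k

theorem cube {a : G} (h : a ^ 3 = 1) (x : G) :
    MulAut.conj a (MulAut.conj a (MulAut.conj a x)) = x := by
  rw [← MulAut.mul_apply, ← MulAut.mul_apply, ← map_mul, ← map_mul, ← pow_three', h, map_one,
    MulAut.one_apply]

variable [Finite G] {z x y v p : G} {A B T : Subgroup G}

theorem uniq (h : B0 z) (k : Ark z A) (k' : Ark z B) (hx : x ∈ A) (hx' : x ∈ B) (bx : IsConj z x)
    (e : v ∈ SS A x) (e' : v ∈ SS B x) (n : v ∉ QO x) : A = B := by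
  obtain ⟨a, ha, f⟩ := k.exists_SS hx e
  obtain ⟨b, hb, f'⟩ := k'.exists_SS hx' e'
  refine k.can2 h k' hx hx' bx ha hb (fun m => n ((mul_mem_cancel_right m).1 f)) ?_
  have := mul_mem (inv_mem f) f'
  rwa [mul_inv_rev, mul_assoc, inv_mul_cancel_left, inv_eq (k.sq a ha)] at this

theorem memT (w : Bp z T p A B x y) (h : B0 z) (hv : v ∈ A ⊓ B) : v ∈ T ↔ v ∈ QO x :=
  ⟨(w.symm h).TQ h, fun m => by_contra fun n => w.notQ h w.x1 w.x2 w.x3 (h.symm w.bx w.bp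
    ((mul_mem_cancel_left m).1 ((w.symm h).TQ h (mul_mem_of_card (le_inf w.l1 w.l2)
      (by rw [w.card_inf h, w.cT]) hv ⟨w.p1, w.p2⟩ n w.pT))))⟩

theorem sing (w : Two z T p A B) (h : B0 z) : Sing z (A ⊓ B) :=
  (w.inf_eq h).symm ▸ (h.Lc_ad w.sT w.bp (w.inf_L h w.p1 w.p2)).1

/-- an element of order three centralising a maximal singular subgroup is trivial -/
theorem triv (k : Ark z A) (n : Sing z T) (l : T ≤ A) (c : Nat.card T = 32) {a : G}
    (a3 : a ^ 3 = 1) (nA : a ∈ 𝐍(A)) (f : ∀ x ∈ T, a * x * a⁻¹ = x) : a = 1 := by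
  have e : A ⊓ Lc T = T := (eq_of_le_of_card_le (le_inf l n.le) (by
    have := k.card_Lc n l
    rw [c] at this
    omega)).symm
  have m : a * a ∈ 𝐂(A) := mem_centralizer_of_conj_eq fun v hv => by
    have hu := conj_mem_of_mem_normalizer nA hv
    have := f _ (e.le ((k.perp_eq n l).le ((k.mem_perp l).2 ⟨mul_mem hu hv, fun x hx => by
      rw [k.add x (l hx) _ hu _ hv]
      nth_rw 1 [← f x hx]
      rw [bb_conj, CharTwo.add_self_eq_zero]⟩)))
    rw [← conj_mul, k.comm hu hv, mul_left_inj] at this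
    exact Eq.trans (by group) this
  have m' : a ∈ 𝐂(A) := by
    have := mul_mem m m
    rwa [← mul_assoc, ← pow_three', a3, one_mul] at this
  have d := orderOf_dvd_natCard (⟨a, m'⟩ : 𝐂(A))
  rw [k.cardK, Subgroup.orderOf_mk] at d
  exact orderOf_eq_one_iff.1 (Nat.eq_one_of_dvd_coprimes (by norm_num)
    (orderOf_dvd_of_pow_eq_one a3) d)

end J3

open J3

variable [Finite G] {z₀ : G} {A₀ : Subgroup G}

theorem exists_bp (m : Mo z₀ A₀) {x y : G} {A : Subgroup G} (bx : IsConj z₀ x) (b : IsConj z₀ y)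
    (bxy : IsConj z₀ (x * y)) (n : y ∉ QO x) (k : Ark z₀ A) (x1 : x ∈ A) (y1 : y ∈ SS A x) :
    ∃ T p B, Bp z₀ T p A B x y ∧ Fa z₀ T p := by
  have h := m.b0
  have y2 : y ∉ A := fun r => ((k.opp h x1 bx r n).resolve_right fun e => e.1 b).2 bxy
  have u := k.UU_sing h (g := y)
  have xU := k.mem_UU h y2 x1 bx y1
  have sT := u.mono (inf_le_left (b := QO y))
  have a1 := k.card_UU h (k.SS_le y1) y2 (h.sq b)
  have a2 := two_le (inf_le_left : k.UU h y ⊓ QO y ≤ _) xU fun r => n (h.symm b bx r.2)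
  have a3 := half (X := k.UU h y) (Y := QO y) fun a ha c hc a1 c1 => by
    have a2 : a ≠ 1 := fun e => a1 (e ▸ one_mem _)
    have c2 : c ≠ 1 := fun e => c1 (e ▸ one_mem _)
    by_cases e : a = c
    · rw [e, h.sing_sq u c hc]; exact one_mem _
    exact h.symm (h.mul (u a ha a2).1 (u c hc c2).1 ((u a ha a2).2 hc) e) b (k.lin h
      (k.UU_le h ha) (u a ha a2).1 (k.UU_le h hc) (u c hc c2).1 ((u a ha a2).2 hc) e
      (k.UU_SS h ha a2) (k.UU_SS h hc c2) (mt (h.symm (u a ha a2).1 b) a1)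
      (mt (h.symm (u c hc c2).1 b) c1))
  obtain ⟨p, f⟩ := m.fa sT (by omega)
  have yL : y ∈ Lc (k.UU h y ⊓ QO y) := mem_Lc.2 fun t ht t1 => h.symm b (u t ht.1 t1).1 ht.2
  obtain ⟨B, k', l, -, y3⟩ := f.cov y yL
  have ne : A ≠ B := fun e => y2 (e ▸ y3)
  obtain ⟨a, ha, e⟩ := k.exists_SS x1 y1
  exact ⟨_, p, B, ⟨m.tw f k (inf_le_left.trans (k.UU_le h)) k' l ne, x1,
    Lc_anti inf_le_left (u.le xU), fun r => ne (k'.can2 h k r x1 bx y3 ha n e).symm, bx, y3, yL, y2,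
    b, n⟩, f⟩

/-- an element permuting the three involutions normalises the intersection -/
theorem J3.nV (m : Mo z₀ A₀) {T A B : Subgroup G} {p z t b : G} (w : Bp z₀ T p A B z t)
    (f : Fa z₀ T p) (bz : b * z * b⁻¹ = t) (bt : b * t * b⁻¹ = z * t) : cj[b] (A ⊓ B) = A ⊓ B := by
  have h := m.b0
  have w' := w.symm h
  have bzt : IsConj z₀ (z * t) := bt ▸ (isConj_conj b).2 w.by'
  have e1 : cj[b] A = B := by
    refine uniq h (w.k1.cj b) w.k2 (bz ▸ conj_mem_cj b w.x1) w.y1 w.by' (v := z * t) ?_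
      (mul_mem (w'.yS h) (le_SS _ _ w.y1)) (by rw [mul_mem_cancel_right (h.self w.by')]; exact w'.n)
    have := conj_mem_cj b (w.yS h)
    rwa [cj_SS, bz, bt] at this
  obtain ⟨C, k, l, -, c⟩ := f.cov _ (mul_mem w.x2 w.y2)
  have n : z * t ∉ B := by rw [mul_mem_cancel_right w.y1]; exact w.x3
  have u := m.tw f k l w.k2 w.l2 fun e => n (e ▸ c)
  have e2 : cj[b] B = C := by
    refine uniq h (w.k2.cj b) k (bt ▸ conj_mem_cj b w.y1) c bzt (v := t) ?_
      (u.mem_SS h c (mul_mem w.x2 w.y2) n bzt w.y1 w.y2 fun r =>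
        ((k.opp h ((mul_mem_cancel_right r).1 c) w.bx r w.n).resolve_right fun e => e.1 w.by').2 bzt)
      (fun r => w'.n (conj_mem_QO.1 (show b * z * b⁻¹ ∈ QO (b * t * b⁻¹) by rwa [bz, bt])))
    have := conj_mem_cj b (w'.yS h)
    rwa [cj_SS, bz, bt] at this
  rw [cj_inf, e1, e2, u.symm.inf_eq h, w.inf_eq h]

theorem ty2 (m : Mo z₀ A₀) (X : Ex z₀) {z t e r s i a b u g₁ g₂ g : G}
    (c : Cfg z t e r s i a b u g₁ g₂ g) (bz : IsConj z₀ z) (n : t ∉ QO z) {A : Subgroup G}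
    (k : Ark z₀ A) (x1 : z ∈ A) (y1 : t ∈ SS A z) : False := by
  have h := m.b0
  obtain ⟨T, p, B, w, f⟩ := exists_bp m bz (c.ct bz) (c.czt bz) n k x1 y1
  have w' := w.symm h
  have sV := sing w.toTwo h
  have sq := h.sing_sq sV
  have lT : T ≤ A ⊓ B := le_inf w.l1 w.l2
  have cV : Nat.card ↥(A ⊓ B) ≤ 2 * Nat.card T := by rw [w.card_inf h, w.cT]
  have aA := w.nA h c.az c.at'
  have az := conj_eq_iff.2 c.az
  have aV : ∀ x ∈ A ⊓ B, MulAut.conj a x ∈ A ⊓ B := fun x hx =>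
    ⟨conj_mem_of_mem_normalizer aA hx.1, conj_mem_of_mem_normalizer (w'.nA h c.at' c.az) hx.2⟩
  have bV : ∀ x ∈ A ⊓ B, MulAut.conj b x ∈ A ⊓ B := fun x hx =>
    nV m w f c.bz c.bt ▸ conj_mem_cj b hx
  have aT : ∀ x ∈ A ⊓ B, MulAut.conj a x ∈ T ↔ x ∈ T := fun x hx => by
    rw [memT w h hx, memT w h (aV x hx), ← conj_mem_QO (g := a) (a := x), az, MulAut.conj_apply]
  have bT : ∀ x ∈ A ⊓ B, MulAut.conj b x ∈ T ↔ x ∈ T := fun x hx => by
    rw [memT w h hx, memT w' h (bV x hx).symm, ← conj_mem_QO (g := b) (a := x), c.bz,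
      MulAut.conj_apply]
  have ab : ∀ x, MulAut.conj b (MulAut.conj a x) = MulAut.conj a (MulAut.conj b x) := fun x => by
    rw [← MulAut.mul_apply, ← map_mul, ← c.ab, map_mul, MulAut.mul_apply]
  obtain ⟨q, qV, qT, qa, qb⟩ : ∃ q ∈ A ⊓ B, q ∉ T ∧ MulAut.conj a q = q ∧ MulAut.conj b q = q := by
    have p1 := nr_mem aV (v := p) ⟨w.p1, w.p2⟩
    refine ⟨_, nr_mem bV p1, nr_not lT cV bV (fun x hx => (bT x hx).1) p1
      (nr_not lT cV aV (fun x hx => (aT x hx).1) ⟨w.p1, w.p2⟩ w.pT), ?_, nr_fix sq (cube c.b3) bV p1⟩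
    rw [nr, map_mul, map_mul, ← ab, ← ab, ← ab, nr_fix sq (cube c.a3) aV ⟨w.p1, w.p2⟩]
  have q1 : q ≠ 1 := fun e => qT (e ▸ one_mem _)
  have bq := (sV q qV q1).1
  have qz : q ∉ QO z := mt (memT w h qV).2 qT
  have na : ¬ Th3 z₀ a := fun r => ((k.opp h x1 bz qV.1 qz).resolve_right fun e => e.1 bq).2
    (X.inv a _ r (k.sq _ (mul_mem x1 qV.1))
      (fun e => qz ((mul_mem_cancel_left (h.self bz)).1 (e ▸ one_mem _)))
      (conj_eq_iff.1 (by rw [← conj_mul, az]; exact congrArg _ qa)).symm)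
  have key : ∀ y : G, y ^ 3 = 1 → MulAut.conj y q = q → y * z * y⁻¹ = t → y * t * y⁻¹ = z * t →
      (∀ x ∈ T, MulAut.conj y x ∈ T) → ¬ Th3 z₀ y → ∀ v ∈ T, nr (MulAut.conj y) v = 1 :=
    fun y y3 yq yz yt yT ny v hv => by_contra fun s1 => by
      have sT := nr_mem yT hv
      exact ny (th3_of h bq (w.sT _ sT s1).1 ((sV q qV q1).2 (lT sT)) (fun e => qT (e ▸ sT))
        (mem_Lc.1 w.x2 _ sT s1) (k.comm x1 qV.1) (mt (h.symm bq bz) qz) x1 w.y1 qV.2
        (k.nrm q qV.1 bq) (w.k2.nrm q qV.2 bq)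
        (fun v v1 v2 => (em (v = 1)).imp id fun e => (sV v ⟨v1, v2⟩ e).1)
        (orderOf_eq_prime y3 fun e => c.tz' (by simpa [e] using yz.symm)) (conj_eq_iff.1 yq)
        (conj_eq_iff.1 (nr_fix (h.sing_sq w.sT) (cube y3) yT hv)) yz yt)
  have aT' : ∀ x ∈ T, MulAut.conj a x ∈ T := fun x hx => (aT x (lT hx)).2 hx
  have bT' : ∀ x ∈ T, MulAut.conj b x ∈ T := fun x hx => (bT x (lT hx)).2 hx
  have at' := conj_eq_iff.2 c.at'
  have ai : a⁻¹ = a * a := inv_eq_of_mul_eq_one_left (by rw [← pow_three', c.a3])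
  have cm : Commute a b := c.ab
  have mv : ∀ {y x v : G}, y * x * y⁻¹ = v → a * v * a⁻¹ = v → a * y * x * (a * y)⁻¹ = v :=
    fun e f => by rw [← f, ← e]; group
  have azt : a * (z * t) * a⁻¹ = z * t := by rw [← conj_mul, az, at']
  have h1 := key b c.b3 qb c.bz c.bt bT' fun r => X.cube b u r c.u3
  have h2 := key (a * b) (by rw [cm.mul_pow, c.a3, c.b3, one_mul]) (mv qb qa) (mv c.bz at')
    (mv c.bt azt) (fun x hx => by rw [map_mul]; exact aT' _ (bT' x hx)) fun r => na (by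
      have := (r.cj g₁⁻¹).inv
      rwa [← c.c1, show (g₁⁻¹ * (g₁ * a⁻¹ * g₁⁻¹) * g₁⁻¹⁻¹)⁻¹ = a by group] at this)
  have h3 := key (a * (a * b)) (by
      rw [((Commute.refl a).mul_right cm).mul_pow, cm.mul_pow, c.a3, c.b3, one_mul, one_mul])
    (mv (mv qb qa) qa) (mv (mv c.bz at') at') (mv (mv c.bt azt) azt)
    (fun x hx => by rw [map_mul, map_mul]; exact aT' _ (aT' _ (bT' x hx))) fun r => na (by
      have := r.cj g₂⁻¹
      rwa [← mul_assoc a, ← ai, ← c.c2, show g₂⁻¹ * (g₂ * a * g₂⁻¹) * g₂⁻¹⁻¹ = a by group] at this)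
  rw [map_mul] at h2
  rw [← mul_assoc, map_mul, map_mul] at h3
  have fx : ∀ v ∈ T, a * v * a⁻¹ = v := fun v hv =>
    fix_of (h.sing_sq w.sT) (cube c.a3) ab aT' bT' hv (h1 v hv) (h2 v hv) (h3 v hv)
  refine c.a1 (triv k (w.k1.UU_sing h (g := t)) (w.k1.UU_le h) (w.cU h) c.a3 aA fun x hx => ?_)
  by_cases e : x ∈ T
  · exact fx x e
  have := fx _ (mul_mem_of_card (w.le_UU h w.y1 w.y2 w.y3) (by rw [w.cU h, w.cT]) (w.xU h) hx
    (fun r => w.x3 (w.l2 r)) e)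
  rwa [← conj_mul, az, mul_right_inj] at this

end CF.Pz.J
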