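import Cfsg.Agent.Pz.JA
import Cfsg.Agent.Leech.M24
import Cfsg.Agent.Leech.Punct
import Cfsg.Agent.S0384

/-! The third Janko group and the Monster: the stabiliser of a dodecad. -/

set_option autoImplicit false

namespace CF.Pz.J

open Cfsg Subgroup CF.Leech CF.Leech.M CF.Loc CF.Even CF.LX CF.Known.Mon CF.Mx
open scoped Pointwise

variable {G : Type*} [Group G]

section
variable {D T : Finset GolayPt} {σ τ : M24} {x : GolayPt}

theorem five (hD : D ∈ dodecads) (st : (σ : Pm) • D = D) (s : T ⊆ D) (c : 5 ≤ T.card)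
    (f : ∀ p ∈ T, (σ : Pm) p = p) : σ = 1 := by
  obtain ⟨U, hU, cU⟩ := Finset.exists_subset_card_eq c
  let x : Fin 5 ↪ GolayPt := (U.equivFinOfCardEq cU).symm.toEmbedding.trans (Function.Embedding.subtype _)
  have hx : ∀ i, x i ∈ T := fun i => hU ((U.equivFinOfCardEq cU).symm i).2
  exact congrArg Subtype.val ((Cfsg.Agent.S0384.result D hD x x (fun i => s (hx i)) fun i => s (hx i)).unique
    (y₁ := ⟨σ, st⟩) (y₂ := 1) (fun i => f _ (hx i)) fun i => rfl)

theorem moved (hD : D ∈ dodecads) (st : (σ : Pm) • D = D) (s : T ⊆ D) (c : T.card = 4)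
    (f : ∀ p ∈ T, (σ : Pm) p = p) (n : σ ≠ 1) (hx : x ∈ D) (xT : x ∉ T) :
    (σ : Pm) x ∈ D ∧ (σ : Pm) x ∉ insert x T := by
  have k : (σ : Pm) x ≠ x := fun e => n (five hD st (Finset.insert_subset hx s)
    (by rw [Finset.card_insert_of_notMem xT, c]) (by simpa [e] using f))
  refine ⟨st ▸ apply_mem_smul_finset.2 hx, fun h => (Finset.mem_insert.1 h).elim k fun h => ?_⟩
  exact k ((σ : Pm).injective (f _ h))

theorem oct (hD : D ∈ dodecads) (st : (σ : Pm) • D = D) (s : T ⊆ D) (c : T.card = 4)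
    (f : ∀ p ∈ T, (σ : Pm) p = p) (n : σ ≠ 1) (q : σ * σ = 1) (hx : x ∈ D) (xT : x ∉ T) :
    ∃ O ∈ octads, insert x T ⊆ O ∧ (σ : Pm) x ∈ O := by
  obtain ⟨a, b⟩ := moved hD st s c f n hx xT
  have qq : ∀ p, (σ : Pm) ((σ : Pm) p) = p := fun p => congrArg (fun k : M24 => (k : Pm) p) q
  obtain ⟨d, hd⟩ : T.Nonempty := Finset.card_pos.1 (by omega)
  set S := insert ((σ : Pm) x) (insert x (T.erase d)) with hS
  have cS : S.card = 5 := by
    rw [hS, Finset.card_insert_of_notMem fun h => b (Finset.insert_subset_insert _ (T.erase_subset d) h),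
      Finset.card_insert_of_notMem fun h => xT (T.erase_subset d h), Finset.card_erase_of_mem hd, c]
  have iS : ∀ p ∈ S, (σ : Pm) p ∈ S := by
    simp only [hS, Finset.forall_mem_insert, qq]
    exact ⟨by simp, by simp, fun p hp => by rw [f p (T.erase_subset d hp)]; simp [hp]⟩
  obtain ⟨O, ⟨hO, sO⟩, -⟩ := steiner_octads.2 S cS
  have eO : (σ : Pm) • O = O := steiner_eq_of_subset steiner_octads (smul_mem_octads σ.2 hO) hO
    (fun p hp => qq p ▸ apply_mem_smul_finset.2 (sO (iS p hp))) sO cS.ge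
  have sD : S ⊆ O ∩ D := Finset.subset_inter sO (Finset.insert_subset a (Finset.insert_subset hx
    ((T.erase_subset d).trans s)))
  have c6 : ((O ∩ D) \ S).card = 1 := by
    have := Finset.card_le_card sD
    have := octad_inter_dodecad hO hD
    rw [Finset.card_sdiff_of_subset sD]
    omega
  obtain ⟨w, hw⟩ := Finset.card_eq_one.1 c6
  have w1 : w ∈ (O ∩ D) \ S := hw ▸ Finset.mem_singleton_self w
  have w2 : (σ : Pm) w = w := Finset.mem_singleton.1 (hw ▸ by
    simp only [Finset.mem_sdiff, Finset.mem_inter] at w1 ⊢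
    exact ⟨⟨eO ▸ apply_mem_smul_finset.2 w1.1.1, st ▸ apply_mem_smul_finset.2 w1.1.2⟩,
      fun h => w1.2 (qq w ▸ iS _ h)⟩)
  simp only [Finset.mem_sdiff, Finset.mem_inter] at w1
  have w3 : w ∈ T := by_contra fun h => (moved hD st s c f n w1.1.2 h).2 (by simp [w2])
  obtain rfl : w = d := by_contra fun h => w1.2 (by simp [hS, h, w3])
  refine ⟨O, hO, fun p hp => ?_, sO (by simp [hS])⟩
  by_cases e : p = w
  · exact e ▸ w1.1.1
  · exact sO (by simp only [hS, Finset.mem_insert, Finset.mem_erase] at hp ⊢; tauto)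

theorem four (hD : D ∈ dodecads) (s : T ⊆ D) (c : T.card = 4) (st : (σ : Pm) • D = D)
    (f : ∀ p ∈ T, (σ : Pm) p = p) (n : σ ≠ 1) (q : σ * σ = 1) (st' : (τ : Pm) • D = D)
    (f' : ∀ p ∈ T, (τ : Pm) p = p) (n' : τ ≠ 1) (q' : τ * τ = 1) : σ = τ := by
  obtain ⟨x, hx, xT⟩ := Finset.exists_mem_notMem_of_card_lt_card (s := T) (t := D) (by rw [c, hD.2]; decide)
  obtain ⟨O, hO, a, b⟩ := oct hD st s c f n q hx xT
  obtain ⟨O', hO', a', b'⟩ := oct hD st' s c f' n' q' hx xT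
  have c5 : (insert x T).card = 5 := by rw [Finset.card_insert_of_notMem xT, c]
  obtain rfl := steiner_eq_of_subset steiner_octads hO hO' a a' c5.ge
  obtain ⟨u, v⟩ := moved hD st s c f n hx xT
  obtain ⟨u', v'⟩ := moved hD st' s c f' n' hx xT
  have e : (τ : Pm) x = (σ : Pm) x := by_contra fun h => by
    have := Finset.card_le_card (Finset.insert_subset (Finset.mem_inter.2 ⟨b', u'⟩) (Finset.insert_subset
      (Finset.mem_inter.2 ⟨b, u⟩) (Finset.subset_inter a (Finset.insert_subset hx s))))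
    rw [Finset.card_insert_of_notMem fun k => (Finset.mem_insert.1 k).elim h v',
      Finset.card_insert_of_notMem v, c5] at this
    have := octad_inter_dodecad hO hD
    omega
  have k : σ * τ = 1 := five hD (by rw [coe_mul, mul_smul, st', st]) (Finset.insert_subset hx s) c5.ge (by
    simp only [Finset.forall_mem_insert, coe_mul, Equiv.Perm.mul_apply, e]
    exact ⟨congrArg (fun k : M24 => (k : Pm) x) q, fun p hp => by rw [f' p hp, f p hp]⟩)
  exact mul_left_cancel (q.trans k.symm)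

theorem fix4 (hD : D ∈ dodecads) (s : T ⊆ D) (c : T.card = 4) (H : Subgroup M24) (sq : ∀ k ∈ H, k * k = 1)
    (st : ∀ k ∈ H, (k : Pm) • D = D) (f : ∀ k ∈ H, ∀ p ∈ T, (k : Pm) p = p) : Nat.card H ≤ 2 := by
  by_cases e : H = ⊥
  · simp [e]
  obtain ⟨⟨σ, hσ⟩, n⟩ := ne_bot_iff_exists_ne_one.1 e
  have n : σ ≠ 1 := fun e => n (Subtype.ext e)
  refine (card_le_of_le (show H ≤ zpowers σ from fun τ hτ => ?_)).trans
    (by rw [Nat.card_zpowers, orderOf_eq_prime (p := 2) (by rw [pow_two, sq σ hσ]) n])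
  by_cases e : τ = 1
  · simp [e]
  · exact four hD s c (st _ hσ) (f _ hσ) n (sq _ hσ) (st _ hτ) (f _ hτ) e (sq _ hτ) ▸ mem_zpowers σ

/-- the orbit of a point -/
noncomputable def orb (K : Subgroup M24) (x : GolayPt) : Finset GolayPt := (MulAction.orbit K x).toFinite.toFinset

theorem mem_orb {K : Subgroup M24} {p : GolayPt} : p ∈ orb K x ↔ ∃ k ∈ K, (k : Pm) x = p := by
  rw [orb, Set.Finite.mem_toFinset]
  exact ⟨fun ⟨a, d⟩ => ⟨a, a.2, d⟩, fun ⟨a, c, d⟩ => ⟨⟨a, c⟩, d⟩⟩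

theorem card_orb (K : Subgroup M24) (x : GolayPt) :
    (orb K x).card * Nat.card ↥(K ⊓ MulAction.stabilizer M24 x) = Nat.card K := by
  rw [orb, ← Set.ncard_eq_toFinset_card, ← MulAction.index_stabilizer, ← (MulAction.stabilizer K x).index_mul_card,
    ← Nat.card_congr (subgroupOfEquivOfLe (inf_le_left : K ⊓ MulAction.stabilizer M24 x ≤ K)).toEquiv,
    inf_subgroupOf_left]
  rfl

end

theorem no16 {D : Finset GolayPt} (hD : D ∈ dodecads) (K : Subgroup M24) (sq : ∀ k ∈ K, k * k = 1)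
    (st : ∀ k ∈ K, (k : Pm) • D = D) : Nat.card K ≤ 8 := by
  haveI := Fact.mk Nat.prime_two
  have oD : ∀ x ∈ D, orb K x ⊆ D := fun x hx p hp => by
    obtain ⟨k, hk, rfl⟩ := mem_orb.1 hp
    exact st k hk ▸ apply_mem_smul_finset.2 hx
  have fo : ∀ h ∈ K, ∀ x, (h : Pm) x = x → ∀ p ∈ orb K x, (h : Pm) p = p := fun h hh x e p hp => by
    obtain ⟨k, hk, rfl⟩ := mem_orb.1 hp
    rw [← Equiv.Perm.mul_apply, ← coe_mul, comm_of_sq sq hh hk, coe_mul, Equiv.Perm.mul_apply, e]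
  have so : ∀ x, x ∈ orb K x := fun x => mem_orb.2 ⟨1, one_mem _, rfl⟩
  by_contra big
  have sm : ∀ x ∈ D, (orb K x).card ≤ 2 := fun x hx => by
    have c := card_orb K x
    obtain ⟨a, ha⟩ := IsPGroup.iff_card.1 (pg_of_sq sq)
    obtain ⟨b, -, hb⟩ := (Nat.dvd_prime_pow Nat.prime_two).1 (ha ▸ Dvd.intro _ c)
    have l := Finset.card_le_card (oD x hx)
    rw [hD.2, hb] at l
    have : b ≤ 3 := by_contra fun h => by
      have := Nat.pow_le_pow_right two_pos (not_le.1 h)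
      omega
    interval_cases b
    · omega
    · omega
    · have := fix4 hD (oD x hx) hb (K ⊓ MulAction.stabilizer M24 x) (fun k h => sq k h.1) (fun k h => st k h.1)
        fun k h => fo k h.1 x h.2
      rw [hb] at c
      omega
    · rw [(eq_bot_iff_forall (K ⊓ MulAction.stabilizer M24 x)).2 fun k h =>
        five hD (st k h.1) (oD x hx) (by omega) (fo k h.1 x h.2), card_bot, hb] at c
      omega
  have mv : ∀ H ≤ K, 1 < Nat.card H → ∃ x ∈ D, ∃ k ∈ H, (k : Pm) x ≠ x := fun H l c => by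
    by_contra! h
    rw [(eq_bot_iff_forall _).2 fun k hk => five hD (st k (l hk)) subset_rfl (by rw [hD.2]; decide)
      fun p hp => h p hp k hk, card_bot] at c
    omega
  have two : ∀ x ∈ D, ∀ k ∈ K, (k : Pm) x ≠ x → (orb K x).card = 2 := fun x hx k hk n =>
    (sm x hx).antisymm (Finset.one_lt_card.2 ⟨_, mem_orb.2 ⟨k, hk, rfl⟩, _, so x, n⟩)
  obtain ⟨x, hx, k, hk, n⟩ := mv K le_rfl (by omega)
  have c := card_orb K x
  rw [two x hx k hk n] at c
  obtain ⟨y, hy, l, hl, m⟩ := mv (K ⊓ MulAction.stabilizer M24 x) inf_le_left (by omega)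
  have c' := card_orb (K ⊓ MulAction.stabilizer M24 x) y
  have l2 : (orb (K ⊓ MulAction.stabilizer M24 x) y).card ≤ 2 := (Finset.card_le_card fun p hp =>
    have ⟨a, b, e⟩ := mem_orb.1 hp; mem_orb.2 ⟨a, b.1, e⟩).trans (sm y hy)
  have := fix4 hD (Finset.union_subset (oD x hx) (oD y hy)) (by
    rw [Finset.card_union_of_disjoint, two x hx k hk n, two y hy l hl.1 m]
    refine Finset.disjoint_left.2 fun p hp hq => m (fo l hl.1 p (fo l hl.1 x hl.2 p hp) y ?_)
    obtain ⟨a, ha, rfl⟩ := mem_orb.1 hq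
    exact mem_orb.2 ⟨a, ha, congrArg (fun k : M24 => (k : Pm) y) (sq a ha)⟩)
    (K ⊓ MulAction.stabilizer M24 x ⊓ MulAction.stabilizer M24 y) (fun k h => sq k h.1.1) (fun k h => st k h.1.1)
    fun k h p hp => (Finset.mem_union.1 hp).elim (fo k h.1.1 x h.1.2 p) (fo k h.1.1 y h.2 p)
  have := Nat.mul_le_mul l2 this
  omega

theorem card16 [Finite G] {σ τ σ' τ' α : G} (ss : σ * σ = 1) (tt : τ * τ = 1) (e1 : α * σ * α⁻¹ = σ')
    (e2 : α * σ' * α⁻¹ = σ * σ') (f1 : α * τ * α⁻¹ = τ') (f2 : α * τ' * α⁻¹ = τ * τ')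
    (c1 : τ * σ = σ * τ) (c2 : τ' * σ = σ * τ') (c3 : τ * σ' = σ' * τ) (n1 : σ ≠ 1) (n2 : τ ≠ 1)
    (n3 : τ * σ ≠ 1) (n4 : τ' * σ ≠ 1) (n5 : τ * σ' ≠ 1) :
    16 ≤ Nat.card (closure {σ, σ', τ, τ'}) ∧ ∀ k ∈ closure {σ, σ', τ, τ'}, k * k = 1 := by
  have cs : ∀ {a b : G}, a * a = 1 → α * a * α⁻¹ = b → b * b = 1 := fun h e => by
    rw [← e, conj_mul, h, mul_one, mul_inv_cancel]
  have cm : ∀ {a b : G}, a * a = 1 → b * b = 1 → a * b * (a * b) = 1 → a * b = b * a := fun h k e => by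
    rw [← inv_eq_of_mul_eq_one_right e, mul_inv_rev, inv_eq_of_mul_eq_one_right h, inv_eq_of_mul_eq_one_right k]
  have ss' := cs ss e1
  have tt' := cs tt f1
  have c4 := cm ss ss' (cs ss' e2)
  have c5 := cm tt tt' (cs tt' f2)
  have c6 : τ' * σ' = σ' * τ' := by rw [← e1, ← f1, conj_mul, conj_mul, c1]
  set K := closure {σ, σ', τ, τ'}
  have cK : ∀ a ∈ K, ∀ b ∈ K, b * a = a * b := fun a ha => by
    have := (closure_le (centralizer {σ, σ', τ, τ'})).2 (by
      simp [Set.insert_subset_iff, mem_centralizer_iff, c1, c2, c3, c4, c5, c6]) ha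
    rwa [← centralizer_closure] at this
  have sq : ∀ k ∈ K, k * k = 1 := fun k hk => by
    induction hk using closure_induction with
    | mem x hx => rcases hx with rfl | rfl | rfl | rfl <;> assumption
    | one => exact mul_one 1
    | mul x y hx hy a b => rw [mul_assoc, ← mul_assoc y, cK x hx y hy, mul_assoc, b, mul_one, a]
    | inv x _ a => rw [← mul_inv_rev, a, inv_one]
  refine ⟨?_, sq⟩
  have nr : ∀ X ≤ K, ∀ g ∈ K, g ∈ 𝐍(X) := fun X l g hg =>
    centralizer_le_normalizer _ fun b hb => cK g hg b (l hb)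
  have m1 : σ ∈ K := subset_closure (by simp)
  have m2 : σ' ∈ K := subset_closure (by simp)
  have m3 : τ ∈ K := subset_closure (by simp)
  have m4 : τ' ∈ K := subset_closure (by simp)
  have l1 := zpowers_le.2 m1
  have l2 := sup_le l1 (zpowers_le.2 m2)
  have l3 := sup_le l2 (zpowers_le.2 m3)
  have ne : ∀ {a b : G}, a ≠ 1 → α * a * α⁻¹ = b → b ≠ 1 := fun h e => by simpa [← e] using h
  have z1 : ∀ y, y ∈ zpowers σ → y = 1 ∨ y * σ = 1 := fun y h => ((mem_zp ss).1 h).imp_right fun e => by rw [e, ss]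
  have k1 : σ' ∉ zpowers σ := fun h => (z1 _ h).elim (ne n1 e1) (c4 ▸ ne (ne n1 e1) e2)
  have nα : α ∈ 𝐍(zpowers σ ⊔ zpowers σ') := mem_normalizer_fintype fun w hw =>
    (sup_le (zpowers_le.2 (by simpa [e1] using mem_sup_right (mem_zpowers σ'))) (zpowers_le.2 (by
      simpa [e2] using mul_mem (mem_sup_left (mem_zpowers σ)) (mem_sup_right (mem_zpowers σ')))) :
      _ ≤ comap (MulAut.conj α).toMonoidHom (zpowers σ ⊔ zpowers σ')) hw
  have k2 : τ ∉ zpowers σ ⊔ zpowers σ' := fun h => by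
    rcases (mem_ad (nr _ l1 _ m2) ss').1 h with h | h <;> rcases z1 _ h with h | h
    exacts [n2 h, n3 h, n5 h, n4 (by
      rw [← f1, eq_inv_of_mul_eq_one_left ((mul_assoc ..).symm.trans h), mul_inv_rev, inv_eq_of_mul_eq_one_right ss,
        inv_eq_of_mul_eq_one_right ss', ← conj_mul, e1, e2, c4, ← mul_assoc, ss', one_mul, ss])]
  have k3 : τ' ∉ zpowers σ ⊔ zpowers σ' := fun h => k2 ((mem_normalizer_iff.1 nα τ).2 (f1 ▸ h))
  have k4 : τ' ∉ zpowers σ ⊔ zpowers σ' ⊔ zpowers τ := fun h => ((mem_ad (nr _ l2 _ m3) tt).1 h).elim k3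
    fun h => k3 ((mem_normalizer_iff.1 nα τ').2 (f2 ▸ c5 ▸ h))
  refine le_trans (le_of_eq ?_) (card_le_of_le (sup_le l3 (zpowers_le.2 m4)))
  rw [card_ad (nr _ l3 _ m4) tt' k4, card_ad (nr _ l2 _ m3) tt k2, card_ad (nr _ l1 _ m2) ss' k1,
    Nat.card_zpowers, orderOf_eq_prime (p := 2) (by rw [pow_two, ss]) n1]

end CF.Pz.J
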