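import Cfsg.Agent.Pz.JB

/-! The third Janko group and the Monster: the common neighbour of a dodecad pair. -/

set_option autoImplicit false

namespace CF.Pz.J

open Cfsg Subgroup CF.Leech CF.Loc CF.Even CF.LX CF.Known.Mon CF.Mx

variable {G : Type*} [Group G]

namespace J5a

variable {v μ : LL} {D O : Finset GolayPt}

theorem sum_le (v : LL) (E : Finset GolayPt) {n : ℤ} (h : ∀ i ∈ E, n ≤ (v : V) i ^ 2) :
    E.card * n ≤ nm v := by
  have a := Finset.card_nsmul_le_sum E _ n h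
  rw [nsmul_eq_mul] at a
  exact a.trans (Finset.sum_le_sum_of_subset_of_nonneg E.subset_univ fun _ _ _ => sq_nonneg _)

theorem shape0 (n : nm v = 64) (d : ∀ i, (4 : ℤ) ∣ (v : V) i) (c : 8 ≤ D.card) (c' : 8 ≤ Dᶜ.card)
    {p : GolayPt} (hp : (v : V) p < 0) :
    red v = w8 ∨ ∃ p q, p ≠ q ∧ (p ∈ D ↔ q ∈ D) ∧ nm (v + p4 p q) = 64 := by
  have a := sq_le_sqNorm (v : V) p
  have b := d p
  have z0 : ∀ E : Finset GolayPt, 8 ≤ E.card → ∃ q ∈ E, (v : V) q = 0 := fun E c => by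
    by_contra k
    push Not at k
    have := sum_le v E (n := 16) fun i hi => by
      obtain ⟨a, e⟩ := d i
      have := k i hi
      have : a ≤ -1 ∨ 1 ≤ a := by omega
      rw [e]
      rcases this with h | h <;> nlinarith
    omega
  change _ ≤ nm v at a
  have : (v : V) p = -8 ∨ (v : V) p = -4 := by
    have : -8 ≤ (v : V) p := by nlinarith
    omega
  refine this.imp (fun e => ?_) fun e => ?_
  · rw [eq_neg_of_add_eq_zero_left (nm_eq_zero.1 (show nm (v + e8 p) = 0 by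
      rw [nm_add, n, nm_e8, dt_e8, e]; rfl)), red_neg, red_e8']
  · obtain ⟨q, q1, q2⟩ : ∃ q, (p ∈ D ↔ q ∈ D) ∧ (v : V) q = 0 := by
      by_cases k : p ∈ D
      · exact (z0 D c).imp fun q r => ⟨iff_of_true k r.1, r.2⟩
      · exact (z0 Dᶜ c').imp fun q r => ⟨iff_of_false k (Finset.mem_compl.1 r.1), r.2⟩
    have ne : p ≠ q := fun k => by rw [k, q2] at hp; exact hp.false
    exact ⟨p, q, ne, q1, by rw [nm_add, n, nm_p4 ne, dt_p4, e, q2]; rfl⟩

theorem shape (n : nm v = 64) (P : Pat v ∅ ∨ Pat v Finset.univ) (c : 8 ≤ D.card)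
    (c' : 8 ≤ Dᶜ.card) : red v = w8 ∨ ∃ v', red v' = red v ∧
      ∃ p q, p ≠ q ∧ (p ∈ D ↔ q ∈ D) ∧ nm (v' + p4 p q) = 64 := by
  have d : ∀ i, (4 : ℤ) ∣ (v : V) i := by
    rcases P with P | P
    · simpa [Pat, ind] using P
    have := sum_le v Finset.univ (n := 4) fun i _ => by
      have := P i
      simp only [ind, Finset.mem_univ, if_true] at this
      have : (v : V) i ≤ -2 ∨ 2 ≤ (v : V) i := by omega
      rcases this with h | h <;> nlinarith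
    rw [Finset.card_univ, card_pts] at this
    omega
  obtain ⟨p, hp⟩ : ∃ p, (v : V) p ≠ 0 := by
    by_contra k
    push Not at k
    exact ne_zero_of_nm n (by decide) (Subtype.ext (funext k))
  rcases hp.lt_or_gt with k | k
  · exact (shape0 n d c c' k).imp id fun r => ⟨v, rfl, r⟩
  · exact (shape0 (v := -v) (p := p) ((nm_neg v).trans n) (fun i => (d i).neg_right) c c'
      (neg_neg_of_pos k)).imp (red_neg v).symm.trans fun r => ⟨-v, red_neg v, r⟩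

theorem exists_sign (hO : O ∈ octads) (P : Pat μ O) : ∃ c, ∃ hc : c ∈ CS, O ∩ c = ∅ ∧ c ≠ ∅ ∧
    c ≠ Oᶜ ∧ ep hc • red μ = red μ := by
  let y : Finset GolayPt → V := fun c i => if i ∈ c then -((μ : V) i / 4) else 0
  have key : ∀ c (hc : c ∈ CS), O ∩ c = ∅ → (2 : ℤ) ∣ ∑ i, y c i → ep hc • red μ = red μ :=
    fun c hc e k => by
      rw [← red_smul]
      refine red_eq_iff.2 ⟨⟨_, four_mem k⟩, Subtype.ext (funext fun i => ?_)⟩
      have := P i
      have := Finset.ext_iff.1 e i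
      simp only [AddSubgroup.coe_sub, Pi.sub_apply, ep_apply, two_nsmul, AddSubgroup.coe_add,
        Pi.add_apply, Pi.smul_apply, smul_eq_mul, y, ind, Finset.mem_inter, Finset.notMem_empty] at *
      split_ifs at * <;> first | omega | tauto
  have n := meet24 card_pts steiner_octads hO ∅ O.empty_subset
  obtain ⟨a, a1, a2⟩ := Set.nonempty_of_ncard_ne_zero (n.trans_ne (by decide))
  obtain ⟨b, ⟨b1, b2⟩, b3⟩ := Set.exists_mem_notMem_of_ncard_lt_ncard (s := {a, symmDiff a Oᶜ})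
    (t := {c | c ∈ octads ∧ O ∩ c = ∅})
    ((Set.ncard_insert_le _ _).trans_lt (by rw [n, Set.ncard_singleton]; decide))
  have o : ∀ c ∈ octads, c ≠ ∅ ∧ c ≠ Oᶜ := fun c hc =>
    ⟨fun e => by have := hc.2; rw [e] at this; exact absurd this (by decide), fun e => by
      have := hc.2
      rw [e, Finset.card_compl, hO.2, card_pts] at this
      omega⟩
  by_cases ka : (2 : ℤ) ∣ ∑ i, y a i
  · exact ⟨a, a1.1, a2, (o a a1).1, (o a a1).2, key a _ a2 ka⟩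
  by_cases kb : (2 : ℤ) ∣ ∑ i, y b i
  · exact ⟨b, b1.1, b2, (o b b1).1, (o b b1).2, key b _ b2 kb⟩
  have e : O ∩ symmDiff a b = ∅ := Finset.ext fun i => by
    have := Finset.ext_iff.1 a2 i
    have := Finset.ext_iff.1 b2 i
    simp only [Finset.mem_inter, Finset.mem_symmDiff, Finset.notMem_empty] at *
    tauto
  have f : ∑ i, y (symmDiff a b) i + 2 * ∑ i, y (a ∩ b) i = ∑ i, y a i + ∑ i, y b i := by
    simp only [Finset.mul_sum, ← Finset.sum_add_distrib]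
    refine Finset.sum_congr rfl fun i _ => ?_
    simp only [y, Finset.mem_inter, Finset.mem_symmDiff]
    split_ifs <;> first | omega | tauto
  exact ⟨_, symmDiff_mem_CS a1.1 b1.1, e, fun k => b3 (.inl (symmDiff_eq_bot.1 k).symm),
    fun k => b3 (.inr (by rw [← k, symmDiff_symmDiff_cancel_left]; rfl)), key _ _ e (by omega)⟩

variable [Finite G] {z t s : G} {M : MT (QO s) s}

theorem pat (F : Fr s z M) (tz : t * z = z * t) (n : t ∉ QO z) (s2 : t ∈ QO s) :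
    ∃ μ D, M.lam t = red μ ∧ Pat μ D ∧ 8 ≤ D.card ∧ 8 ≤ Dᶜ.card := by
  obtain ⟨μ, l⟩ := red_surjective (M.lam t)
  obtain ⟨D, P⟩ := exists_pat ((F.ev s2 l.symm).1 tz)
  have k := mt (F.memW s2 l.symm).2 n
  exact ⟨μ, D, l.symm, P, eight_le_card P.mem fun e => k (.inl (e ▸ P)),
    eight_le_card (compl_mem_CS P.mem) fun e => k (.inr (Finset.compl_eq_empty_iff _ |>.1 e ▸ P))⟩

end J5a

open J5a

variable [Finite G] {z₀ : G} {A₀ : Subgroup G}

theorem ty3_fix (m : Mo z₀ A₀) {z t s : G} (bz : IsConj z₀ z) (tt : t * t = 1) (tz : t * z = z * t)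
    (n : t ∉ QO z) (na : ¬ ∃ A, Ark z₀ A ∧ z ∈ A ∧ t ∈ SS A z) (s1 : s ∈ QO z) (bs : IsConj z₀ s)
    (s2 : t ∈ QO s) : ∀ q ∈ QO z, q * q = 1 → q * t = t * q → q ∈ QO s :=
  (m.tri' bz s1 bs (fun e => n (e ▸ s2)) s2 tz n).resolve_left
    fun ⟨g, p, _, q, r, u⟩ => na ⟨_, m.ark.cj g, p, (m.ark.cj g).mem_SS_of m.b0 p bz q r u tt⟩

theorem ty3_uniq (m : Mo z₀ A₀) {z t : G} (bz : IsConj z₀ z) (tt : t * t = 1) (tz : t * z = z * t)
    (n : t ∉ QO z) (na : ¬ ∃ A, Ark z₀ A ∧ z ∈ A ∧ t ∈ SS A z) :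
    ∃! s, s ∈ QO z ∧ IsConj z₀ s ∧ t ∈ QO s := by
  have h := m.b0
  obtain ⟨⟨s, s1, bs, -, s2⟩, -⟩ := m.gd' bz tt tz n
  refine ⟨s, ⟨s1, bs, s2⟩, fun x ⟨x1, bx, x2⟩ => by_contra fun ne => ?_⟩
  have zs := h.symm bz bs s1
  obtain ⟨M, F⟩ := exists_fr h bs bz zs fun e => n (e ▸ s2)
  obtain ⟨μ, D, l, P, c, c'⟩ := pat F tz n s2
  have xs := ty3_fix m bz tt tz n na s1 bs s2 x x1 (h.sq bx) (QO_comm x2).symm
  obtain ⟨v, nv, lv⟩ := (M.conj_iff xs).1 ⟨bs.symm.trans bx, ne⟩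
  rcases shape nv ((F.memW xs lv).1 x1) c c' with e | ⟨v', e, p, q, pq, d, k⟩
  · rcases (M.lam_eq_iff xs zs).1 (lv.trans (e.trans F.ls.symm)) with f | f
    · exact n (f ▸ x2)
    have := h.inf_le bs bx xs (Ne.symm ne) ⟨s2, x2⟩
    rw [f, ← mul_assoc, h.sq bs, one_mul] at this
    exact n this
  obtain ⟨w, w1, w2, ww, lw⟩ := F.exists_w pq
  have nc := M.not_conj w1 lw (nm_p4 pq)
  exact nc (((M.conj_iff (mul_mem xs w1)).2 ⟨_, k, by
    rw [M.lam_mul _ xs _ w1, lv, lw, map_add, e]⟩).1.trans (h.conj_mul bx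
      (ty3_fix m bz tt tz n na x1 bx x2 w w2 ww ((Fr.w_pat s2 l P w1 lw).2 d).symm)
      (M.ne_of_lam w1 (lw ▸ red_ne_zero (ne_zero_of_nm (nm_p4 pq) (by decide))
        (by rw [nm_p4 pq]; decide))).1 fun e => nc (e ▸ bs.symm.trans bx)).symm)

theorem ty3_dod (h : B0 z₀) {z t s : G} (bz : IsConj z₀ z) (bs : IsConj z₀ s) {M : MT (QO s) s}
    (F : Fr s z M) (tt : t * t = 1) (tz : t * z = z * t) (n : t ∉ QO z) (s2 : t ∈ QO s)
    (H : ∀ q ∈ QO z, q * q = 1 → q * t = t * q → q ∈ QO s) :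
    ∃ μ, ∃ D ∈ dodecads, M.lam t = red μ ∧ Pat μ D := by
  obtain ⟨μ, D, l, P, c, c'⟩ := pat F tz n s2
  have cc : Dᶜ.card = 24 - D.card := by rw [Finset.card_compl, card_pts]
  by_cases e : D.card = 12
  · exact ⟨μ, D, ⟨P.mem, e⟩, l, P⟩
  obtain ⟨μ, O, hO, l, P⟩ : ∃ μ, ∃ O ∈ octads, M.lam t = red μ ∧ Pat μ O := by
    have := card_of_mem_CS P.mem
    by_cases e : D.card = 8
    · exact ⟨μ, D, ⟨P.mem, e⟩, l, P⟩
    obtain ⟨μ', e', P'⟩ := P.compl
    exact ⟨μ', _, ⟨P'.mem, by omega⟩, l.trans e'.symm, P'⟩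
  obtain ⟨c, hc, c1, c2, c3, c4⟩ := exists_sign hO P
  have dj : ∀ i ∈ O, i ∉ c := fun i a b => Finset.notMem_empty i (c1 ▸ Finset.mem_inter.2 ⟨a, b⟩)
  obtain ⟨o, ho⟩ := Finset.card_pos.1 (hO.2.symm ▸ by decide : 0 < O.card)
  obtain ⟨p, hp⟩ := Finset.nonempty_iff_ne_empty.2 c2
  obtain ⟨r, r1, r2⟩ : ∃ r, r ∉ O ∧ r ∉ c := by
    by_contra k
    push Not at k
    exact c3 (Finset.ext fun i => ⟨fun a => Finset.mem_compl.2 fun b => dj i b a,
      fun a => k i (Finset.mem_compl.1 a)⟩)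
  have pr : p ≠ r := fun e => r2 (e ▸ hp)
  have or : o ≠ r := fun e => r1 (e ▸ ho)
  obtain ⟨w, w1, w2, ww, lw⟩ := F.exists_w pr
  obtain ⟨u, u1, u2, uu, lu⟩ := F.exists_w or
  obtain ⟨q, q1, R, qq, qu⟩ : ∃ q ∈ QO z, M.Rp q (ep hc) ∧ q * q = 1 ∧ q * u = u * q := by
    obtain ⟨q, q1, R⟩ := F.exists_eps hc
    have qu := (F.w_eps q1 R u1 or lu).2 (iff_of_false (dj o ho) r2)
    rcases (h.lq bz).sq q q1 with k | k
    · exact ⟨q, q1, R, k, qu⟩
    have a := (h.cases bz q1 w2).resolve_left fun e =>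
      r2 (((F.w_eps q1 R w1 pr lw).1 (conj_eq_iff.1 e)).1 hp)
    have wu := conj_eq_iff.1 ((h.cases bz w2 u2).elim id fun a => (h.cases bs w1 u1).resolve_right
      fun b => n (mul_right_cancel (b.symm.trans a) ▸ s2))
    refine ⟨_, mul_mem q1 w2, mul_one (ep hc) ▸ R.mul (MT.Rp.of_mem_Q w1), ?_, by
      rw [mul_assoc, wu, ← mul_assoc, qu, mul_assoc]⟩
    rw [show q * w * (q * w) = q * w * q⁻¹ * (q * q) * w by group, a, k, mul_assoc z, QO_comm w2,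
      ← mul_assoc, h.sq bz, one_mul, ww]
  have fin : ∀ q ∈ QO z, M.Rp q (ep hc) → q * q = 1 → q * t * q⁻¹ ≠ t := fun q a b d e =>
    ((ep_pm hc).1 (b.mem_Q_iff.1 (H q a d (conj_eq_iff.1 e)))).elim c2
      fun e => r2 (e ▸ Finset.mem_univ r)
  have a := ((M.lam_eq_iff (R.conj_mem s2) s2).1 (by rw [R.lam s2, l, c4])).resolve_left
    (fin q q1 R qq)
  have b := (h.cases bs u1 s2).resolve_left fun e =>
    r1 (((Fr.w_pat s2 l P u1 lu).1 (conj_eq_iff.1 e).symm).1 ho)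
  refine (fin _ (mul_mem u2 q1) (one_mul (ep hc) ▸ (MT.Rp.of_mem_Q u1).mul R) (by
    rw [mul_assoc, ← mul_assoc q, qu, mul_assoc, qq, mul_one, uu]) ?_).elim
  rw [show u * q * t * (u * q)⁻¹ = u * (q * t * q⁻¹) * u⁻¹ by group, a, ← conj_mul, b,
    conj_eq_iff.2 (QO_comm u1), ← mul_assoc, h.sq bs, one_mul]

end CF.Pz.J
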