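import Cfsg.Agent.Pz.JB

/-! The third Janko group and the Monster: the frame of a dodecad pair. -/

set_option autoImplicit false

namespace CF.Pz.J

open Cfsg Subgroup CF.Leech CF.Loc CF.Even CF.LX CF.Known.Mon CF.Mx
open scoped Pointwise

variable {G : Type*} [Group G] [Finite G] {z₀ : G} {A₀ : Subgroup G}

omit [Finite G] in
theorem ty3_fix (m : Mo z₀ A₀) {z t s : G} (bz : IsConj z₀ z) (tt : t * t = 1) (tz : t * z = z * t)
    (n : t ∉ QO z) (na : ¬ ∃ A, Ark z₀ A ∧ z ∈ A ∧ t ∈ SS A z) (s1 : s ∈ QO z) (bs : IsConj z₀ s)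
    (s2 : t ∈ QO s) : ∀ q ∈ QO z, q * q = 1 → q * t = t * q → q ∈ QO s :=
  (m.tri' bz s1 bs (fun e => n (e ▸ s2)) s2 tz n).resolve_left
    fun ⟨g, p, _, q, r, u⟩ => na ⟨_, m.ark.cj g, p, (m.ark.cj g).mem_SS_of m.b0 p bz q r u tt⟩

namespace J5b

theorem pat_card {t s z : G} {M : MT (QO s) s} (F : Fr s z M) (s2 : t ∈ QO s) (n : t ∉ QO z)
    {μ : LL} {D : Finset GolayPt} (l : M.lam t = red μ) (P : Pat μ D) :
    8 ≤ D.card ∧ 8 ≤ Dᶜ.card :=
  ⟨eight_le_card P.mem fun e => n ((F.memW s2 l).2 (.inl (e ▸ P))),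
    eight_le_card (compl_mem_CS P.mem) fun e =>
      n ((F.memW s2 l).2 (.inr ((Finset.compl_eq_empty_iff _).1 e ▸ P)))⟩

theorem supp {v : LL} (k : ℤ) (h : ∀ i, k ∣ (v : V) i) :
    k ^ 2 * (Finset.univ.filter fun i => (v : V) i ≠ 0).card ≤ nm v := by
  rw [← sum_ind, Finset.mul_sum]
  refine Finset.sum_le_sum fun i _ => ?_
  rcases ind_cases (Finset.univ.filter fun i => (v : V) i ≠ 0) i with a | a <;> rw [a.2]
  · obtain ⟨b, e⟩ := h i
    have : b ≠ 0 := fun f => by simp [e, f] at a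
    have : 1 ≤ b ^ 2 := (one_le_sq_iff_one_le_abs b).2 (Int.one_le_abs this)
    rw [e, mul_pow]
    exact mul_le_mul_of_nonneg_left this (sq_nonneg k)
  · simpa using sq_nonneg _

theorem red_eq {x y : LL} (h : ∀ i, (8 : ℤ) ∣ (x : V) i - (y : V) i)
    (h' : (16 : ℤ) ∣ ∑ i, ((x : V) i - (y : V) i)) : red x = red y := by
  choose a e using h
  simp only [e, ← Finset.mul_sum] at h'
  refine red_eq_iff.2 ⟨⟨_, four_mem (y := a) (by omega)⟩, Subtype.ext (funext fun i => ?_)⟩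
  have := e i
  simp only [AddSubgroup.coe_sub, Pi.sub_apply, two_nsmul, AddSubgroup.coe_add, Pi.add_apply,
    Pi.smul_apply, smul_eq_mul]
  omega

theorem exists_dis {O : Finset GolayPt} (hO : O ∈ octads) (a : GolayPt → ℤ) :
    ∃ c ∈ CS, c ⊆ Oᶜ ∧ c ≠ ∅ ∧ c ≠ Oᶜ ∧ (2 : ℤ) ∣ ∑ i, ind c i * a i := by
  have k := meet24 card_pts steiner_octads hO ∅ (Finset.empty_subset _)
  have cO : Oᶜ.card = 16 := by rw [Finset.card_compl, card_pts, hO.2]
  have g : ∀ c ∈ {c | c ∈ octads ∧ O ∩ c = ∅}, c ⊆ Oᶜ ∧ c ≠ ∅ ∧ c ≠ Oᶜ := fun c hc =>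
    ⟨fun i hi => Finset.mem_compl.2 fun b => Finset.notMem_empty i (hc.2 ▸ Finset.mem_inter.2 ⟨b, hi⟩),
      fun e => by have := hc.1.2; rw [e] at this; simp at this,
      fun e => by have := hc.1.2; rw [e] at this; omega⟩
  obtain ⟨c, hc⟩ := Set.nonempty_of_ncard_ne_zero (k.trans_ne (by decide))
  obtain ⟨d, hd, n⟩ := Set.exists_mem_notMem_of_ncard_lt_ncard (s := {c, symmDiff c Oᶜ})
    ((Set.ncard_insert_le _ _).trans_lt (by rw [k, Set.ncard_singleton]; decide))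
  by_cases e : (2 : ℤ) ∣ ∑ i, ind c i * a i
  · exact ⟨c, hc.1.1, (g c hc).1, (g c hc).2.1, (g c hc).2.2, e⟩
  by_cases f : (2 : ℤ) ∣ ∑ i, ind d i * a i
  · exact ⟨d, hd.1.1, (g d hd).1, (g d hd).2.1, (g d hd).2.2, f⟩
  refine ⟨_, symmDiff_mem_CS hc.1.1 hd.1.1, fun i hi => (Finset.mem_symmDiff.1 hi).elim
    (fun b => (g c hc).1 b.1) fun b => (g d hd).1 b.1,
    fun b => n (.inl (symmDiff_eq_bot.1 b).symm), fun b => n (.inr (by rw [← b]; simp)), ?_⟩
  have : ∑ i, ind (symmDiff c d) i * a i =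
      ∑ i, ind c i * a i + ∑ i, ind d i * a i - 2 * ∑ i, ind (c ∩ d) i * a i := by
    rw [Finset.mul_sum, ← Finset.sum_add_distrib, ← Finset.sum_sub_distrib]
    refine Finset.sum_congr rfl fun i _ => ?_
    by_cases p : i ∈ c <;> by_cases q : i ∈ d <;> simp [ind, Finset.mem_symmDiff, p, q]
    ring
  omega

end J5b

open J5b

theorem ty3_uniq (m : Mo z₀ A₀) {z t : G} (bz : IsConj z₀ z) (tt : t * t = 1) (tz : t * z = z * t)
    (n : t ∉ QO z) (na : ¬ ∃ A, Ark z₀ A ∧ z ∈ A ∧ t ∈ SS A z) :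
    ∃! s, s ∈ QO z ∧ IsConj z₀ s ∧ t ∈ QO s := by
  have h := m.b0
  obtain ⟨⟨s, s1, bs, sz, s2⟩, -⟩ := m.gd' bz tt tz n
  refine ⟨s, ⟨s1, bs, s2⟩, fun s' ⟨p1, bp, p2⟩ => by_contra fun ne => ?_⟩
  have zs := h.symm bz bs s1
  obtain ⟨M, F⟩ := exists_fr h bs bz zs sz.symm
  obtain ⟨μ, l⟩ := red_surjective (M.lam t)
  obtain ⟨D, P⟩ := exists_pat ((F.ev s2 l.symm).1 tz)
  obtain ⟨d1, d2⟩ := pat_card F s2 n l.symm P
  have ps := ty3_fix m bz tt tz n na s1 bs s2 s' p1 (h.sq bp) (QO_comm p2).symm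
  obtain ⟨v, nv, lv⟩ := (M.conj_iff ps).1 ⟨bs.symm.trans bp, ne⟩
  have h4 : ∀ i, (4 : ℤ) ∣ (v : V) i := by
    refine ((F.memW ps lv).1 p1).elim (fun a i => by simpa [ind] using a i) fun a => ?_
    have := supp 2 a.even
    rw [Finset.filter_true_of_mem fun i _ e => by simpa [ind, e] using a i, Finset.card_univ,
      card_pts] at this
    omega
  by_cases e8 : ∀ i, (8 : ℤ) ∣ (v : V) i
  · have k : M.lam s' = M.lam z := by
      rw [lv, F.ls]
      choose a e using e8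
      by_cases k : (2 : ℤ) ∣ ∑ i, a i
      · refine (red_ne_zero (ne_zero_of_nm nv (by decide)) nv.le ?_).elim
        refine (red_eq (x := v) (y := 0) (by simp [e]) ?_).trans (map_zero red)
        simp only [e, AddSubgroup.coe_zero, Pi.zero_apply, sub_zero, ← Finset.mul_sum]
        omega
      · refine red_eq (fun i => by rw [e, e8_apply]; split_ifs <;> omega) ?_
        simp only [e, e8_apply, Finset.sum_sub_distrib, ← Finset.mul_sum, Finset.sum_ite_eq',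
          Finset.mem_univ, if_true]
        omega
    rcases (M.lam_eq_iff ps zs).1 k with e | e
    · exact n (e ▸ p2)
    · refine n ?_
      have := h.inf_le bs bp ps (Ne.symm ne) ⟨s2, p2⟩
      rwa [e, ← mul_assoc, h.sq bs, one_mul] at this
  obtain ⟨p, hp⟩ := not_forall.1 e8
  obtain ⟨q, q0, hq⟩ : ∃ q, (v : V) q = 0 ∧ (p ∈ D ↔ q ∈ D) := by
    have a := supp 4 h4
    have b : ∀ E : Finset GolayPt, 8 ≤ E.card → ∃ q ∈ E, (v : V) q = 0 := fun E k => by
      by_contra! c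
      have := Finset.card_le_card (s := E) fun i hi =>
        Finset.mem_filter.2 ⟨Finset.mem_univ i, c i hi⟩
      omega
    by_cases c : p ∈ D
    · exact (b D d1).imp fun q k => ⟨k.2, iff_of_true c k.1⟩
    · exact (b _ d2).imp fun q k => ⟨k.2, iff_of_false c (Finset.mem_compl.1 k.1)⟩
  have pq : p ≠ q := fun e => hp (by simp [e, q0])
  obtain ⟨w, w1, w2, ww, lw⟩ := F.exists_w pq
  have wp := ty3_fix m bz tt tz n na p1 bp p2 w w2 ww ((Fr.w_pat s2 l.symm P w1 lw).2 hq).symm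
  have nc := M.not_conj w1 lw (nm_p4 pq)
  have c1 := h.conj_mul bp wp (fun e => red_ne_zero (ne_zero_of_nm (nm_p4 pq) (by decide))
    (by rw [nm_p4 pq]; decide) (lw.symm.trans (e ▸ M.lam_one))) fun e => nc (e ▸ bs.symm.trans bp)
  have key : ∀ v : LL, nm v = 64 → M.lam s' = red v → (v : V) p = -4 → (v : V) q = 0 → False :=
    fun v a b c d => nc (((M.conj_iff (mul_mem ps w1)).2 ⟨v + p4 p q,
      by rw [nm_add, a, nm_p4 pq, dt_p4, c, d]; rfl,
      by rw [M.lam_mul _ ps _ w1, b, lw, map_add]⟩).1.trans c1.symm)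
  have a := sq_le_sqNorm v p
  have b := h4 p
  change _ ≤ nm v at a
  have : (v : V) p = -4 ∨ (v : V) p = 4 := by
    have : -8 ≤ (v : V) p := by nlinarith
    have : (v : V) p ≤ 8 := by nlinarith
    omega
  rcases this with e | e
  · exact key v nv lv e q0
  · exact key (-v) ((nm_neg v).trans nv) (lv.trans (red_neg v).symm) (by simp [e]) (by simp [q0])

theorem ty3_dod (h : B0 z₀) {z t s : G} (bz : IsConj z₀ z) (bs : IsConj z₀ s) {M : MT (QO s) s}
    (F : Fr s z M) (tt : t * t = 1) (tz : t * z = z * t) (n : t ∉ QO z) (s2 : t ∈ QO s)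
    (H : ∀ q ∈ QO z, q * q = 1 → q * t = t * q → q ∈ QO s) :
    ∃ μ, ∃ D ∈ dodecads, M.lam t = red μ ∧ Pat μ D := by
  have key : ∀ μ O, M.lam t = red μ → Pat μ O → O.card ≠ 8 := fun μ O l P o => by
    obtain ⟨c, hc, c1, c2, c3, c4⟩ := exists_dis ⟨P.mem, o⟩ fun i => (μ : V) i / 4
    have e : ∀ i, ((ep hc • μ : LL) : V) i - (μ : V) i = -8 * (ind c i * ((μ : V) i / 4)) := fun i => by
      rw [ep_apply]
      rcases ind_cases c i with k | k <;> simp only [k.1, k.2, if_true, if_false]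
      · have := P i
        rw [((ind_cases O i).resolve_left fun a => Finset.mem_compl.1 (c1 k.1) a.1).2] at this
        omega
      · omega
    have f : ep hc • red μ = red μ := (red_smul _ _).symm.trans (red_eq (fun i => by rw [e]; omega)
      (by simp only [e, ← Finset.mul_sum]; omega))
    obtain ⟨x, hx⟩ := Finset.card_pos.1 (o ▸ by decide : 0 < O.card)
    obtain ⟨p, hp⟩ := Finset.nonempty_iff_ne_empty.2 c2
    obtain ⟨r, r1, r2⟩ := Finset.exists_of_ssubset (c1.ssubset_of_ne c3)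
    have xc : x ∉ c := fun a => Finset.mem_compl.1 (c1 a) hx
    obtain ⟨q, q1, qq, rq⟩ : ∃ q ∈ QO z, q * q = 1 ∧ M.Rp q (ep hc) := by
      obtain ⟨q, q1, rq⟩ := F.exists_eps hc
      refine ((h.lq bz).sq q q1).elim (fun a => ⟨q, q1, a, rq⟩) fun a => ?_
      have pr : p ≠ r := fun a => r2 (a ▸ hp)
      obtain ⟨w, w1, w2, ww, lw⟩ := F.exists_w pr
      have b := (h.cases bz q1 w2).resolve_left fun b =>
        r2 (((F.w_eps q1 rq w1 pr lw).1 (conj_eq_iff.1 b)).1 hp)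
      refine ⟨q * w, mul_mem q1 w2, ?_, by simpa using rq.mul (MT.Rp.of_mem_Q w1)⟩
      calc _ = q * w * q⁻¹ * (q * q) * w := by group
        _ = 1 := by rw [b, a, mul_assoc z, QO_comm w2, ← mul_assoc, h.sq bz, one_mul, ww]
    have fin : ∀ q ∈ QO z, q * q = 1 → M.Rp q (ep hc) → q * t * q⁻¹ ≠ t := fun q a b d k =>
      ((ep_pm hc).1 (d.mem_Q_iff.1 (H q a b (conj_eq_iff.1 k)))).elim c2 fun k =>
        xc (k ▸ Finset.mem_univ x)
    have a := ((M.lam_eq_iff (rq.conj_mem s2) s2).1 (by rw [rq.lam s2, l, f])).resolve_left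
      (fin q q1 qq rq)
    have xr : x ≠ r := fun a => Finset.mem_compl.1 r1 (a ▸ hx)
    obtain ⟨w, w1, w2, ww, lw⟩ := F.exists_w xr
    have b := (F.w_eps q1 rq w1 xr lw).2 (iff_of_false xc r2)
    have d := (h.cases bs w1 s2).resolve_left fun d => Finset.mem_compl.1 r1
      (((Fr.w_pat s2 l P w1 lw).1 (conj_eq_iff.1 d).symm).1 hx)
    refine fin (q * w) (mul_mem q1 w2) ?_ (by simpa using rq.mul (MT.Rp.of_mem_Q w1)) ?_
    · rw [mul_assoc, ← mul_assoc w, ← b, mul_assoc, ww, mul_one, qq]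
    · calc _ = q * (w * t * w⁻¹) * q⁻¹ := by group
        _ = t := by rw [d, conj_mul_conj, a, conj_eq_iff.2 rq.comm, ← mul_assoc, h.sq bs, one_mul]
  obtain ⟨μ, l⟩ := red_surjective (M.lam t)
  obtain ⟨D, P⟩ := exists_pat ((F.ev s2 l.symm).1 tz)
  obtain ⟨d1, d2⟩ := pat_card F s2 n l.symm P
  obtain ⟨μ', l', P'⟩ := P.compl
  have a := key μ D l.symm P
  have b := key μ' _ (l'.trans l).symm P'
  have c := card_of_mem_CS P.mem
  rw [Finset.card_compl, card_pts] at d2 b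
  exact ⟨μ, D, ⟨P.mem, by omega⟩, l.symm, P⟩

end CF.Pz.J
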