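import Cfsg.Agent.Pz.J4
import Cfsg.Agent.Pz.J5b

/-! The third Janko group and the Monster: dodecad pairs. -/

set_option autoImplicit false

namespace CF.Pz.J

open Cfsg Subgroup CF.Leech CF.Leech.M CF.Loc CF.Even CF.LX CF.Known.Mon CF.Mx
open scoped Pointwise

variable {G : Type*} [Group G]

namespace J5

variable {D c : Finset GolayPt}

theorem sub_dod (hD : D ∈ dodecads) (hc : c ∈ CS) (l : c ⊆ D) : c = ∅ ∨ c = D := by
  have a := card_symmDiff_add D c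
  have b := card_of_mem_CS (symmDiff_mem_CS hD.1 hc)
  have d := card_of_mem_CS hc
  have e := Finset.card_le_card l
  rw [Finset.inter_eq_right.2 l] at a
  rw [hD.2] at a e
  rw [← Finset.card_eq_zero]
  exact (em _).imp id fun n => Finset.eq_of_subset_of_card_le l (by rw [hD.2]; omega)

theorem compl_dod (hD : D ∈ dodecads) : Dᶜ ∈ dodecads :=
  ⟨compl_mem_CS hD.1, by rw [Finset.card_compl, hD.2, card_pts]⟩

theorem ne_compl : D ≠ Dᶜ := fun e => by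
  have := Finset.ext_iff.1 e none
  rw [Finset.mem_compl] at this
  tauto

theorem four_cases (hD : D ∈ dodecads) (hc : c ∈ CS) (i : D ∩ c ∈ CS) :
    (c = ∅ ∨ c = Finset.univ) ∨ c = D ∨ c = Dᶜ := by
  have a := sub_dod hD i Finset.inter_subset_left
  have b := sub_dod (compl_dod hD) (symmDiff_mem_CS hc i) fun p => by
    simp only [Finset.mem_symmDiff, Finset.mem_inter, Finset.mem_compl]; tauto
  simp only [Finset.ext_iff, Finset.mem_symmDiff, Finset.mem_inter, Finset.mem_compl,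
    Finset.notMem_empty, Finset.mem_univ] at a b ⊢
  rcases a with a | a <;> rcases b with b | b
  exacts [.inl (.inl fun p => by have := a p; have := b p; tauto),
    .inr (.inr fun p => by have := a p; have := b p; tauto),
    .inr (.inl fun p => by have := a p; have := b p; tauto),
    .inl (.inr fun p => by have := a p; have := b p; tauto)]

theorem sw {k : M24} {E : Finset GolayPt} (h : k • D = E) : k • Dᶜ = Eᶜ :=
  (CF.Leech.smul_compl (k : Pm) D).trans (congrArg _ h)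

/-- the contradiction in the Mathieu group -/
theorem mat (hD : D ∈ dodecads) {σ ς α : M24} (ss : σ * σ = 1) (s2 : ς * ς = 1)
    (sa : ς * α = α * ς) (a3 : α ^ 3 = 1)
    (e3 : σ * (α * σ * α⁻¹) * (α * (α * σ * α⁻¹) * α⁻¹) = 1) (q1 : (ς * σ * ς * σ) ^ 2 = 1)
    (q2 : (ς * (α * σ * α⁻¹) * ς * σ) ^ 2 = 1) (q3 : (ς * σ * ς * (α * σ * α⁻¹)) ^ 2 = 1)
    (n1 : ς * σ * ς * σ ≠ 1) (n2 : ς * (α * σ * α⁻¹) * ς * σ ≠ 1)
    (n3 : ς * σ * ς * (α * σ * α⁻¹) ≠ 1) (d1 : σ • D = D ∨ σ • D = Dᶜ)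
    (d2 : ς • D = D ∨ ς • D = Dᶜ) (d3 : α • D = D ∨ α • D = Dᶜ) : False := by
  have cs : ∀ x : M24, ς * x * ς = ς * x * ς⁻¹ := fun x => by rw [inv_eq s2]
  have iv : ∀ {x : M24} (g : M24), x * x = 1 → g * x * g⁻¹ * (g * x * g⁻¹) = 1 := fun g e => by
    rw [conj_mul, e, mul_one, mul_inv_cancel]
  have cm : ∀ {x y : M24}, x * x = 1 → y * y = 1 → (x * y) ^ 2 = 1 → x * y = y * x :=
    fun e f k => by rw [← inv_eq ((sq _).symm.trans k), mul_inv_rev, inv_eq e, inv_eq f]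
  have f : ∀ x : M24, α * (ς * x * ς⁻¹) * α⁻¹ = ς * (α * x * α⁻¹) * ς⁻¹ := fun x => by
    rw [show α * (ς * x * ς⁻¹) * α⁻¹ = α * ς * x * (α * ς)⁻¹ by group, ← sa]; group
  have e2 : α * (α * σ * α⁻¹) * α⁻¹ = σ * (α * σ * α⁻¹) := by
    rw [← inv_eq (iv α (iv α ss)), eq_inv_of_mul_eq_one_left e3]
  simp only [cs] at q1 q2 q3 n1 n2 n3
  obtain ⟨c16, sq⟩ := card16 (α := α) ss (iv ς ss) rfl e2 (f σ) (by rw [f, e2, conj_mul])
    (cm (iv ς ss) ss q1) (cm (iv ς (iv α ss)) ss q2) (cm (iv ς ss) (iv α ss) q3)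
    (fun e => n1 (by simp [e])) (fun e => n1 (by simp [conj_eq_one_iff.1 e])) n1 n2 n3
  have aD : α • D = D := d3.resolve_right fun e => ne_compl (D := D) (by
    have e' := sw e
    rw [compl_compl] at e'
    have k : (α * α * α) • D = Dᶜ := by rw [mul_smul, mul_smul, e, e', e]
    rwa [← pow_three', a3, one_smul] at k)
  have st : ∀ {x : M24} {E}, x • D = E → α • E = E → (α * x * α⁻¹) • D = E := fun e k => by
    rw [mul_smul, mul_smul, inv_smul_eq_iff.2 aD.symm, e, k]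
  have sD : σ • D = D := d1.resolve_right fun e => ne_compl (D := D) (by
    have a := st e (sw aD)
    have b := congrArg (· • D) e3
    simp only [mul_smul _ _ D, one_smul] at b
    rw [← mul_smul _ _ D, st a (sw aD), mul_smul, sw a, compl_compl, e] at b
    exact b.symm)
  have tD : ∀ {x : M24}, x • D = D → (ς * x * ς⁻¹) • D = D := fun e => by
    rw [inv_eq s2, mul_smul, mul_smul]
    rcases d2 with d | d
    · rw [d, e, d]
    · rw [d, sw e, sw d, compl_compl]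
  have := no16 hD _ sq fun k hk => (closure_le (MulAction.stabilizer M24 D)).2 (by
    rintro _ (rfl | rfl | rfl | rfl)
    exacts [sD, st sD aD, tD sD, tD (st sD aD)]) hk
  omega

end J5

open J5

variable [Finite G] {z₀ : G} {A₀ : Subgroup G}

theorem ty3 (m : Mo z₀ A₀) {z t e r s i a b u g₁ g₂ g : G} (c : Cfg z t e r s i a b u g₁ g₂ g)
    (bz : IsConj z₀ z) (n : t ∉ QO z) (na : ¬ ∃ A, Ark z₀ A ∧ z ∈ A ∧ t ∈ SS A z) : False := by
  have h := m.b0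
  obtain ⟨x, ⟨x1, bx, x2⟩, U⟩ := ty3_uniq m bz c.tt c.tz n na
  have zx := h.symm bz bx x1
  obtain ⟨M, F⟩ := exists_fr h bx bz zx fun e => n (e ▸ x2)
  obtain ⟨μ, D, hD, l, P⟩ := ty3_dod h bz bx F c.tt c.tz n x2
    (ty3_fix m bz c.tt c.tz n na x1 bx x2)
  obtain ⟨φ, hφ⟩ := F.exists_hom
  have L1 : ∀ {g : G}, g * z = z * g → g * t * g⁻¹ = t ∨ g * t * g⁻¹ = z * t →
      g ∈ 𝐂₁(x) ⊓ 𝐂₁(z) := fun {g} e f => ⟨mem_c1.2 (conj_eq_iff.1 (U _ ⟨conj_QO e x1,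
      (isConj_conj g).2 bx, f.elim (fun f => f ▸ conj_mem_QO.2 x2) fun f =>
        (mul_mem_cancel_left (conj_eq_iff.2 e ▸ conj_mem_QO.2 zx)).1 (f ▸ conj_mem_QO.2 x2)⟩)),
      mem_c1.2 e⟩
  have L2 : ∀ g : ↥(𝐂₁(x) ⊓ 𝐂₁(z)), g * t * (g : G)⁻¹ = t ∨ g * t * (g : G)⁻¹ = z * t →
      φ g • D = D ∨ φ g • D = Dᶜ := fun g f => by
    obtain ⟨σ, d, hσ, hd, r⟩ := F.mon (mem_c1.1 g.2.1) (mem_c1.1 g.2.2)
    have k := r.lam x2
    rw [l, ← red_smul] at k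
    rw [hφ g σ d hσ hd r]
    exact (P.mono hσ hd).cong P (f.imp (fun f => by rw [← k, f, l]) fun f => by
      rw [← k, f, M.lam_mul _ zx _ x2, F.ls, l, add_comm])
  have L3 : ∀ g : ↥(𝐂₁(x) ⊓ 𝐂₁(z)), g * t = t * g → φ g = 1 → (g : G) ∈ QO x := fun g f o => by
    obtain ⟨σ, d, hσ, hd, r⟩ := F.mon (mem_c1.1 g.2.1) (mem_c1.1 g.2.2)
    obtain rfl : σ = 1 := congrArg Subtype.val ((hφ g σ d hσ hd r).symm.trans o)
    have k := r.lam x2
    rw [conj_eq_iff.2 f, l] at k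
    have nD : ep hD.1 • red μ ≠ red μ := fun e => by
      have := P.norm hD.1 e
      have := (M.sq_iff x2 l).1 c.tt
      rw [hD.2] at *
      omega
    rcases four_cases hD hd (P.inter hd (Or.inl k.symm)) with e | rfl | rfl
    · exact r.mem_Q_iff.2 ((ep_pm hd).2 e)
    · exact absurd k.symm nD
    · exact absurd (by rw [← negCo_red (ep _ • _), ← mul_smul, ← ep_compl]; exact k.symm) nD
  have L4 : ∀ g : ↥(𝐂₁(x) ⊓ 𝐂₁(z)), (g : G) ∈ QO x → φ g = 1 := fun g f =>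
    hφ g 1 ∅ M24.one_mem empty_mem_CS (mono_one ▸ MT.Rp.of_mem_Q f)
  have L5 : ∀ g : ↥(𝐂₁(x) ⊓ 𝐂₁(z)), g * t = t * g → ∀ v, (g : G) ^ 2 = v → v ∈ QO x → v ≠ 1 →
      v ≠ x → φ g ^ 2 = 1 ∧ φ g ≠ 1 := fun g f v e k v1 v2 =>
    ⟨by rw [← map_pow]; exact L4 _ (e.symm ▸ k : (g : G) ^ 2 ∈ QO x), fun o => ((h.lq bx).sq _ (L3 g f o)).elim
      (fun p => v1 (by rw [← e, sq, p])) fun p => v2 (by rw [← e, sq, p])⟩
  have hE := conj_eq_iff.2 c.et
  have hA := conj_eq_iff.2 c.at'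
  let E : ↥(𝐂₁(x) ⊓ 𝐂₁(z)) := ⟨e, L1 c.ez (.inl hE)⟩
  let A : ↥(𝐂₁(x) ⊓ 𝐂₁(z)) := ⟨a, L1 c.az (.inl hA)⟩
  let S : ↥(𝐂₁(x) ⊓ 𝐂₁(z)) := ⟨s, L1 c.sz (.inr c.st)⟩
  have k1 := L5 (S * E * S * E) (c.hi ▸ c.it :) z
    (show (s * e * s * e) ^ 2 = z by rw [c.hi, sq, c.ii]) zx c.z1
    fun e => n (e ▸ x2)
  have k2 := L5 (S * (A * E * A⁻¹) * S * E) (by
    rw [← c.f21]; exact (Commute.self_pow _ 2).eq) t c.f21 x2 c.t1 fun e => n (e ▸ x1)
  have k3 := L5 (S * E * S * (A * E * A⁻¹)) (by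
    have a1 : Commute ((S * E * S * (A * E * A⁻¹) : ↥(𝐂₁(x) ⊓ 𝐂₁(z))) : G) (z * t) := by
      rw [← c.f12]; exact Commute.self_pow _ 2
    have a2 : Commute ((S * E * S * (A * E * A⁻¹) : ↥(𝐂₁(x) ⊓ 𝐂₁(z))) : G) z :=
      mem_c1.1 (Subtype.property _ : _ ∈ 𝐂₁(x) ⊓ 𝐂₁(z)).2
    simpa only [inv_mul_cancel_left] using (a2.inv_right.mul_right a1).eq) (z * t) c.f12
    (mul_mem zx x2) c.zt1 fun e => n ((mul_mem_cancel_left (h.self bz)).1 (e ▸ x1))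
  simp only [map_mul, map_inv] at k1 k2 k3
  have tr : ∀ {g g' : ↥(𝐂₁(x) ⊓ 𝐂₁(z))}, (g : G) = g' → φ g = φ g' := fun e =>
    congrArg φ (Subtype.ext e)
  exact mat hD (σ := φ E) (ς := φ S) (α := φ A)
    (by simpa only [map_mul, map_one] using tr (g := E * E) (g' := 1) c.ee)
    (by simpa only [map_mul, map_one] using tr (g := S * S) (g' := 1) c.ss)
    (by simpa only [map_mul] using tr (g := S * A) (g' := A * S) c.sa)
    ((map_pow φ A 3).symm.trans ((tr (g := A ^ 3) (g' := 1) c.a3).trans (map_one φ)))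
    (by simpa only [map_mul, map_inv, map_one] using
      tr (g := E * (A * E * A⁻¹) * (A * (A * E * A⁻¹) * A⁻¹)) (g' := 1) c.e3)
    k1.1 k2.1 k3.1 k1.2 k2.2 k3.2 (L2 E (.inl hE)) (L2 S (.inr c.st)) (L2 A (.inl hA))

end CF.Pz.J
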