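import Cfsg.Agent.Pz.JA
import Cfsg.Agent.Mon.ThK
import Cfsg.Agent.Mon.Emb
import Cfsg.Agent.Mon.PrF
import Cfsg.Agent.Mon.Covers
import Cfsg.Agent.Mx.N1

/-! The third Janko group and the Monster: facts read off from the model. -/

set_option autoImplicit false
set_option maxRecDepth 100000

namespace CF.Pz.J

open Cfsg Subgroup CF.Leech CF.Leech.M CF.Loc CF.Even CF.LX CF.Known.Mon CF.Mx CF.Comp

section
variable {G : Type*} [Group G] [Finite G] {Q : Subgroup G} {z s y : G}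

theorem std3B (M : MT Q z) (hs : s ∈ Q) (bs : IsConj z s) (n : s ≠ z) (o : orderOf y = 3)
    (e : y * z = z * y) (f : y * s = s * y) (c : {q | q ∈ Q ∧ q * y = y * q}.ncard ≤ 512) :
    ∃ g, M.Rp (g * y * g⁻¹) (permHom (ev m C3B.w)) := by
  haveI := Fact.mk Nat.prime_three
  obtain ⟨v, a, b⟩ := (M.conj_iff hs).1 ⟨bs, n⟩
  obtain ⟨k, ls⟩ := M.exists_twist b a
  obtain ⟨b, r, e3⟩ : ∃ b, M.Rp y b ∧ b ^ 3 = 1 := by
    obtain ⟨b, r⟩ := M.exists_Rp (mem_c1.2 e)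
    have := r.pow 3
    rw [← o, pow_orderOf_eq_one, o] at this
    rcases this.mem_Q_iff.1 (one_mem _) with e | e
    · exact ⟨b, r, e⟩
    · exact ⟨_, r.neg, by rw [neg_mul_pow _ (by decide), e, negCo_mul_self]⟩
  obtain ⟨P⟩ : Nonempty (Sylow 3 M24) := inferInstance
  obtain ⟨x, -, σ, -, e'⟩ := CF.Bt.exists_conj_mem (P := (P : Subgroup M24).map permHom) (H := Leech.Mon)
    (by rintro _ ⟨σ, -, rfl⟩; exact permHom_mem σ) Nat.prime_three (m := 4096 * 9067520) (by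
      rw [card_map_of_injective permHom_injective, P.card_eq_multiplicity, card_Mon, Mat.card_M24]
      decide +kernel) (by norm_num)
    (((M.twist k).pre_C hs ls).le ((M.twist k).mem_pre.2 ⟨y, ⟨mem_c1.2 e, mem_c1.2 f⟩, (M.twist_Rp k).2 r⟩))
    (a := 1) (by rw [pow_one, conj_pow, e3, mul_one, mul_inv_cancel])
  have o' : orderOf σ = 3 := orderOf_eq_prime (permHom_injective (by
    rw [map_pow, e', conj_pow, conj_pow, e3, map_one]; group)) fun q => by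
      rw [q, map_one, eq_comm, conj_eq_one_iff, conj_eq_one_iff] at e'
      obtain ⟨k, e1⟩ := M.lq.isPGroup ⟨y, r.mem_Q_iff.2 (Or.inl e')⟩
      rw [eq_one_of_odd (o ▸ by decide) (mem_zpowers y) (congrArg Subtype.val e1), orderOf_one] at o
      omega
  have key : ∀ x' τ, x' * σ * x'⁻¹ = τ → ∃ K, K * b * K⁻¹ = permHom τ := by
    rintro x' _ rfl
    exact ⟨permHom x' * x * k, by rw [map_mul, map_mul, map_inv, e']; group⟩
  rcases C3A.classes3 o' with ⟨x', q⟩ | ⟨x', q⟩ <;> obtain ⟨K, q⟩ := key _ _ q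
  · have r' := q ▸ (M.twist_Rp K).2 r
    have := (M.twist K).ncard_lam {w | permHom (ev m C3A.w) • w = w}
    have := this.ge.trans ((Set.ncard_le_ncard (t := {q | q ∈ Q ∧ q * y = y * q}) fun x k =>
      ⟨k.1, (r'.comm_iff (o ▸ by decide) k.1).2 k.2⟩).trans c)
    rw [C3A.main.1.card] at this
    omega
  · obtain ⟨g, r'⟩ := M.exists_Rp' K
    exact ⟨g, q ▸ r'.conj r⟩

theorem conj_zp {M : MT Q z} {y' : G} {b : Co0} (r : M.Rp y b) (r' : M.Rp y' b) (o : orderOf y = 3)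
    (o' : orderOf y' = 3) : ∃ g, g * y * g⁻¹ ∈ zpowers y' := by
  have c := Solv.card_sup_mul_card_inf_of_le_normalizer (zpowers_le.2 (M.lq.nor r'.mem))
  obtain ⟨a, e⟩ := card_dvd_of_le (le_sup_left : zpowers y' ≤ zpowers y' ⊔ Q)
  obtain ⟨g, -, k⟩ := CF.Bt.exists_conj_mem le_sup_left Nat.prime_three e (fun d => by
    rw [e, mul_assoc, Nat.mul_right_inj Nat.card_pos.ne', M.card] at c
    exact absurd (c ▸ d.mul_right _) (by norm_num)) (g := y) (a := 1)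
    ((mul_mem_cancel_right (mem_sup_left (inv_mem (mem_zpowers y')))).1 (mem_sup_right (by
      simpa using r'.conj_mem (r'.inv_mul_mem r)))) (by rw [pow_one, ← o, pow_orderOf_eq_one])
  exact ⟨g, k⟩

omit [Finite G] in
theorem Th3.base (h : Th3 z y) : ∃ g y' s, g * y' * g⁻¹ = y ∧ IsConj z s ∧ s ∈ QO z ∧ s ≠ z ∧
    y' * z = z * y' ∧ y' * s = s * y' ∧ {q | q ∈ QO z ∧ q * y' = y' * q}.ncard ≤ 512 := by
  obtain ⟨o, x, s, bx, bs, m, n, e, f, c⟩ := h
  obtain ⟨g, rfl⟩ := isConj_iff.1 bx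
  obtain ⟨s, rfl⟩ := cj_surj g s
  obtain ⟨y, rfl⟩ := cj_surj g y
  refine ⟨g, y, s, rfl, (isConj_conj g).1 bs, conj_mem_QO.1 m, fun q => n (q ▸ rfl), conj_comm.1 e,
    conj_comm.1 f, le_trans (le_of_eq ?_) c⟩
  rw [← Set.ncard_image_of_injective {q | q ∈ QO z ∧ q * y = y * q} (MulAut.conj g).injective]
  congr 1
  ext q
  obtain ⟨q, rfl⟩ := cj_surj g q
  simp only [Set.mem_setOf_eq, conj_mem_QO, conj_comm, Set.mem_image, MulAut.conj_apply,
    mul_left_inj, mul_right_inj, exists_eq_right]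

end

open CF.Mon CF.Mon.G CF.Mon.Lab CF.Mon.ThI CF.Dce Function
variable {Γ : Type} [Group Γ] {ρ : Gt →* Γ} {τ : Γ} (h : Out ρ τ)
include h

open CF.Mon.Tr in
theorem gE_eq : ρ (ax Tr.thT 4) * ρ (ax Tr.thT 6) = ρ gE := by
  rw [ax_val h thT_base (t := 8) (by decide +kernel), ax_val h thT_base (t := 9) (by decide +kernel)]
  simp [ThI.gE]

theorem gE_order : orderOf (ρ gE) = 3 := gE_eq h ▸ Tr.th_order h

open CF.Mon.Tr in
theorem gE_comm (s : Spor.Th) : Commute (φ h s) (ρ gE) := gE_eq h ▸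
  (lift_comm Th.cox (hr h) (fun i hi => (th_fix i hi).1.comm h thT_base (by decide +kernel)) s).mul_right
  (lift_comm Th.cox (hr h) (fun i hi => (th_fix i hi).2.comm h thT_base (by decide +kernel)) s)

theorem φ_zp {s : Spor.Th} (k : φ h s ∈ zpowers (ρ gE)) : s = 1 := by
  have := h.finite
  have := Th.isTh.1
  have n : ((zpowers (ρ gE)).comap (φ h)).Normal := ⟨fun a ⟨n, e⟩ b => ⟨n, by
    rw [map_mul, map_mul, ← e, ((gE_comm h b).zpow_right n).eq, map_inv, mul_inv_cancel_right]⟩⟩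
  obtain n | n := n.eq_bot_or_eq_top
  · exact mem_bot.1 (n ▸ k)
  · have := Nat.card_le_card_of_injective ((φ h).codRestrict (zpowers (ρ gE)) fun s => n.ge (mem_top s))
      fun a b e => φ_inj h (congrArg Subtype.val e)
    rw [Nat.card_zpowers, gE_order h, Th.isTh.2] at this
    omega

theorem cent_gE {g : Γ} (hg : g * ρ gE = ρ gE * g) : ∃ s, ∃ e ∈ zpowers (ρ gE), φ h s * e = g := by
  have := h.finite
  let χ := (φ h).noncommCoprod (zpowers (ρ gE)).subtype fun s ⟨_, n, e⟩ => e ▸ (gE_comm h s).zpow_right n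
  have hχ : ∀ s y, χ (s, y) = φ h s * y := fun _ _ => rfl
  have inj : Injective χ := (injective_iff_map_eq_one χ).2 fun ⟨s, y⟩ e => by
    obtain rfl := φ_zp h (s := s) (by rw [eq_inv_of_mul_eq_one_left e]; exact inv_mem y.2)
    exact Prod.ext rfl (Subtype.ext (by simpa [hχ] using e))
  have hE : χ.range ≤ 𝐂₁(ρ gE) := by
    rintro _ ⟨⟨s, _, n, rfl⟩, rfl⟩
    exact mem_c1.2 ((gE_comm h s).mul_left ((Commute.refl _).zpow_left n)).eq
  obtain ⟨⟨s, e⟩, k⟩ := (eq_of_le_of_card_ge hE (by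
    rw [card_cent h (gE_order h) (gE_comm h), ← Nat.card_congr (MonoidHom.ofInjective inj).toEquiv,
      Nat.card_prod, Nat.card_zpowers, gE_order h, Th.isTh.2])).ge (mem_c1.2 hg)
  exact ⟨s, e, e.2, k⟩

theorem th3_key {y : Γ} (k : Th3 (ρ (pauli xc)) y) : ∃ g, zpowers (g * y * g⁻¹) = zpowers (ρ gE) := by
  have := h.finite
  have o := k.1
  obtain ⟨g, y, s, rfl, bs, m, n, e, f, c⟩ := k.base
  rw [CF.Invol.orderOf_conj] at o
  rw [QO_x h] at m c
  obtain ⟨M, a, -⟩ := h.exists_MT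
  obtain ⟨u, r⟩ := std3B M m bs n o e f c
  obtain ⟨bY, nY⟩ := (M.conj_iff (pauli_mem_QQ ρ Y0)).2 ⟨_, nm_e8 none, (a _).trans lam_Y0⟩
  obtain ⟨v, r'⟩ := std3B M (pauli_mem_QQ ρ Y0) bY nY (gE_order h) ((rho_comm_iff h.x_ne).2 (smul_xc _))
    ((rho_comm_iff h.x_ne).2 g_Y) (card_Q h)
  obtain ⟨w, n, q⟩ := conj_zp r r' ((CF.Invol.orderOf_conj ..).trans o)
    ((CF.Invol.orderOf_conj ..).trans (gE_order h))
  refine ⟨v⁻¹ * w * u * g⁻¹, eq_of_le_of_card_ge (zpowers_le.2 ⟨n, ?_⟩) (by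
    rw [Nat.card_zpowers, Nat.card_zpowers, CF.Invol.orderOf_conj, CF.Invol.orderOf_conj, o, gE_order h])⟩
  have q : v * ρ gE ^ n * v⁻¹ = _ := conj_zpow.symm.trans q
  calc ρ gE ^ n = v⁻¹ * (v * ρ gE ^ n * v⁻¹) * v := by group
    _ = _ := by rw [q]; group

theorem th3_dec {y u : Γ} (k : Th3 (ρ (pauli xc)) y) (c : u * y = y * u) :
    ∃ g s, ∃ e ∈ zpowers (ρ gE), g * y * g⁻¹ ∈ zpowers (ρ gE) ∧ φ h s * e = g * u * g⁻¹ ∧ e ^ 3 = 1 ∧
      Commute (φ h s) e := by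
  obtain ⟨g, q⟩ := th3_key h k
  obtain ⟨n, hn⟩ := q.ge (mem_zpowers _)
  obtain ⟨s, e, he, p⟩ := cent_gE h (g := g * u * g⁻¹)
    (hn ▸ ((show Commute _ _ from conj_comm.2 c).zpow_right n).eq)
  refine ⟨g, s, e, he, q.le (mem_zpowers _), p, ?_, ?_⟩
  · exact orderOf_dvd_iff_pow_eq_one.1 (gE_order h ▸ orderOf_dvd_of_mem_zpowers he)
  · obtain ⟨j, rfl⟩ := he
    exact (gE_comm h s).zpow_right j

theorem ex : Ex (ρ (pauli xc)) where
  six v g vv n := by
    by_cases e : v = 1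
    · simp [e]
    · have k := two h _ _ Out.tt vv h.t_ne e h.not_conj n
      exact CF.Mon.P.sixT h CF.Mon.G.covers _ k _ ((isConj_conj g).2 k)
  cube y u k q := by
    obtain ⟨g, s, e, -, a, b, c, d⟩ := th3_dec h k (u := u) (q ▸ (Commute.self_pow u 3).eq)
    have p : φ h (s ^ 3) = g * y * g⁻¹ := by rw [← q, ← conj_pow, ← b, d.mul_pow, c, mul_one, map_pow]
    rw [φ_zp h (s := s ^ 3) (p ▸ a), map_one, eq_comm, conj_eq_one_iff] at p
    have := k.1
    rw [p, orderOf_one] at this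
    omega
  inv y v k vv n q := by
    obtain ⟨g, s, e, he, -, b, c, d⟩ := th3_dec h k q
    have p : φ h (s ^ 2) * e ^ 2 = 1 := by
      rw [map_pow, ← d.mul_pow, b, conj_pow, pow_two, vv, mul_one, mul_inv_cancel]
    have s2 := φ_zp h (s := s ^ 2) (by rw [eq_inv_of_mul_eq_one_left p]; exact inv_mem (pow_mem he 2))
    rw [s2, map_one, one_mul] at p
    rw [pow_succ, p, one_mul] at c
    rw [c, mul_one] at b
    obtain ⟨w, -, r⟩ := R_all h (s := s) (by rwa [← pow_two]) fun e => n (by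
      rwa [e, map_one, eq_comm, conj_eq_one_iff] at b)
    exact (isConj_conj g).1 (b ▸ isConj_iff.2 ⟨w, r⟩)

theorem syl (X : Subgroup Γ) (hX : IsPGroup 2 X) : ∃ x, IsConj (ρ (pauli xc)) x ∧ X ≤ 𝐂₁(x) := by
  have := h.finite
  obtain ⟨g, -, k⟩ := CF.Bt.exists_conj_le (le_top : 𝐂₁(ρ (pauli xc)) ≤ ⊤) Nat.prime_two
    (m := 5791748068511982636944259375) (by rw [card_top, h.card, h.card_cx]; norm_num) (by norm_num) le_top hX
  refine ⟨g⁻¹ * ρ (pauli xc) * g⁻¹⁻¹, (isConj_conj _).2 (IsConj.refl _), fun x hx => mem_c1.2 ?_⟩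
  have := conj_comm (g := g⁻¹).2 (mem_c1.1 (k x hx))
  simpa [mul_assoc] using this

end CF.Pz.J
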