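import Cfsg.Agent.Pz.JA
import Cfsg.Agent.Comp.J3.Main

/-! The third Janko group and the Monster: relations in the triple cover. -/

set_option autoImplicit false
set_option maxRecDepth 100000

namespace CF.Pz.J

open Cfsg Subgroup CF.Comp CF.Comp.J3

namespace J7

/-- the words for `z t e r s i a b u g₁ g₂ g` -/
noncomputable def WS : List (List ℕ) := [[13], [1], [7], [5], [11], [11, 7, 11, 7], 3 :: cw, [9],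
  [2, 6, 8, 10, 12, 8, 4, 6, 10, 6, 10, 6, 1, 5, 9, 5, 7, 5, 9, 5, 9, 5, 3, 7, 11, 9, 7, 5, 1],
  [5, 7, 10, 5, 10, 5, 9, 7, 5, 10, 5, 7, 10, 5, 3, 7, 5],
  [5, 7, 1, 10, 5, 10, 5, 9, 7, 5, 10, 5, 7, 10, 5, 3, 7, 5],
  [9, 5, 7, 9, 5, 9, 5, 10]]

/-- their matrices and inverses -/
noncomputable def Ns : List (List (List ℕ)) := [[[1, 0, 0, 0, 0, 0, 0, 0, 0], [0, 1, 0, 0, 0, 0, 0, 0, 0], [0, 0, 1, 0, 0, 0, 0, 0, 0], [0, 0, 0, 1, 0, 0, 0, 0, 0], [0, 0, 0, 0, 1, 0, 0, 0, 0], [0, 0, 0, 0, 0, 1, 0, 0, 0], [0, 0, 0, 0, 0, 0, 1, 0, 0], [0, 0, 0, 0, 0, 0, 0, 1, 0], [0, 0, 0, 0, 0, 0, 0, 0, 1]],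
  [[0, 1, 2, 0, 3, 1, 0, 0, 3], [1, 1, 0, 0, 0, 0, 1, 3, 3], [3, 0, 1, 0, 1, 0, 0, 1, 3], [0, 0, 0, 1, 1, 0, 3, 3, 1], [2, 0, 1, 1, 0, 1, 0, 0, 1], [1, 0, 0, 0, 1, 1, 2, 0, 2], [0, 1, 0, 2, 0, 3, 0, 2, 1], [0, 2, 1, 2, 0, 0, 3, 0, 3], [2, 2, 2, 1, 1, 3, 1, 2, 1]],
  [[0, 1, 2, 0, 3, 1, 0, 0, 3], [1, 1, 0, 0, 0, 0, 1, 3, 3], [3, 0, 1, 0, 1, 0, 0, 1, 3], [0, 0, 0, 1, 1, 0, 3, 3, 1], [2, 0, 1, 1, 0, 1, 0, 0, 1], [1, 0, 0, 0, 1, 1, 2, 0, 2], [0, 1, 0, 2, 0, 3, 0, 2, 1], [0, 2, 1, 2, 0, 0, 3, 0, 3], [2, 2, 2, 1, 1, 3, 1, 2, 1]],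
  [[0, 1, 3, 2, 3, 2, 2, 1, 0], [1, 1, 2, 1, 3, 0, 2, 1, 0], [2, 3, 1, 1, 0, 2, 1, 0, 2], [3, 1, 1, 0, 3, 3, 3, 2, 0], [2, 2, 0, 2, 1, 2, 1, 3, 0], [3, 0, 3, 2, 3, 1, 3, 0, 1], [3, 3, 1, 2, 1, 2, 1, 0, 0], [1, 1, 0, 3, 2, 0, 0, 0, 3], [0, 0, 3, 0, 0, 1, 0, 2, 0]],
  [[0, 1, 3, 2, 3, 2, 2, 1, 0], [1, 1, 2, 1, 3, 0, 2, 1, 0], [2, 3, 1, 1, 0, 2, 1, 0, 2], [3, 1, 1, 0, 3, 3, 3, 2, 0], [2, 2, 0, 2, 1, 2, 1, 3, 0], [3, 0, 3, 2, 3, 1, 3, 0, 1], [3, 3, 1, 2, 1, 2, 1, 0, 0], [1, 1, 0, 3, 2, 0, 0, 0, 3], [0, 0, 3, 0, 0, 1, 0, 2, 0]],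
  [[0, 1, 2, 1, 1, 1, 2, 0, 2], [1, 1, 0, 0, 2, 3, 3, 1, 3], [3, 0, 1, 0, 1, 0, 0, 1, 3], [1, 0, 0, 1, 2, 2, 2, 0, 0], [1, 3, 1, 3, 1, 0, 2, 0, 1], [1, 2, 0, 3, 0, 1, 2, 1, 2], [3, 2, 0, 3, 3, 3, 0, 1, 2], [0, 1, 1, 0, 0, 1, 1, 1, 0], [3, 2, 2, 0, 1, 3, 3, 0, 1]],
  [[0, 1, 2, 1, 1, 1, 2, 0, 2], [1, 1, 0, 0, 2, 3, 3, 1, 3], [3, 0, 1, 0, 1, 0, 0, 1, 3], [1, 0, 0, 1, 2, 2, 2, 0, 0], [1, 3, 1, 3, 1, 0, 2, 0, 1], [1, 2, 0, 3, 0, 1, 2, 1, 2], [3, 2, 0, 3, 3, 3, 0, 1, 2], [0, 1, 1, 0, 0, 1, 1, 1, 0], [3, 2, 2, 0, 1, 3, 3, 0, 1]],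
  [[0, 0, 3, 1, 2, 1, 3, 2, 3], [0, 0, 1, 0, 3, 1, 2, 0, 1], [2, 1, 1, 1, 0, 3, 1, 0, 1], [1, 0, 1, 1, 1, 3, 1, 0, 3], [3, 2, 0, 1, 1, 1, 0, 3, 3], [1, 1, 2, 2, 1, 1, 3, 1, 3], [2, 3, 1, 1, 0, 2, 1, 1, 0], [3, 0, 0, 0, 2, 1, 1, 0, 1], [2, 1, 1, 2, 2, 2, 0, 1, 0]],
  [[0, 0, 3, 1, 2, 1, 3, 2, 3], [0, 0, 1, 0, 3, 1, 2, 0, 1], [2, 1, 1, 1, 0, 3, 1, 0, 1], [1, 0, 1, 1, 1, 3, 1, 0, 3], [3, 2, 0, 1, 1, 1, 0, 3, 3], [1, 1, 2, 2, 1, 1, 3, 1, 3], [2, 3, 1, 1, 0, 2, 1, 1, 0], [3, 0, 0, 0, 2, 1, 1, 0, 1], [2, 1, 1, 2, 2, 2, 0, 1, 0]],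
  [[1, 1, 3, 1, 0, 0, 2, 3, 2], [1, 1, 2, 3, 2, 1, 3, 3, 1], [2, 3, 0, 1, 0, 0, 1, 0, 1], [1, 2, 1, 1, 1, 1, 3, 2, 2], [0, 3, 0, 1, 1, 2, 3, 1, 3], [0, 1, 0, 1, 3, 0, 0, 1, 3], [3, 2, 1, 2, 2, 0, 0, 2, 3], [2, 2, 0, 3, 1, 1, 3, 0, 2], [3, 1, 1, 3, 2, 2, 2, 3, 1]],
  [[1, 1, 3, 1, 0, 0, 2, 3, 2], [1, 1, 2, 3, 2, 1, 3, 3, 1], [2, 3, 0, 1, 0, 0, 1, 0, 1], [1, 2, 1, 1, 1, 1, 3, 2, 2], [0, 3, 0, 1, 1, 2, 3, 1, 3], [0, 1, 0, 1, 3, 0, 0, 1, 3], [3, 2, 1, 2, 2, 0, 0, 2, 3], [2, 2, 0, 3, 1, 1, 3, 0, 2], [3, 1, 1, 3, 2, 2, 2, 3, 1]],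
  [[0, 2, 2, 2, 0, 1, 3, 2, 1], [0, 1, 3, 3, 2, 3, 0, 0, 0], [3, 1, 1, 1, 1, 1, 1, 2, 1], [1, 1, 0, 0, 1, 1, 2, 3, 3], [0, 2, 3, 1, 1, 1, 2, 0, 2], [0, 1, 2, 3, 0, 2, 0, 0, 2], [1, 3, 0, 3, 1, 3, 1, 2, 0], [1, 3, 1, 1, 1, 0, 3, 0, 3], [2, 1, 1, 0, 1, 0, 3, 3, 3]],
  [[0, 0, 2, 1, 0, 0, 1, 1, 3], [3, 1, 1, 1, 3, 1, 2, 2, 1], [3, 2, 1, 0, 2, 3, 0, 1, 1], [3, 2, 1, 0, 1, 2, 2, 1, 0], [0, 3, 1, 1, 1, 0, 1, 1, 1], [1, 2, 1, 1, 1, 3, 2, 0, 0], [2, 0, 1, 3, 3, 0, 1, 2, 2], [3, 0, 3, 2, 0, 0, 3, 0, 2], [1, 0, 1, 2, 3, 3, 0, 2, 2]],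
  [[0, 0, 0, 2, 2, 1, 0, 2, 2], [3, 2, 3, 2, 1, 2, 3, 3, 3], [0, 1, 3, 3, 3, 0, 2, 1, 1], [2, 2, 1, 3, 3, 1, 3, 3, 1], [2, 3, 1, 1, 3, 0, 0, 1, 3], [1, 3, 0, 3, 0, 0, 2, 0, 3], [0, 1, 2, 1, 0, 2, 3, 3, 1], [0, 0, 3, 1, 3, 2, 1, 2, 3], [3, 2, 3, 3, 1, 0, 3, 0, 2]],
  [[0, 2, 0, 3, 3, 1, 0, 0, 2], [0, 3, 1, 3, 2, 2, 1, 0, 3], [0, 2, 2, 1, 1, 0, 3, 2, 2], [3, 3, 2, 2, 1, 2, 1, 1, 2], [3, 1, 2, 2, 2, 0, 0, 2, 1], [1, 3, 0, 1, 0, 0, 3, 3, 0], [0, 2, 3, 2, 0, 3, 2, 1, 2], [3, 2, 1, 2, 1, 0, 2, 3, 0], [3, 2, 1, 1, 2, 2, 1, 2, 3]],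
  [[1, 3, 3, 3, 1, 3, 2, 1, 1], [3, 3, 3, 1, 0, 0, 3, 1, 2], [0, 0, 2, 0, 1, 2, 3, 0, 3], [3, 1, 2, 0, 1, 2, 2, 0, 1], [1, 3, 0, 3, 3, 2, 1, 2, 0], [2, 1, 2, 3, 0, 3, 2, 2, 0], [0, 0, 0, 1, 3, 2, 2, 0, 3], [0, 1, 1, 2, 3, 0, 3, 1, 3], [0, 1, 1, 3, 1, 3, 3, 0, 3]],
  [[1, 2, 0, 2, 1, 3, 0, 0, 0], [2, 2, 0, 1, 2, 1, 0, 1, 1], [2, 2, 3, 3, 0, 3, 0, 1, 1], [2, 1, 0, 0, 2, 2, 1, 3, 2], [1, 0, 1, 1, 2, 0, 2, 2, 1], [2, 0, 3, 3, 3, 2, 3, 0, 2], [3, 2, 2, 3, 1, 3, 3, 2, 2], [1, 1, 0, 0, 3, 3, 0, 1, 0], [1, 3, 2, 1, 0, 0, 2, 2, 2]],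
  [[0, 0, 1, 3, 2, 0, 1, 0, 1], [1, 3, 2, 2, 2, 1, 1, 2, 1], [2, 0, 0, 1, 3, 1, 3, 3, 3], [3, 0, 3, 1, 3, 3, 2, 0, 1], [3, 0, 0, 3, 1, 0, 1, 0, 3], [1, 2, 3, 3, 3, 3, 0, 1, 0], [3, 1, 2, 1, 0, 3, 1, 0, 1], [1, 3, 3, 3, 0, 1, 0, 1, 2], [0, 1, 2, 1, 1, 1, 3, 2, 0]],
  [[0, 1, 3, 2, 2, 1, 2, 1, 0], [0, 2, 0, 0, 0, 3, 1, 2, 1], [1, 3, 0, 2, 0, 2, 3, 2, 3], [2, 3, 1, 1, 2, 2, 1, 2, 1], [3, 3, 2, 2, 1, 2, 0, 0, 1], [0, 1, 1, 2, 0, 2, 2, 1, 1], [1, 1, 2, 3, 1, 0, 1, 0, 2], [0, 3, 2, 0, 0, 1, 0, 1, 3], [1, 1, 2, 1, 2, 0, 1, 3, 0]],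
  [[2, 2, 2, 2, 0, 2, 0, 2, 2], [0, 0, 1, 1, 0, 0, 1, 2, 2], [2, 2, 1, 3, 2, 0, 3, 2, 0], [3, 2, 3, 1, 0, 0, 0, 3, 0], [0, 2, 3, 2, 1, 0, 3, 1, 2], [3, 0, 1, 1, 0, 1, 1, 1, 3], [1, 3, 2, 1, 1, 1, 3, 1, 1], [1, 3, 1, 3, 2, 1, 1, 3, 2], [1, 3, 2, 1, 2, 3, 2, 1, 3]],
  [[3, 0, 3, 2, 0, 2, 1, 1, 1], [3, 0, 3, 3, 3, 0, 2, 2, 2], [3, 1, 1, 2, 2, 1, 3, 1, 3], [3, 1, 2, 1, 3, 1, 1, 2, 1], [0, 0, 3, 0, 1, 0, 1, 3, 3], [3, 0, 0, 0, 0, 1, 1, 1, 2], [0, 1, 2, 0, 2, 1, 2, 1, 3], [3, 3, 3, 2, 1, 1, 1, 2, 1], [3, 3, 0, 0, 3, 2, 1, 3, 2]],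
  [[3, 3, 0, 2, 1, 2, 2, 0, 2], [1, 0, 3, 3, 1, 0, 3, 2, 1], [0, 1, 3, 1, 3, 1, 2, 1, 0], [3, 2, 0, 1, 0, 3, 0, 0, 1], [3, 3, 0, 1, 1, 2, 0, 2, 1], [1, 2, 0, 1, 0, 3, 3, 2, 3], [3, 0, 1, 3, 2, 1, 3, 1, 0], [3, 3, 3, 0, 1, 0, 1, 3, 3], [0, 1, 2, 0, 1, 1, 1, 2, 1]],
  [[2, 1, 0, 2, 2, 1, 2, 2, 0], [2, 0, 1, 3, 2, 3, 0, 2, 1], [0, 2, 2, 0, 0, 0, 1, 2, 3], [3, 2, 1, 1, 1, 1, 2, 0, 0], [1, 1, 2, 0, 1, 0, 3, 1, 1], [3, 0, 1, 2, 3, 2, 1, 0, 1], [3, 2, 3, 0, 0, 2, 2, 1, 1], [0, 3, 1, 0, 3, 3, 1, 2, 3], [3, 1, 0, 1, 1, 2, 0, 2, 1]],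
  [[0, 2, 3, 2, 1, 3, 2, 1, 0], [3, 0, 1, 0, 1, 3, 2, 3, 2], [0, 0, 3, 3, 2, 2, 3, 0, 0], [3, 3, 3, 0, 1, 3, 0, 3, 1], [2, 2, 2, 3, 3, 0, 0, 3, 1], [1, 0, 2, 1, 0, 3, 2, 0, 0], [3, 0, 2, 1, 2, 1, 2, 1, 0], [2, 3, 2, 3, 2, 2, 1, 1, 2], [2, 3, 3, 1, 0, 0, 2, 1, 1]],
  [[0, 2, 0, 2, 3, 1, 2, 3, 3], [3, 0, 0, 2, 3, 0, 0, 2, 2], [2, 1, 2, 2, 3, 3, 3, 3, 2], [3, 0, 2, 0, 2, 1, 1, 2, 1], [1, 1, 3, 1, 2, 0, 3, 3, 0], [2, 2, 3, 2, 0, 2, 1, 3, 0], [3, 3, 2, 0, 0, 3, 3, 1, 3], [1, 2, 0, 2, 2, 0, 1, 1, 1], [0, 3, 0, 1, 1, 0, 0, 3, 1]]]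

/-- the relations, as pairs of words -/
noncomputable def RS : List (List ℕ × List ℕ) := [([1, 1], []),
  ([3, 1], [1, 3]),
  ([15, 1, 16], [3]),
  ([15, 3, 16], [1, 3]),
  ([13, 13, 13], []),
  ([15, 15, 15], []),
  ([13, 15], [15, 13]),
  ([13, 1], [1, 13]),
  ([13, 3], [3, 13]),
  ([7, 1], [1, 7]),
  ([7, 3, 8], [9]),
  ([9, 3, 10], [1, 3]),
  ([9, 13], [13, 9]),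
  ([5, 1], [1, 5]),
  ([5, 3], [3, 5]),
  ([5, 5], []),
  ([5, 13, 5, 14, 13, 13, 5, 14, 14], []),
  ([9, 5, 9, 5], [11]),
  ([11, 11], [1]),
  ([9, 13, 5, 14, 9, 5, 9, 13, 5, 14, 9, 5], [3]),
  ([9, 5, 9, 13, 5, 14, 9, 5, 9, 13, 5, 14], [1, 3]),
  ([11, 3], [3, 11]),
  ([11, 15, 11, 16], [15, 11, 16, 11]),
  ([13, 15, 11, 16, 14, 11, 13, 15, 12, 16, 14], [1, 3, 11]),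
  ([11, 15, 11, 16], [15, 15, 11, 16, 16, 1, 3]),
  ([17, 17, 17], [15]),
  ([19, 14, 20], [13, 15]),
  ([21, 13, 22], [14, 15]),
  (wpow [1, 23, 1, 24] 17, [])]

theorem c1 : allFrom (fun i => wordIs (tabQ 2 1 1) 9 7 M1 (nth [] WS i) (nth [] Ns (2 * i + 1))) 0 12
    = true := by decide +kernel

theorem c2 : letOK (tabQ 2 1 1) 9 12 Ns = true := by decide +kernel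

theorem c3 : lall (fun r => wordIs (tabQ 2 1 1) 9 12 Ns r (scalM 9 1))
    (lmap (fun p => lapp p.1 (winv p.2)) RS) = true := by decide +kernel

theorem c4 : wordNe (tabQ 2 1 1) 9 12 Ns [15, 1, 16, 2] = true := by decide +kernel

theorem c5 : wordNe (tabQ 2 1 1) 9 12 Ns [1, 1, 23, 1, 24, 2, 23, 2, 24, 2] = true := by decide +kernel

end J7

open J7 in
theorem cfg {G : Type*} [Group G] {F : Type*} [Field F] {ω : F}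
    (hT : (CF.Comp.tabQ 2 1 1).Ok (CF.Comp.elQ 2 ω))
    (ψ : Spor.threeJ3 F ω →* G) (hψ : ∀ x, ψ x = 1 → x ∈ center _) :
    ∃ z t e r s i a b u g₁ g₂ g : G, Cfg z t e r s i a b u g₁ g₂ g := by
  have h := (rep3 hT).evs c1 c2
  generalize evs (g3 hT) WS = f at h
  have R : ∀ p ∈ RS, ev (fun i => ψ (f i)) p.1 = ev (fun i => ψ (f i)) p.2 := fun p hp => by
    have := h.rels (glMat_inj _) c3 _ (by rw [lmap_eq]; exact List.mem_map_of_mem hp)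
    rw [ev_lapp, ev_winv, mul_inv_eq_one] at this
    rw [← map_ev, this, map_ev]
  have n1 := h.ne_one c4
  have n2 := h.ne_one c5
  simp only [RS, List.forall_mem_cons, ev_wpow] at R
  simp only [ev_cons, ev_nil, evL, OfNat.ofNat_ne_zero, one_ne_zero, if_false, Nat.reduceSub,
    Nat.reduceMod, Nat.reduceDiv, if_true, mul_one, Nat.sub_self, Nat.zero_mod, Nat.zero_div] at R n1 n2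
  obtain ⟨r0, r1, r2, r3, r4, r5, r6, r7, r8, r9, r10, r11, r12, r13, r14, r15, r16, r17, r18, r19, r20, r21, r22, r23, r24, r25, r26, r27, r28, -⟩ := R
  refine ⟨ψ (f 0), ψ (f 1), ψ (f 2), ψ (f 3), ψ (f 4), ψ (f 5), ψ (f 6), ψ (f 7), ψ (f 8), ψ (f 9),
    ψ (f 10), ψ (f 11), r0, fun e => n1 ?_, r1, ?_, ?_, ?_, ?_, r6, r7, r8, r9, ?_, ?_, r12, r13, r14,
    r15, ?_, ?_, r18, ?_, ?_, r21, ?_, ?_, ?_, ?_, ?_, ?_, ?_, fun e => n2 ?_⟩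
  · rw [← mul_assoc, mem_center_iff.1 (hψ _ e)]; group
  any_goals simp only [pow_three, sq, mul_assoc, mul_inv_rev, inv_inv]; assumption
  rw [← map_inv, ← map_mul, ← map_mul, ← map_mul] at e
  have := mem_center_iff.1 (hψ _ e) (f 0)
  calc _ = f 0 * (f 0 * (f 11 * f 0 * (f 11)⁻¹)) * (f 0)⁻¹ * (f 0 * (f 11 * f 0 * (f 11)⁻¹))⁻¹ := by group
    _ = 1 := by rw [this]; group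

end CF.Pz.J
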