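import Cfsg.Agent.Pz.M0
import Cfsg.Agent.S1627
import Cfsg.Agent.S1702
import Cfsg.Agent.S1703
import Cfsg.Agent.S2051
import Cfsg.Agent.S2052

/-! The groups of Lyons and `J₄` are not involved in the Monster; covers of the groups of Rudvalis and O'Nan. -/

set_option autoImplicit false

namespace CF.Pz

open Subgroup Function Cfsg Spor

theorem perfect_of {X : Type*} [Group X] [IsSimpleGroup X] (h : ¬ (Nat.card X).Prime) : commutator X = ⊤ := by
  refine (commutator_normal ⊤ ⊤).eq_bot_or_eq_top.resolve_left fun e => h ?_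
  have k : ∀ a b : X, a * b = b * a := fun a b => commutatorElement_eq_one_iff_mul_comm.1
    (mem_bot.1 (e.le (commutator_mem_commutator (mem_top a) (mem_top b))))
  let _ : CommGroup X := ⟨k⟩
  exact IsSimpleGroup.prime_card

variable (A : Subgroup Monster) (B : Subgroup A) [B.Normal]

theorem not_ly : ¬ IsoLy (A ⧸ B) := fun e => by
  have := card_sect A B e
  rw [Agent.S1702.result.2] at this
  exact absurd this (by decide +kernel)

theorem not_j4 : ¬ IsoJ4 (A ⧸ B) := fun e => by
  have := card_sect A B e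
  rw [Agent.S1703.result.2] at this
  exact absurd this (by decide +kernel)

theorem emb_ru (e : IsoRu (A ⧸ B)) : ∃ ι : Ru →* Monster, Injective ι := by
  haveI := finite_M
  obtain ⟨H, π, h⟩ := exists_mn A B e
  obtain ⟨-, c, _⟩ := Agent.S1627.result
  obtain ⟨s, o⟩ := h.stem (perfect_of (by rw [c]; norm_num)) (r := 29) (n := 29) (by norm_num) (by decide)
    (by rw [c]; decide) (fun a _ _ => by interval_cases a <;> decide) (by rw [c]; decide) (by decide) (by decide)
    (N := 5537166971221502816427876727570563072000000) (by rw [c]) (rs := [29, 13]) (by decide +kernel)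
    (by rw [c]; simp only [List.forall_mem_cons]; norm_num)
  obtain ⟨f, hf⟩ := Agent.S2051.result.2 H π s
  have d := card_dvd_of_surjective f hf
  rw [Nat.card_congr Multiplicative.toAdd, Nat.card_zmod] at d
  have k : π.ker = ⊥ := card_eq_one.1 (((Nat.dvd_prime Nat.prime_two).1 d).resolve_right fun e => o e.symm.dvd)
  let g := MulEquiv.ofBijective π ⟨(MonoidHom.ker_eq_bot_iff π).1 k, h.surj⟩
  exact ⟨H.subtype.comp g.symm.toMonoidHom, H.subtype_injective.comp g.symm.injective⟩

theorem emb_on (e : IsoON (A ⧸ B)) : ∃ (H : Subgroup Monster) (π : H →* ON) (c : H), Surjective π ∧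
    c ^ 3 = 1 ∧ (∀ g, g * c = c * g) ∧ ∀ g, π g = 1 → g = 1 ∨ g = c ∨ g = c * c := by
  haveI := finite_M
  obtain ⟨H, π, h⟩ := exists_mn A B e
  have c := Comp.ON.card
  haveI := Comp.ON.simple
  obtain ⟨s, -⟩ := h.stem (perfect_of (by rw [c]; norm_num)) (r := 19) (n := 343) (by norm_num) (by decide)
    (by rw [c]; decide) (fun a _ _ => by interval_cases a <;> decide) (by rw [c]; decide) (by decide) (by decide)
    (N := 1753451032819171146797290273269350400000000) (by rw [c]) (rs := [19, 31]) (by decide +kernel)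
    (by rw [c]; simp only [List.forall_mem_cons]; norm_num)
  obtain ⟨f, hf⟩ := Agent.S2052.result.2 H π s
  refine ⟨H, π, f (.ofAdd 1), h.surj, ?_, mem_center_iff.1 (s.2.1 (f _).2), fun g hg => ?_⟩
  · rw [← coe_pow, ← map_pow, show (Multiplicative.ofAdd (1 : ZMod 3)) ^ 3 = 1 by decide, map_one, coe_one]
  · obtain ⟨a, e⟩ := hf ⟨g, hg⟩
    obtain rfl : (f a).1 = g := congrArg Subtype.val e
    rcases (by decide : ∀ a : Multiplicative (ZMod 3), a = 1 ∨ a = .ofAdd 1 ∨ a = .ofAdd 1 * .ofAdd 1) a with
      rfl | rfl | rfl <;> simp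

end CF.Pz
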