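import Cfsg.Agent.Pz.JA
import Cfsg.Agent.Pz.M1
import Cfsg.Agent.Schur.J3

/-! The third Janko group and the Monster: reduction to central extensions. -/

set_option autoImplicit false
set_option maxRecDepth 100000

namespace CF.Pz.J

open Cfsg Subgroup CF.Leech CF.Loc CF.Even CF.LX CF.Known.Mon CF.Mx

variable {G : Type*} [Group G] [Finite G] {z₀ : G} {A₀ : Subgroup G}

theorem n19 (m : Mo z₀ A₀) (syl : ∀ X : Subgroup G, IsPGroup 2 X → ∃ x, IsConj z₀ x ∧ X ≤ 𝐂₁(x))
    (c1 : ¬ 19 ∣ Nat.card 𝐂₁(z₀)) (c2 : ¬ 361 ∣ Nat.card G) {g : G} (o : orderOf g = 19)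
    {P : Subgroup G} (hP : IsPGroup 2 P) (n : g ∈ 𝐍(P)) : g ∈ 𝐂(P) := by
  by_contra k
  haveI := Fact.mk (by norm_num : Nat.Prime 19)
  have cg : Nat.card (zpowers g) = 19 := by rw [Nat.card_zpowers, o]
  have nK : zpowers g ≤ 𝐍(𝐂(P)) := zpowers_le.2 (normalizer_le_normalizer_centralizer P n)
  have d : ¬ 19 ∣ Nat.card 𝐂(P) := fun ⟨a, e⟩ => c2 (by
    have := Solv.card_sup_mul_card_inf_of_le_normalizer nK
    have i : zpowers g ⊓ 𝐂(P) ≤ zpowers g := inf_le_left
    rw [((Nat.dvd_prime Fact.out).1 (cg ▸ card_dvd_of_le i)).resolve_right fun q =>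
      k ((eq_of_le_of_card_ge i (q.trans cg.symm).ge).ge (mem_zpowers g)).2, mul_one, cg, e, ← mul_assoc] at this
    exact (Dvd.intro _ this.symm).trans (card_subgroup_dvd_card _))
  obtain ⟨S, hS, nS⟩ := Coprime.exists_invariant_isSylowOf _ _ nK
    (cg ▸ (Nat.Prime.coprime_iff_not_dvd Fact.out).2 d) (.inl inferInstance) 2
  obtain ⟨x, bx, hx⟩ := syl (P ⊔ S) (hP.to_sup_of_normal_left' hS.isPGroup (hS.le.trans (centralizer_le_normalizer _)))
  have xx := m.b0.sq bx
  have xS : x ∈ 𝐂(S) := fun s hs => mem_c1.1 (hx (mem_sup_right hs))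
  have xm : x ∈ S := (hS.eq_of_le le_sup_left (sup_le hS.le (zpowers_le.2 fun s hs => mem_c1.1 (hx (mem_sup_left hs))))
    (hS.isPGroup.to_sup_of_normal_left' (pg_of_sq (sq_zp xx))
      (zpowers_le.2 (centralizer_le_normalizer _ xS)))).le (mem_sup_right (mem_zpowers x))
  let E : Subgroup G :=
    { carrier := {w | w ∈ S ⊓ 𝐂(S) ∧ w * w = 1}
      one_mem' := ⟨one_mem _, mul_one 1⟩
      mul_mem' := fun {a b} ha hb => ⟨mul_mem ha.1 hb.1, by
        rw [mul_assoc, ← mul_assoc b, ha.1.2 b hb.1.1, mul_assoc, hb.2, mul_one, ha.2]⟩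
      inv_mem' := fun {a} ha => ⟨inv_mem ha.1, by rw [← mul_inv_rev, ha.2, inv_one]⟩ }
  have nE : zpowers g ≤ 𝐍(E) := fun h hh => mem_normalizer_fintype fun w hw =>
    ⟨⟨conj_mem_of_mem_normalizer (nS hh) hw.1.1,
      conj_mem_of_mem_normalizer (normalizer_le_normalizer_centralizer S (nS hh)) hw.1.2⟩,
      by rw [conj_mul, hw.2]; group⟩
  have c := SolvStr.card_modEq_card_inf_centralizer (q := 19) (IsPGroup.of_card (n := 1) cg) nE
  obtain ⟨a, ha⟩ := IsPGroup.iff_card.1 (pg_of_sq (X := E) fun a h => h.2)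
  have r := (Nat.pow_le_pow_iff_right one_lt_two).1 (ha ▸ m.rk E fun a h => h.2)
  obtain ⟨b, hb, e⟩ := (Nat.dvd_prime_pow Nat.prime_two).1
    (ha ▸ card_dvd_of_le (inf_le_left : E ⊓ 𝐂(zpowers g) ≤ E))
  rw [ha, e] at c
  obtain rfl : a = b := (by decide : ∀ a ≤ 15, ∀ b ≤ a, 2 ^ a % 19 = 2 ^ b % 19 → a = b) a r b hb c
  have l := (eq_of_le_of_card_ge (inf_le_left : E ⊓ 𝐂(zpowers g) ≤ E) (by rw [ha, e])).ge
    (show x ∈ E from ⟨⟨xm, xS⟩, xx⟩)
  obtain ⟨u, rfl⟩ := isConj_iff.1 bx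
  exact c1 (Bt.card_cent_conj u z₀ ▸ o ▸ orderOf_dvd_natCard _ (mem_c1.2 (l.2 g (mem_zpowers g))))

theorem exists_cext (hc : Nat.card G = 808017424794512875886459904961710757005754368000000000)
    (N : ∀ (g : G) (P : Subgroup G), orderOf g = 19 → IsPGroup 2 P → g ∈ 𝐍(P) → g ∈ 𝐂(P))
    {H : Type*} [Group H] [IsSimpleGroup H] (cH : Nat.card H = 50232960) (A : Subgroup G)
    (π : A →* H) (hπ : Function.Surjective π) :
    ∃ (A' : Subgroup G) (π' : A' →* H), CF.Schur.CExt π' := by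
  obtain ⟨K, σ, h⟩ := exists_mn A π.ker ⟨QuotientGroup.quotientKerEquivOfSurjective π hπ⟩
  have c : Nat.card K = 50232960 * Nat.card σ.ker := by
    rw [← σ.ker.index_mul_card, index_ker, MonoidHom.range_eq_top.2 h.surj, card_top, cH]
  have d : Nat.card σ.ker ∣ 16085403384441467830811879390776708300800000000 := by
    have := card_subgroup_dvd_card K
    rw [hc, c] at this
    exact Nat.dvd_of_mul_dvd_mul_left (by decide : 0 < 50232960) this
  refine ⟨K, σ, h.surj, h.ker_le (fun P _ hP _ => ?_) fun p hp ne e => ?_⟩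
  · haveI := Fact.mk (by norm_num : Nat.Prime 19)
    obtain ⟨y, o⟩ := exists_prime_orderOf_dvd_card' (G := K) 19 (c ▸ Dvd.dvd.mul_right (by decide) _)
    have k := N y (P.map K.subtype) (by rwa [orderOf_coe]) (hP.map _) (mem_normalizer_fintype
      fun _ ⟨w, hw, e⟩ => ⟨_, Normal.conj_mem ‹_› w hw y, e ▸ rfl⟩)
    have t := h.top (centralizer (P : Set K)) fun q => absurd ((o ▸ orderOf_dvd_natCard _
      (q fun w hw => Subtype.ext (k _ ⟨w, hw, rfl⟩))).trans d) (by decide)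
    exact fun x hx => mem_center_iff.2 fun g => (t.ge (mem_top g) x hx).symm
  · obtain ⟨r, a, b, f⟩ := odd_spec (rs := [17, 19]) (by decide +kernel) (by decide +kernel) hp ne (e.trans d)
    have : r.Prime ∧ r ∣ 50232960 := by
      revert r
      simp only [List.mem_cons, List.not_mem_nil, or_false]
      rintro _ (rfl | rfl) - - <;> norm_num
    exact ⟨r, this.1, b, cH ▸ this.2, fun j j0 q => f j j0 (q.trans d)⟩

open CF.Comp CF.Comp.J3 CF.Schur in
omit [Finite G] in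
theorem exists_psi {F : Type*} [Field F] {ω : F} (hT : (CF.Comp.tabQ 2 1 1).Ok (CF.Comp.elQ 2 ω))
    {π : G →* Spor.J3 F ω} (h : CF.Schur.CExt π) :
    ∃ ψ : Spor.threeJ3 F ω →* G, ∀ x, ψ x = 1 → x ∈ center _ := by
  haveI := simple hT
  haveI : Finite (Spor.threeJ3 F ω) := Nat.finite_of_card_ne_zero (by rw [card3 hT]; decide)
  have c1 : ev (g3 hT) cw ∈ commutator _ := Schur.J3.rels_mem (rels3 hT) (m := 7)
    (u := [22, 42, 114, 108, 108, 108, 108, 108, 108, 110, 31, 31, 31, 31, 31, 31]) (by decide +kernel)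
  have c2 : ev (g3 hT) cw ∈ center _ := (QuotientGroup.eq_one_iff _).1
    ((map_ev (QuotientGroup.mk' _) _ _).trans (rels0 hT cw List.mem_cons_self))
  have c3 : center (Spor.threeJ3 F ω) ≤ commutator _ := (eq_of_le_of_card_ge (zpowers_le.2 c2) (by
    rw [Nat.card_zpowers, order_cw (rep3 hT) (glMat_inj _), card_center hT])).ge.trans (zpowers_le.2 c1)
  have p : commutator (Spor.threeJ3 F ω) = ⊤ := by
    have := congrArg (comap (QuotientGroup.mk' (center (Spor.threeJ3 F ω))))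
      ((map_commutator_eq _ (QuotientGroup.mk' (center (Spor.threeJ3 F ω)))).trans ((by
        rw [QuotientGroup.range_mk']; rfl : _ = commutator _).trans (perfect_of (by rw [card hT]; norm_num))))
    rwa [comap_map_eq, QuotientGroup.ker_mk', sup_eq_left.2 c3, comap_top] at this
  obtain ⟨η, e⟩ := exists_lift_of_trivial p (trivial_of_cover_perfect (Schur.J3.schur hT) (cext_mk' _ le_rfl) p (by
    rw [QuotientGroup.ker_mk', card_center hT, Nat.card_congr Multiplicative.toAdd, Nat.card_zmod])) h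
    (QuotientGroup.mk' _)
  exact ⟨η, fun x hx => (QuotientGroup.eq_one_iff x).1
    ((DFunLike.congr_fun e x).symm.trans (by rw [MonoidHom.comp_apply, hx, map_one]))⟩

end CF.Pz.J
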