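import Cfsg.Agent.Pz.J6
import Cfsg.Agent.Pz.J8
import Cfsg.Agent.Mx.M1
import Cfsg.Agent.Mx.M1t
import Cfsg.Agent.Mx.M3

/-! The third Janko group and the Monster: from a section to a map of the triple cover. -/

set_option autoImplicit false

namespace CF.Pz.J

open Cfsg Subgroup CF.Mx CF.Comp Spor

theorem exists_mo : ∃ (z₀ : Monster) (A₀ : Subgroup Monster), Mo z₀ A₀ ∧ Ex z₀ ∧
    ∀ (g : Monster) (P : Subgroup Monster), orderOf g = 19 → IsPGroup 2 P → g ∈ normalizer (P : Set Monster) →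
      g ∈ centralizer (P : Set Monster) := by
  obtain ⟨_, _, h⟩ := CF.Mon.certs.outM
  have := h.finite
  have m := Mo.mk (b0 h) (ark h) (rk h) (gd h) (tri h) (s4 h) (s8 h) (s16 h (ark h)) (fano h (ark h))
    (two h) (a2 h) (a4 h) (p4 h) (p8 h)
  exact ⟨_, _, m, ex h, fun g P o hP n => n19 m (syl h) (by rw [h.card_cx]; decide) (by rw [h.card]; decide) o hP n⟩

theorem psi_of_sect (A : Subgroup Monster) (B : Subgroup A) [B.Normal] (q : IsoJ3 (A ⧸ B)) :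
    ∃ (F : Type) (_ : Field F) (ω : F) (_ : (tabQ 2 1 1).Ok (elQ 2 ω)) (ψ : threeJ3 F ω →* Monster),
      ∀ x, ψ x = 1 → x ∈ center _ := by
  obtain ⟨F, _, _, ω, hF, hω, ⟨e⟩⟩ := q
  have hT := J3.ok hF hω
  have := finite_M
  have := J3.simple hT
  obtain ⟨_, _, -, -, N⟩ := exists_mo
  obtain ⟨A', π, c⟩ := exists_cext card_M N (J3.card hT) A (e.toMonoidHom.comp (QuotientGroup.mk' B))
    (e.surjective.comp (QuotientGroup.mk'_surjective B))
  obtain ⟨ψ, k⟩ := exists_psi hT c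
  exact ⟨F, _, ω, hT, A'.subtype.comp ψ, fun x hx => k x (Subtype.ext hx)⟩

/-- the final step, given the relations and their impossibility -/
theorem not_j3_of
    (cfg : ∀ (F : Type) [Field F] (ω : F), (tabQ 2 1 1).Ok (elQ 2 ω) → ∀ ψ : threeJ3 F ω →* Monster,
      (∀ x, ψ x = 1 → x ∈ center _) → ∃ z t e r s i a b u g₁ g₂ g : Monster, Cfg z t e r s i a b u g₁ g₂ g)
    (no : ∀ (z₀ : Monster) (A₀ : Subgroup Monster), Mo z₀ A₀ → Ex z₀ →
      ∀ z t e r s i a b u g₁ g₂ g : Monster, Cfg z t e r s i a b u g₁ g₂ g → False)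
    (A : Subgroup Monster) (B : Subgroup A) [B.Normal] : ¬ IsoJ3 (A ⧸ B) := fun q => by
  obtain ⟨F, _, ω, hT, ψ, k⟩ := psi_of_sect A B q
  obtain ⟨z, t, e, r, s, i, a, b, u, g₁, g₂, g, c⟩ := cfg F ω hT ψ k
  obtain ⟨z₀, A₀, m, X, -⟩ := exists_mo
  exact no z₀ A₀ m X _ _ _ _ _ _ _ _ _ _ _ _ c

end CF.Pz.J
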