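import Cfsg.Agent.Pz.J1
import Cfsg.Agent.Pz.J3
import Cfsg.Agent.Pz.J5c
import Cfsg.Agent.Pz.J7
import Cfsg.Agent.Pz.J9a

/-! The third Janko group is not involved in the Monster. -/

set_option autoImplicit false

namespace CF.Pz.J

open Cfsg Subgroup CF.Loc CF.Even CF.LX CF.Known.Mon CF.Mx

variable {G : Type*} [Group G] [Finite G] {z₀ : G} {A₀ : Subgroup G}

theorem no_cfg (m : Mo z₀ A₀) (X : Ex z₀) {z t e r s i a b u g₁ g₂ g : G}
    (c : Cfg z t e r s i a b u g₁ g₂ g) : False := by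
  have bz : IsConj z₀ z := by
    by_contra k
    have := X.six z g c.zz k
    rw [haveI := Fact.mk (by norm_num : Nat.Prime 17); orderOf_eq_prime c.h17 c.h1] at this
    omega
  by_cases n : t ∈ QO z
  swap
  · exact ty3 m c bz n fun ⟨A, k, x1, y1⟩ => ty2 m X c bz n k x1 y1
  have hs : s ∈ QO z := c.rt ▸ conj_QO c.rz n
  have hi : i ∈ QO z := by
    have := mul_mem hs (conj_QO c.ez hs)
    rwa [inv_eq c.ee, ← mul_assoc, ← mul_assoc, c.hi] at this
  have hj : b * i * b⁻¹ ∈ QO t := c.bz ▸ conj_mem_QO.2 hi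
  have jz : b * i * b⁻¹ * z = z * (b * i * b⁻¹) := by
    rw [← c.bzt, conj_comm, ← mul_assoc, QO_comm hi, mul_assoc, c.it, mul_assoc]
  refine ty1 m.b0 bz (c.ct bz) n c.tz' hi hj (conj_QO c.at' hj) ?_ c.ii c.it jz ?_ c.ij c.ik
  · rw [c.i3]
    exact mul_mem (c.bt ▸ conj_mem_QO.2 hj) (m.b0.self (c.czt bz))
  · conv_lhs => rw [← conj_eq_iff.2 c.az]
    conv_rhs => rw [← conj_eq_iff.2 c.az]
    exact conj_comm.2 jz

theorem not_j3 (A : Subgroup Spor.Monster) (B : Subgroup A) [B.Normal] : ¬ Spor.IsoJ3 (A ⧸ B) :=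
  have := finite_M
  not_j3_of (fun _ _ _ hT ψ k => cfg hT ψ k)
    (fun _ _ m X _ _ _ _ _ _ _ _ _ _ _ _ c => no_cfg m X c) A B

end CF.Pz.J
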