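import Cfsg.Agent.Mx.F
import Cfsg.Agent.Known.Mon.Three

/-! The third Janko group and the Monster: definitions. -/

set_option autoImplicit false

namespace CF.Pz.J

open Cfsg Subgroup CF.Leech CF.Loc CF.Even CF.LX CF.Known.Mon CF.Mx

variable {G : Type*} [Group G]

/-- elements of order three with few fixed points on an extraspecial group -/
def Th3 (z y : G) : Prop := orderOf y = 3 ∧ ∃ x s, IsConj z x ∧ IsConj z s ∧ s ∈ QO x ∧ s ≠ x ∧
  y * x = x * y ∧ y * s = s * y ∧ {q | q ∈ QO x ∧ q * y = y * q}.ncard ≤ 512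

/-- further facts read off from the model -/
structure Ex (z : G) : Prop where
  six : ∀ v g : G, v * v = 1 → ¬ IsConj z v → orderOf (v * (g * v * g⁻¹)) ≤ 6
  cube : ∀ y u : G, Th3 z y → u ^ 3 ≠ y
  inv : ∀ y v : G, Th3 z y → v * v = 1 → v ≠ 1 → v * y = y * v → IsConj z v

/-- coordinates at `x` in which `s` is the standard frame -/
structure Fr (x s : G) (M : MT (QO x) x) : Prop where
  hs : s ∈ QO x
  ls : M.lam s = w8
  pr : Pair (QO x) (QO s) x s

/-- sign changes -/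
noncomputable abbrev ep {c : Finset GolayPt} (hc : c ∈ CS) : Co0 := mono M24.one_mem hc

/-- `v` has even coordinates, and those not divisible by four form the set `c` -/
def Pat (v : LL) (c : Finset GolayPt) : Prop := ∀ i, (4 : ℤ) ∣ (v : V) i - 2 * ind c i

/-- relations that hold in the triple cover of the third Janko group -/
structure Cfg (z t e r s i a b u g₁ g₂ g : G) : Prop where
  zz : z * z = 1
  z1 : z ≠ 1
  tz : t * z = z * t
  bz : b * z * b⁻¹ = t
  bt : b * t * b⁻¹ = z * t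
  a3 : a ^ 3 = 1
  b3 : b ^ 3 = 1
  ab : a * b = b * a
  az : a * z = z * a
  at' : a * t = t * a
  rz : r * z = z * r
  rt : r * t * r⁻¹ = s
  st : s * t * s⁻¹ = z * t
  sa : s * a = a * s
  ez : e * z = z * e
  et : e * t = t * e
  ee : e * e = 1
  e3 : e * (a * e * a⁻¹) * (a * (a * e * a⁻¹) * a⁻¹) = 1
  hi : s * e * s * e = i
  ii : i * i = z
  f21 : (s * (a * e * a⁻¹) * s * e) ^ 2 = t
  f12 : (s * e * s * (a * e * a⁻¹)) ^ 2 = z * t
  it : i * t = t * i
  ij : i * (b * i * b⁻¹) = b * i * b⁻¹ * i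
  ik : a * (b * i * b⁻¹) * a⁻¹ * i * (a * (b * i * b⁻¹) * a⁻¹)⁻¹ = z * t * i
  i3 : i * (b * i * b⁻¹) = b * (b * i * b⁻¹) * b⁻¹ * (z * t)
  u3 : u ^ 3 = b
  c1 : g₁ * a⁻¹ * g₁⁻¹ = a * b
  c2 : g₂ * a * g₂⁻¹ = a⁻¹ * b
  h17 : (z * (g * z * g⁻¹)) ^ 17 = 1
  h1 : z * (g * z * g⁻¹) ≠ 1

theorem Th3.cj {z y : G} (h : Th3 z y) (g : G) : Th3 z (g * y * g⁻¹) := by
  obtain ⟨o, x, s, bx, bs, m, n, e, f, c⟩ := h
  refine ⟨(CF.Invol.orderOf_conj ..).trans o, g * x * g⁻¹, g * s * g⁻¹, (isConj_conj g).2 bx,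
    (isConj_conj g).2 bs, conj_mem_QO.2 m, by simpa using n, conj_comm.2 e, conj_comm.2 f, ?_⟩
  refine le_trans (le_of_eq ?_) c
  rw [← Set.ncard_image_of_injective {q | q ∈ QO x ∧ q * y = y * q} (MulAut.conj g).injective]
  congr 1
  ext q
  obtain ⟨q, rfl⟩ := cj_surj g q
  simp only [Set.mem_setOf_eq, conj_mem_QO, conj_comm, Set.mem_image, MulAut.conj_apply,
    mul_left_inj, mul_right_inj, exists_eq_right]

theorem Th3.inv {z y : G} (h : Th3 z y) : Th3 z y⁻¹ := by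
  obtain ⟨o, x, s, bx, bs, m, n, e, f, c⟩ := h
  have k : ∀ q : G, q * y⁻¹ = y⁻¹ * q ↔ q * y = y * q := fun q => Commute.inv_right_iff
  exact ⟨by rwa [orderOf_inv], x, s, bx, bs, m, n, ((k x).2 e.symm).symm, ((k s).2 f.symm).symm,
    by simpa only [k] using c⟩

namespace Cfg
variable {z t e r s i a b u g₁ g₂ g : G} (c : Cfg z t e r s i a b u g₁ g₂ g)
include c

theorem tt : t * t = 1 := by rw [← c.bz, conj_mul, c.zz, mul_one, mul_inv_cancel]
theorem t1 : t ≠ 1 := by rw [← c.bz]; simpa using c.z1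
theorem zt1 : z * t ≠ 1 := by rw [← c.bt]; simpa using c.t1
theorem tz' : t ≠ z := fun h => c.zt1 (h ▸ c.zz)
theorem ss : s * s = 1 := by rw [← c.rt, conj_mul, c.tt, mul_one, mul_inv_cancel]
theorem sz : s * z = z * s := by
  rw [← c.rt]
  conv_lhs => rw [← conj_eq_iff.2 c.rz, conj_mul, c.tz, ← conj_mul, conj_eq_iff.2 c.rz]
theorem bzt : b * (z * t) * b⁻¹ = z := by
  rw [← conj_mul, c.bz, c.bt, ← mul_assoc, c.tz, mul_assoc, c.tt, mul_one]
theorem a1 : a ≠ 1 := fun h => by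
  have k := c.f21
  rw [h, one_mul, inv_one, mul_one, c.hi, sq, c.ii] at k
  exact c.tz' k.symm
theorem b1 : b ≠ 1 := fun h => c.tz' (by simpa [h] using c.bz.symm)
theorem ct {x : G} (h : IsConj x z) : IsConj x t := c.bz ▸ (isConj_conj b).2 h
theorem czt {x : G} (h : IsConj x z) : IsConj x (z * t) := c.bt ▸ (isConj_conj b).2 (c.ct h)

end Cfg

end CF.Pz.J
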