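import Cfsg.Agent.Pz.JA
import Cfsg.Agent.Known.Mon.Sect

/-! The third Janko group and the Monster: lattice patterns and frames. -/

set_option autoImplicit false

namespace CF.Pz.J

open Cfsg Subgroup CF.Leech CF.Loc CF.Even CF.LX CF.Known.Mon CF.Mx
open scoped Pointwise

variable {G : Type*} [Group G]

section B
variable {v v' : LL} {c c' d : Finset GolayPt}

theorem exists_pat (h : ∀ i, (2 : ℤ) ∣ (v : V) i) : ∃ c, Pat v c := ⟨_, c2_spec h⟩

theorem Pat.mem (h : Pat v c) : c ∈ CS :=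
  mem_CS_of_mem v.2 (Or.inl rfl) fun i => by simpa using h i

theorem Pat.even (h : Pat v c) (i : GolayPt) : (2 : ℤ) ∣ (v : V) i := by
  have := h i
  omega

theorem ind_compl (c : Finset GolayPt) (i : GolayPt) : ind cᶜ i = 1 - ind c i := by
  by_cases k : i ∈ c <;> simp [ind, k]

theorem ind_inter (c d : Finset GolayPt) (i : GolayPt) : ind (c ∩ d) i = ind c i * ind d i := by
  by_cases k : i ∈ c <;> by_cases l : i ∈ d <;> simp [ind, k, l]

theorem Pat.compl (h : Pat v c) : ∃ v', red v' = red v ∧ Pat v' cᶜ := by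
  refine ⟨v + 2 • ⟨vecW, vecW_mem⟩, by rw [map_add, red_two, add_zero], fun i => ?_⟩
  have a := h i
  have b := vecW_LS.2.1 i
  simp only [AddSubgroup.coe_add, Pi.add_apply, two_nsmul, ind_compl]
  omega

theorem ex_half {x y : LL} (e : red x = red y ∨ red x = red y + w8) :
    ∃ u : LL, ∃ a : ℤ, ∀ i, (x : V) i - (y : V) i = 2 * (u : V) i + if i = none then 8 * a else 0 := by
  rcases e with e | e
  · obtain ⟨u, e⟩ := red_eq_iff.1 e
    exact ⟨u, 0, fun i => by simpa using congrArg (fun u : LL => (u : V) i) e⟩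
  · rw [w8, ← map_add] at e
    obtain ⟨u, e⟩ := red_eq_iff.1 e
    refine ⟨u, 1, fun i => ?_⟩
    have := congrArg (fun u : LL => (u : V) i) e
    simp only [AddSubgroup.coe_sub, Pi.sub_apply, AddSubgroup.coe_nsmul, Pi.smul_apply, e8_apply,
      nsmul_eq_mul, AddSubgroup.coe_add, Pi.add_apply] at this
    split_ifs at this ⊢ <;> omega

theorem Pat.cong (h : Pat v c) (h' : Pat v' c') (e : red v = red v' ∨ red v = red v' + w8) :
    c = c' ∨ c = c'ᶜ := by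
  obtain ⟨u, a, e⟩ := ex_half e
  obtain ⟨m, d, hm, -, h4, -⟩ := exists_LS u.2
  refine hm.imp (fun k => Finset.ext fun i => ?_) fun k => Finset.ext fun i => ?_ <;>
  · have := h i; have := h' i; have := e i; have := h4 i
    rcases ind_cases c i with p | p <;> rcases ind_cases c' i with q | q <;>
      simp only [Finset.mem_compl, p.1, q.1, not_true, not_false_iff, iff_false, false_iff] <;>
      split_ifs at * <;> omega

theorem Pat.mono (h : Pat v c) {σ : Equiv.Perm GolayPt} (hσ : σ ∈ M24) (hd : d ∈ CS) :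
    Pat (mono hσ hd • v) (σ • c) := fun i => by
  obtain ⟨i, rfl⟩ := σ.surjective i
  have := h i
  rw [mono_apply, show ind (σ • c) (σ i) = ind c i by simp only [ind, apply_mem_smul_finset]]
  split_ifs <;> omega

theorem ep_apply (hc : c ∈ CS) (v : LL) (i : GolayPt) :
    ((ep hc • v : LL) : V) i = if i ∈ c then -(v : V) i else (v : V) i :=
  mono_apply M24.one_mem hc v i

/-- a sign change fixing the class up to the frame meets the pattern in a codeword -/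
theorem Pat.inter (h : Pat v c) (hd : d ∈ CS)
    (e : ep hd • red v = red v ∨ ep hd • red v = red v + w8) : c ∩ d ∈ CS := by
  rw [← red_smul] at e
  obtain ⟨u, a, e⟩ := ex_half e
  refine mem_CS_of_mem u.2 (Or.inl rfl) fun i => ?_
  have := h i
  have k := e i
  rw [ep_apply] at k
  rw [ind_inter]
  rcases ind_cases d i with q | q <;> simp only [q.1, q.2, if_true, if_false] at k ⊢ <;>
    split_ifs at k <;> omega

/-- if the sign change on the pattern fixes the class, the norm is `4 |c|` modulo 32 -/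
theorem Pat.norm (h : Pat v c) (hc : c ∈ CS) (e : ep hc • red v = red v) :
    (32 : ℤ) ∣ nm v - 4 * c.card := by
  rw [← red_smul, red_eq_iff] at e
  obtain ⟨y, hy⟩ := e
  have e : ∀ i, ((v + y : LL) : V) i = (1 - ind c i) * (v : V) i := fun i => by
    have := congrArg (fun u : LL => (u : V) i) hy
    simp only [AddSubgroup.coe_sub, Pi.sub_apply, AddSubgroup.coe_nsmul, Pi.smul_apply, ep_apply,
      nsmul_eq_mul] at this
    rw [AddSubgroup.coe_add, Pi.add_apply]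
    rcases ind_cases c i with k | k <;> simp only [k.1, k.2, if_true, if_false] at this ⊢ <;> omega
  obtain ⟨m, d, hm, -, h4, hs⟩ := exists_LS (v + y).2
  obtain rfl : m = 0 := by
    have a := h4 none
    have := h none
    rw [e] at a
    rcases ind_cases c none with k | k <;> rw [k.2] at a <;> omega
  have k : (32 : ℤ) ∣ ∑ i, ((v : V) i ^ 2 - 4 * ind c i - 4 * ((1 - ind c i) * (v : V) i)) :=
    Finset.dvd_sum fun i _ => by
      obtain ⟨a, e⟩ := h i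
      obtain ⟨b, f⟩ := Int.even_mul_succ_self a
      obtain ⟨b', f'⟩ := Int.even_mul_pred_self a
      rw [show (v : V) i = 4 * a + 2 * ind c i by omega]
      rcases ind_cases c i with k | k <;> rw [k.2]
      · exact ⟨b, by linear_combination 16 * f⟩
      · exact ⟨b', by linear_combination 16 * f'⟩
  simp only [e] at hs
  rw [Finset.sum_sub_distrib, Finset.sum_sub_distrib, ← Finset.mul_sum, ← Finset.mul_sum,
    sum_ind] at k
  change _ ∣ ∑ i, (v : V) i ^ 2 - _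
  omega

theorem ep_mul (hc : c ∈ CS) (hd : d ∈ CS) : ep hc * ep hd = ep (symmDiff_mem_CS hc hd) :=
  (mono_mul ..).trans (mono_congr _ _ _ _ (one_mul _) (by rw [one_smul]))

theorem neg_mono {σ : Equiv.Perm GolayPt} (hσ : σ ∈ M24) (hc : c ∈ CS) :
    negCo * mono hσ hc = mono hσ (compl_mem_CS hc) := by
  rw [← mono_neg, mono_mul]
  exact mono_congr _ _ _ _ (one_mul _) (by ext i; simp [Finset.mem_symmDiff])

theorem ep_compl (hc : c ∈ CS) : ep (compl_mem_CS hc) = negCo * ep hc := (neg_mono _ hc).symm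

theorem mono_pm {σ : Equiv.Perm GolayPt} (hσ : σ ∈ M24) (hc : c ∈ CS) :
    (mono hσ hc = 1 ∨ mono hσ hc = negCo) ↔ σ = 1 ∧ (c = ∅ ∨ c = Finset.univ) := by
  rw [← mono_one, ← mono_neg, and_or_left]
  exact or_congr ⟨mono_inj _ _ _ _, fun h => mono_congr _ _ _ _ h.1 h.2⟩
    ⟨mono_inj _ _ _ _, fun h => mono_congr _ _ _ _ h.1 h.2⟩

theorem ep_pm (hc : c ∈ CS) : (ep hc = 1 ∨ ep hc = negCo) ↔ c = ∅ ∨ c = Finset.univ :=
  (mono_pm _ hc).trans (and_iff_right rfl)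

theorem mono_ep {σ : Equiv.Perm GolayPt} (hσ : σ ∈ M24) (hd : d ∈ CS) (hc : c ∈ CS) :
    mono hσ hd * ep hc * (mono hσ hd)⁻¹ = ep (smul_mem_CS hσ hc) := by
  rw [mul_inv_eq_iff_eq_mul, mono_mul, mono_mul]
  exact mono_congr _ _ _ _ (by simp) (by rw [one_smul, symmDiff_comm])

variable [Finite G] {z x s g y w : G}

omit [Finite G] in
theorem b0_cj' (h : B0 z) (bx : IsConj z x) : B0 x := by
  obtain ⟨g, rfl⟩ := isConj_iff.1 bx
  have l := h.lq bx
  have n := h.card bx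
  obtain ⟨M⟩ := h
  have m : ∀ {a}, a ∈ QO (g * z * g⁻¹) ↔ g⁻¹ * a * g ∈ QO z := fun {a} => by
    rw [← conj_mem_QO (g := g) (a := g⁻¹ * a * g)]; congr! 1; group
  have m1 : ∀ {a}, a ∈ 𝐂₁(g * z * g⁻¹) ↔ g⁻¹ * a * g ∈ 𝐂₁(z) := fun {a} => by
    rw [mem_c1, mem_c1, ← conj_comm (g := g) (a := g⁻¹ * a * g)]; congr! 2 <;> group
  let f : 𝐂₁(g * z * g⁻¹) →* 𝐂₁(z) := MonoidHom.mk' (fun a => ⟨_, m1.1 a.2⟩) fun a b =>
    Subtype.ext (by simp only [coe_mul]; group)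
  refine ⟨⟨l, n, M.φ.comp f, M.surj.comp fun a => ⟨⟨g * a * g⁻¹, m1.2 (by simp [mul_assoc])⟩,
    Subtype.ext (by simp [f, mul_assoc])⟩, fun a => (M.ker _).trans m.symm,
    fun a => M.lam (g⁻¹ * a * g), fun a ha b hb => ?_, fun a ha => ?_, fun w => ?_,
    fun a k e b hb => ?_, ?_⟩⟩
  · rw [← M.lam_mul _ (m.1 ha) _ (m.1 hb)]; congr 1; group
  · rw [M.lam_eq_zero _ (m.1 ha)]
    exact or_congr (by simp [mul_assoc, inv_mul_eq_iff_eq_mul])
      (by rw [mul_assoc g⁻¹, inv_mul_eq_iff_eq_mul, eq_mul_inv_iff_mul_eq])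
  · obtain ⟨a, ha, e⟩ := M.lam_surj w
    exact ⟨g * a * g⁻¹, conj_mem_QO.2 ha, by simpa [mul_assoc] using e⟩
  · rw [← M.lam_conj (f a) k e _ (m.1 hb)]
    congr 1
    simp only [f, MonoidHom.mk'_apply]
    group
  · obtain ⟨a, p, q⟩ := M.nw
    have k : g * a * g⁻¹ * (g * z * g⁻¹) * (g * a * g⁻¹)⁻¹ = g * (a * z * a⁻¹) * g⁻¹ := by group
    exact ⟨g * a * g⁻¹, k ▸ conj_mem_QO.2 p, by rw [k]; simpa using q⟩

theorem b0_cj (h : B0 z) (bx : IsConj z x) : B0 x := b0_cj' h bx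

theorem exists_fr (h : B0 z) (bx : IsConj z x) (bs : IsConj z s) (m : s ∈ QO x) (n : s ≠ x) :
    ∃ M : MT (QO x) x, Fr x s M := by
  obtain ⟨M⟩ := b0_cj h bx
  have b := bx.symm.trans bs
  obtain ⟨v, a, e⟩ := (M.conj_iff m).1 ⟨b, n⟩
  obtain ⟨k, l⟩ := M.exists_twist e a
  obtain ⟨g, rfl⟩ := isConj_iff.1 b
  exact ⟨_, m, l, cj_QO g x ▸ M.pair n m⟩

namespace Fr
variable {M : MT (QO x) x} (F : Fr x s M) {p q : GolayPt}
include F

theorem eps (hg : g ∈ QO s) (e : g * x = x * g) : ∃ c, ∃ hc : c ∈ CS, M.Rp g (ep hc) := by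
  obtain ⟨b, r⟩ := M.exists_Rp (mem_c1.2 e)
  obtain ⟨c, hc, rfl⟩ := mem_Sg.1 ((M.pre_B F.pr F.ls).1.le (M.mem_pre.2 ⟨g, ⟨hg, r.mem⟩, r⟩))
  exact ⟨c, hc, r⟩

theorem exists_eps (hc : c ∈ CS) : ∃ g ∈ QO s, M.Rp g (ep hc) :=
  let ⟨g, a, r⟩ := M.mem_pre.1 ((M.pre_B F.pr F.ls).1.ge (mem_Sg.2 ⟨_, hc, rfl⟩))
  ⟨g, a.1, r⟩

omit [Finite G] in
theorem mon' (e : g * x = x * g) (f : g * s = s * g) :
    ∃ σ c, ∃ (hσ : σ ∈ M24) (hc : c ∈ CS), M.Rp g (mono hσ hc) := by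
  obtain ⟨b, r⟩ := M.exists_Rp (mem_c1.2 e)
  obtain ⟨σ, c, hσ, hc, rfl⟩ := mem_Mon.1 ((M.pre_C F.hs F.ls).le
    (M.mem_pre.2 ⟨g, ⟨r.mem, mem_c1.2 f⟩, r⟩))
  exact ⟨σ, c, hσ, hc, r⟩

theorem mon (e : g * x = x * g) (f : g * s = s * g) :
    ∃ σ c, ∃ (hσ : σ ∈ M24) (hc : c ∈ CS), M.Rp g (mono hσ hc) := F.mon' e f

omit [Finite G] in
theorem exists_mon {b : Co0} (hb : b ∈ Mon) : ∃ g, g * x = x * g ∧ g * s = s * g ∧ M.Rp g b :=
  let ⟨g, a, r⟩ := M.mem_pre.1 ((M.pre_C F.hs F.ls).ge hb)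
  ⟨g, r.comm, mem_c1.1 a.2, r⟩

omit [Finite G] in
theorem ev' (hy : y ∈ QO x) (e : M.lam y = red v) :
    y * s = s * y ↔ ∀ i, (2 : ℤ) ∣ (v : V) i := by
  have k : ∀ i, y * s = s * y ↔ (2 : ℤ) ∣ (v : V) i := fun i => by
    rw [M.comm_iff hy F.hs e (F.ls.trans (red_e8' i).symm), dt_e8]
    omega
  exact ⟨fun a i => (k i).1 a, fun a => (k none).2 (a none)⟩

theorem ev (hy : y ∈ QO x) (e : M.lam y = red v) : y * s = s * y ↔ ∀ i, (2 : ℤ) ∣ (v : V) i :=
  F.ev' hy e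

theorem exists_w (n : p ≠ q) : ∃ w ∈ QO x, w ∈ QO s ∧ w * w = 1 ∧ M.lam w = red (p4 p q) := by
  obtain ⟨o, ho, so⟩ := exists_octad_supset (s := {p, q}) (Finset.card_le_two.trans (by decide))
  obtain ⟨c, hc, e⟩ := Set.nonempty_of_ncard_ne_zero ((meet24 card_pts steiner_octads ho _ so).trans_ne
    (by rw [Finset.card_pair n]; decide))
  obtain ⟨y, hy, r⟩ := F.exists_eps hc.1
  obtain ⟨u, hu, l⟩ := M.exists_lam ⟨_, two_ind_mem ho.1⟩
  have m := F.pr.comm_R_R (commutator_mem_commutator (mem_sup_left ⟨hy, r.mem⟩)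
    (mem_sup_right ⟨hu, mem_c1.2 ((F.ev hu l).2 fun i => by simp)⟩))
  refine ⟨_, m.1, m.2, F.pr.E_sq m, ?_⟩
  rw [commutatorElement_def, M.lam_mul _ (r.conj_mem hu) _ (inv_mem hu), r.lam hu, M.lam_inv hu, l,
    ← red_smul, ← red_sub, ← red_neg (p4 p q)]
  congr 1
  refine Subtype.ext (funext fun i => ?_)
  have k := Finset.ext_iff.1 e i
  simp only [AddSubgroup.coe_sub, Pi.sub_apply, ep_apply, AddSubgroup.coe_neg, Pi.neg_apply,
    p4_apply, Pi.smul_apply, ind, smul_eq_mul]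
  simp only [Finset.mem_inter, Finset.mem_insert, Finset.mem_singleton] at k
  split_ifs <;> first | omega | simp_all

omit F [Finite G] in
theorem w_pat' (hy : y ∈ QO x) (e : M.lam y = red v) (P : Pat v c) (hw : w ∈ QO x)
    (l : M.lam w = red (p4 p q)) : y * w = w * y ↔ (p ∈ c ↔ q ∈ c) := by
  rw [M.comm_iff hy hw e l, dt_p4]
  have := P p
  have := P q
  rcases ind_cases c p with a | a <;> rcases ind_cases c q with b | b <;>
    simp only [a.1, b.1, iff_true, iff_false, not_true, not_false_iff] <;> omega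

omit F in
/-- otherwise `y * w * y⁻¹ = x * w` (`B0.cases` at `x`) -/
theorem w_pat (hy : y ∈ QO x) (e : M.lam y = red v) (P : Pat v c) (hw : w ∈ QO x)
    (l : M.lam w = red (p4 p q)) : y * w = w * y ↔ (p ∈ c ↔ q ∈ c) := w_pat' hy e P hw l

theorem mem_of_four (hy : y ∈ QO x) (e : M.lam y = red v) (P : Pat v ∅) : y ∈ QO s := by
  let A : AddSubgroup V :=
    { carrier := {u | ∃ hu : u ∈ leechLattice, ∃ a ∈ QO x ⊓ QO s, M.lam a = red ⟨u, hu⟩}
      add_mem' := fun ⟨hu, a, ha, e⟩ ⟨hv, b, hb, f⟩ => ⟨add_mem hu hv, _, mul_mem ha hb, by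
        rw [M.lam_mul _ ha.1 _ hb.1, e, f, ← map_add]; rfl⟩
      zero_mem' := ⟨zero_mem _, 1, one_mem _, M.lam_one.trans (map_zero red).symm⟩
      neg_mem' := fun ⟨hu, a, ha, e⟩ => ⟨neg_mem hu, a, ha, e.trans (red_neg _).symm⟩ }
  have h4 : ∀ i, (4 : ℤ) ∣ (v : V) i := fun i => by simpa [ind] using P i
  have h8 : (8 : ℤ) ∣ ∑ i, (v : V) i := by
    obtain ⟨m, d, hm, -, a, b⟩ := exists_LS v.2
    have := a none
    have := h4 none
    omega
  obtain ⟨hu, a, ha, f⟩ := four_mem_of_pairs (P := A) (fun i => ⟨four_pair_mem _ _, by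
    by_cases n : none = i
    · subst n
      refine ⟨s, ⟨F.hs, F.pr.r.mem⟩, F.ls.trans (congrArg red (Subtype.ext ?_))⟩
      exact Pi.single_add (f := fun _ => ℤ) none 4 4
    · obtain ⟨w, a, b, -, l⟩ := F.exists_w n
      exact ⟨w, ⟨a, b⟩, l⟩⟩) h4 h8
  rcases (M.lam_eq_iff hy ha.1).1 (e.trans f.symm) with k | k <;> rw [k]
  exacts [ha.2, mul_mem F.pr.zP ha.2]

theorem memW (hy : y ∈ QO x) (e : M.lam y = red v) :
    y ∈ QO s ↔ Pat v ∅ ∨ Pat v Finset.univ := by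
  refine ⟨fun a => ?_, fun a => a.elim (F.mem_of_four hy e) fun a => ?_⟩
  · obtain ⟨c, P⟩ := exists_pat ((F.ev hy e).1 (QO_comm a))
    have k : ∀ p, p ∈ c ↔ none ∈ c := fun p => (em (p = none)).elim (fun e => by rw [e]) fun n => by
      obtain ⟨w, w1, w2, -, l⟩ := F.exists_w n
      exact (w_pat hy e P w1 l).1 (comm_of_sq (fun _ => F.pr.E_sq) ⟨hy, a⟩ ⟨w1, w2⟩)
    refine (em (none ∈ c)).symm.imp (fun n => ?_) fun n => ?_
    · rwa [← Finset.eq_empty_of_forall_notMem fun p hp => n ((k p).1 hp)]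
    · rwa [← Finset.eq_univ_of_forall fun p => (k p).2 n]
  · obtain ⟨v', f, P⟩ := a.compl
    exact F.mem_of_four hy (e.trans f.symm) (by rwa [Finset.compl_univ] at P)

theorem w_mem (hw : w ∈ QO x) (l : M.lam w = red (p4 p q)) : w ∈ QO s :=
  F.mem_of_four hw l fun i => by rw [p4_apply]; split_ifs <;> simp [ind]

/-- otherwise `g * w * g⁻¹ = s * w` (`B0.cases` at `s`) -/
theorem w_eps (hg : g ∈ QO s) {hc : c ∈ CS} (r : M.Rp g (ep hc)) (hw : w ∈ QO x) (n : p ≠ q)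
    (l : M.lam w = red (p4 p q)) : g * w = w * g ↔ (p ∈ c ↔ q ∈ c) := by
  have k : ep hc • red (p4 p q) = red (p4 p q) ↔ (p ∈ c ↔ q ∈ c) := by
    rw [smul_red_iff (by rw [nm_p4 n]; decide)]
    refine ⟨fun a => ?_, fun a => (em (p ∈ c)).symm.imp (fun b => ?_) fun b => ?_⟩
    · rcases a with a | a <;>
      · have a1 := congrArg (fun u : LL => (u : V) p) a
        have a2 := congrArg (fun u : LL => (u : V) q) a
        simp only [ep_apply, p4_apply, AddSubgroup.coe_neg, Pi.neg_apply, n, n.symm, if_true,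
          if_false] at a1 a2
        split_ifs at a1 a2 <;> first | omega | simp [*]
    all_goals
      refine Subtype.ext (funext fun i => ?_)
      simp only [ep_apply, p4_apply, AddSubgroup.coe_neg, Pi.neg_apply]
      split_ifs <;> first | omega | simp_all
  rw [← k, ← l, ← r.lam hw, M.lam_eq_iff (r.conj_mem hw) hw, ← conj_eq_iff]
  refine ⟨Or.inl, fun a => a.elim id fun a => ?_⟩
  exact (F.pr.r.conj_cases hg (F.w_mem hw l)).resolve_right fun b =>
    F.pr.ne (mul_right_cancel (b.symm.trans a))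

theorem exists_hom : ∃ φ : ↥(𝐂₁(x) ⊓ 𝐂₁(s)) →* M24, ∀ (g : ↥(𝐂₁(x) ⊓ 𝐂₁(s))) σ c (hσ : σ ∈ M24)
    (hc : c ∈ CS), M.Rp g (mono hσ hc) → φ g = ⟨σ, hσ⟩ := by
  obtain ⟨φ, h⟩ := exists_hom_of_rel
    (fun (g : ↥(𝐂₁(x) ⊓ 𝐂₁(s))) (σ : M24) => ∃ c, ∃ hc : c ∈ CS, M.Rp g (mono σ.2 hc))
    (fun g => let ⟨σ, c, hσ, hc, r⟩ := F.mon (mem_c1.1 g.2.1) (mem_c1.1 g.2.2); ⟨⟨σ, hσ⟩, c, hc, r⟩)
    (fun g σ τ ⟨c, hc, r⟩ ⟨d, hd, r'⟩ => Subtype.ext ((r.cases r').elim
      (fun e => (mono_inj _ _ _ _ e).1) fun e => (mono_inj _ _ _ _ (e.trans (neg_mono _ _))).1))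
    fun g σ k τ ⟨c, hc, r⟩ ⟨d, hd, r'⟩ => ⟨_, _, mono_mul σ.2 hc τ.2 hd ▸ r.mul r'⟩
  exact ⟨φ, fun g σ c hσ hc r => (h g ⟨σ, hσ⟩).2 ⟨c, hc, r⟩⟩

/-- elements of order three: conjugation into the permutation group -/
theorem std3 (o : orderOf y = 3) (e : y * x = x * y) (f : y * s = s * y) {σ : Equiv.Perm GolayPt}
    {hσ : σ ∈ M24} {hc : c ∈ CS} (r : M.Rp y (mono hσ hc)) {k τ : M24} (h : k * ⟨σ, hσ⟩ * k⁻¹ = τ) :
    orderOf τ = 3 ∧ ∃ g, g * x = x * g ∧ g * s = s * g ∧ M.Rp (g * y * g⁻¹) (permHom τ) := by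
  have y3 : y * (y * y) = 1 := by rw [← pow_orderOf_eq_one y, o, pow_three]
  have a := r.mul (r.mul r)
  rw [y3, mono_mul, mono_mul] at a
  obtain ⟨a1, a2⟩ := (mono_pm _ _).1 (a.mem_Q_iff.1 (one_mem _))
  obtain ⟨u, u1, u2, ru⟩ := F.exists_mon (mono_mem M24.one_mem (smul_mem_CS hσ hc))
  obtain ⟨g, g1, g2, rg⟩ := F.exists_mon (permHom_mem k)
  have b : M.Rp (u * y * u⁻¹) (permHom ⟨σ, hσ⟩) := by
    have b := ru.conj r
    rw [mono_inv, mono_mul, mono_mul] at b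
    rcases a2 with a2 | a2
    · convert b using 1
      refine mono_congr hσ empty_mem_CS _ _ (by simp) ?_
      rw [← a2, smul_symmDiff, symmDiff_left_comm, ← symmDiff_assoc]
      simp
    · convert b.neg using 1
      rw [neg_mono]
      refine mono_congr hσ empty_mem_CS _ _ (by simp) ?_
      rw [eq_comm, Finset.compl_eq_empty_iff, ← a2, smul_symmDiff, symmDiff_left_comm c,
        ← symmDiff_assoc (σ • c)]
      simp
  have b := rg.conj b
  rw [← map_inv, ← map_mul, ← map_mul, h] at b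
  refine ⟨orderOf_eq_prime ?_ fun n => ?_, g * u, by rw [mul_assoc, u1, ← mul_assoc, g1, mul_assoc],
    by rw [mul_assoc, u2, ← mul_assoc, g2, mul_assoc], by convert b using 1; group⟩
  · rw [← h, conj_pow, show (⟨σ, hσ⟩ : M24) ^ 3 = 1 from Subtype.ext ((pow_three σ).trans a1)]
    simp
  · rw [n, map_one] at b
    obtain ⟨j, e1⟩ := M.lq.isPGroup ⟨_, b.mem_Q_iff.2 (Or.inl rfl)⟩
    have o' : orderOf (g * (u * y * u⁻¹) * g⁻¹) = 3 := by
      rw [CF.Invol.orderOf_conj, CF.Invol.orderOf_conj, o]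
    have : g * (u * y * u⁻¹) * g⁻¹ = 1 :=
      eq_one_of_odd (o' ▸ by decide) (mem_zpowers _) (congrArg Subtype.val e1)
    rw [this, orderOf_one] at o'
    omega

end Fr
end B

end CF.Pz.J
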