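import Mathlib

/-! Traces and determinants of rational matrices of finite order. -/

set_option autoImplicit false

namespace CF.Pz

open Polynomial Module Finset

theorem cyc_end {W : Type*} [AddCommGroup W] [Module ℚ W] [FiniteDimensional ℚ W] {a : End ℚ W} {f : ℚ[X]}
    (hf : Irreducible f) (h : aeval a f = 0) : ∃ n, finrank ℚ W = f.natDegree * n ∧
      ∃ D : Submonoid.centralizer {a} →* AdjoinRoot f, ∀ p hp, D ⟨aeval a p, hp⟩ = AdjoinRoot.mk f p ^ n := by
  haveI := Fact.mk hf
  let φ : AdjoinRoot f →+* End ℚ W := Ideal.Quotient.lift (Ideal.span {f}) (aeval a : ℚ[X] →ₐ[ℚ] _).toRingHom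
    fun p hp => aeval_eq_zero_of_dvd_aeval_eq_zero (Ideal.mem_span_singleton.1 hp) h
  letI : Module (AdjoinRoot f) W := Module.compHom W φ
  have e : ∀ p (w : W), AdjoinRoot.mk f p • w = aeval a p w := fun _ _ => rfl
  haveI : IsScalarTower ℚ (AdjoinRoot f) W := ⟨fun q r w => by
    obtain ⟨p, rfl⟩ := AdjoinRoot.mk_surjective r
    rw [AdjoinRoot.smul_mk, e, e, map_smul, LinearMap.smul_apply]⟩
  haveI := Module.Finite.of_restrictScalars_finite ℚ (AdjoinRoot f) W
  let L : Submonoid.centralizer {a} →* End (AdjoinRoot f) W :=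
    { toFun g :=
        { toFun := g.1
          map_add' := g.1.map_add
          map_smul' r w := by
            obtain ⟨p, rfl⟩ := AdjoinRoot.mk_surjective r
            have c : Commute g.1 (aeval a p) := by
              refine p.induction_on' (fun _ _ x y => by rw [map_add]; exact x.add_right y) fun n q => ?_
              rw [aeval_monomial]
              exact (Algebra.commute_algebraMap_right _ _).mul_right
                (Commute.pow_right (g.2 a rfl).symm n)
            exact congrArg (· w) c }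
      map_one' := rfl
      map_mul' _ _ := rfl }
  refine ⟨finrank (AdjoinRoot f) W, ?_, LinearMap.det.comp L, fun p hp => ?_⟩
  · rw [← finrank_mul_finrank ℚ (AdjoinRoot f) W, (AdjoinRoot.powerBasis hf.ne_zero).finrank,
      AdjoinRoot.powerBasis_dim]
  · rw [MonoidHom.comp_apply, show L ⟨aeval a p, hp⟩ = AdjoinRoot.mk f p • LinearMap.id from rfl,
      LinearMap.det_smul, LinearMap.det_id, mul_one]

variable {ι : Type*} [Fintype ι] [DecidableEq ι]

theorem trace_idem {P : Matrix ι ι ℚ} (h : P * P = P) :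
    P.trace = finrank ℚ (LinearMap.range (Matrix.toLin' P)) :=
  P.trace_toLin'_eq.symm.trans (LinearMap.IsIdempotentElem.isProj_range (Matrix.toLin' P)
    (by rw [IsIdempotentElem, End.mul_eq_comp, ← Matrix.toLin'_mul, h])).trace

/-- the determinant over the field generated by `A` on the image of `P` -/
theorem cyc_det {A P : Matrix ι ι ℚ} {f : ℚ[X]} (hf : Irreducible f) (PP : P * P = P) (AP : A * P = P * A)
    (h : aeval A f * P = 0) : ∃ n : ℕ, P.trace = f.natDegree * n ∧
      ∃ D : Subalgebra.centralizer ℚ {A, P} →* AdjoinRoot f,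
        ∀ p hp, D ⟨aeval A p, hp⟩ = AdjoinRoot.mk f p ^ n := by
  let W := LinearMap.range (Matrix.toLin' P)
  have m : ∀ B : Subalgebra.centralizer ℚ {A, P}, ∀ w ∈ W, Matrix.toLin' B.1 w ∈ W := by
    rintro B _ ⟨v, rfl⟩
    exact ⟨Matrix.toLin' B.1 v, by rw [← Matrix.toLin'_mul_apply, B.2 P (by simp), Matrix.toLin'_mul_apply]⟩
  let ρ : Subalgebra.centralizer ℚ {A, P} →ₐ[ℚ] End ℚ W :=
    { toFun B := (Matrix.toLin' B.1).restrict (m B)
      map_one' := by ext; simp
      map_mul' _ _ := by ext; simp [Matrix.toLin'_mul]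
      map_zero' := by ext; simp
      map_add' _ _ := by ext; simp
      commutes' _ := by ext; simp [Algebra.algebraMap_eq_smul_one] }
  let a : Subalgebra.centralizer ℚ {A, P} := ⟨A, by simp [Subalgebra.mem_centralizer_iff, AP]⟩
  have e : ∀ p hp, ρ ⟨aeval A p, hp⟩ = aeval (ρ a) p := fun p hp => by
    rw [aeval_algHom_apply]
    exact congrArg ρ (Subtype.ext (aeval_subalgebra_coe p _ a).symm)
  have hm : ∀ p, aeval A p ∈ Subalgebra.centralizer ℚ {A, P} := fun p =>
    aeval_subalgebra_coe p _ a ▸ (aeval a p).2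
  obtain ⟨n, h1, D, h2⟩ := cyc_end (a := ρ a) hf (by
    rw [← e f (hm f)]
    ext ⟨_, v, rfl⟩ i
    change Matrix.toLin' (aeval A f) (Matrix.toLin' P v) i = 0
    rw [← Matrix.toLin'_mul_apply, h, map_zero]; rfl)
  refine ⟨n, by rw [trace_idem PP, h1, Nat.cast_mul], D.comp ((ρ : _ →* End ℚ W).codRestrict _ fun B x hx => ?_),
    fun p hp => ?_⟩
  · rw [Set.mem_singleton_iff.1 hx]
    change ρ a * ρ B = ρ B * ρ a
    rw [← map_mul, ← map_mul, show a * B = B * a from Subtype.ext (B.2 A (by simp))]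
  · exact (congrArg D (Subtype.ext (e p hp))).trans (h2 p fun x hx => by
      rw [Set.mem_singleton_iff.1 hx, ← e p hp, ← map_mul, ← map_mul]
      exact congrArg ρ (Subtype.ext (hp A (by simp))))

/-- a matrix moving a fixed point free cyclic group has trace zero -/
theorem trace_zero {g Y : Matrix ι ι ℚ} {n c : ℕ} (hn : 0 < n) (h1 : Y ^ n = 1) (hs : ∑ k ∈ range n, Y ^ k = 0)
    (h : g * Y = Y ^ (c + 1) * g) (hc : ∀ k < n, ∃ j < n, j * c % n = k) : g.trace = 0 := by
  have a : ∀ m, (Y ^ (m % n) * g).trace = (Y ^ m * g).trace := fun m => by rw [← pow_eq_pow_mod m h1]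
  have b : ∀ m, (Y ^ (m + c) * g).trace = (Y ^ m * g).trace := fun m => by
    obtain ⟨k, rfl⟩ := Nat.exists_eq_succ_of_ne_zero hn.ne'
    have e : Y ^ m = Y * Y ^ (m + k) := by
      rw [← pow_succ', add_assoc, pow_add, h1, mul_one]
    have e' : Y ^ (m + c) = Y ^ (m + k) * Y ^ (c + 1) := by
      rw [← pow_add, show m + k + (c + 1) = m + c + (k + 1) by ring, pow_add _ (m + c), h1, mul_one]
    rw [e', mul_assoc, ← h, ← mul_assoc, Matrix.trace_mul_comm, ← mul_assoc, ← e]
  have d : ∀ j, (Y ^ (j * c) * g).trace = g.trace := fun j => by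
    induction' j with j ih
    · simp
    · rw [add_mul, one_mul, b, ih]
  have := congrArg (fun M => (M * g).trace) hs
  simp only [sum_mul, Matrix.trace_sum, zero_mul, Matrix.trace_zero] at this
  rw [sum_congr rfl (g := fun _ => g.trace) fun k hk => by
    obtain ⟨j, -, rfl⟩ := hc k (mem_range.1 hk); rw [a, d]] at this
  simpa [hn.ne'] using this

end CF.Pz
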