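import Cfsg.Agent.Pz.S
import Cfsg.Agent.Mon.RkN
import Cfsg.Agent.MonU.E3
import Cfsg.Agent.Mon.PrF
import Cfsg.Agent.Mon.Covers
import Cfsg.Agent.Bt.Cent

/-! Sections of the Monster: orders, involutions, kernels of minimal covers. -/

set_option autoImplicit false

namespace CF.Pz

open Subgroup Function Cfsg Spor CF.Known.Mon

theorem card_M : Nat.card Monster = 808017424794512875886459904961710757005754368000000000 :=
  let ⟨_, _, h⟩ := Mon.certs.outM; h.card

theorem finite_M : Finite Monster := let ⟨_, _, h⟩ := Mon.certs.outM; h.finite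

theorem rank_M : PRankLE 2 15 Monster := let ⟨_, _, h⟩ := Mon.certs.outM; Mon.Rk.leM h

theorem card_cent {t : Monster} (tt : t * t = 1) (t1 : t ≠ 1) :
    Nat.card (centralizer {t}) = 2 ^ 25 * 4157776806543360000 ∨
      Nat.card (centralizer {t}) = 2 * 4154781481226426191177580544000000 := by
  obtain ⟨ρ, τ, h⟩ := Mon.certs.outM
  refine (MonU.two_cls h tt t1).imp (fun c => ?_) fun c => ?_ <;> obtain ⟨g, rfl⟩ := isConj_iff.1 c <;>
    rw [Bt.card_cent_conj]
  exacts [h.card_cx, (congrArg (fun K : Subgroup Monster => Nat.card K) h.cA).trans h.card_A]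

/-- an involution inverting an element of large order is of central type -/
theorem exists_MT {H : Type*} [Group H] {ι : H →* Monster} (inj : Injective ι) {z g : H} (zz : z * z = 1)
    (o : 6 < orderOf (z * (g * z * g⁻¹))) :
    ∃ (κ : H →* Monster) (Q : Subgroup Monster), Injective κ ∧ Nonempty (MT Q (κ z)) := by
  obtain ⟨ρ, τ, h⟩ := Mon.certs.outM
  have z1 : ι z ≠ 1 := fun e => by
    rw [inj (e.trans (map_one ι).symm)] at o
    simp at o
  rcases MonU.two_cls h (v := ι z) (by rw [← map_mul, zz, map_one]) z1 with c | c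
  · obtain ⟨k, e⟩ := isConj_iff.1 c.symm
    obtain ⟨M, -⟩ := h.exists_MT
    exact ⟨(MulAut.conj k).toMonoidHom.comp ι, _, (MulAut.conj k).injective.comp inj, ⟨e.symm ▸ M⟩⟩
  · have := Mon.P.sixT h Mon.G.covers _ c (ι (g * z * g⁻¹)) (c.trans (isConj_iff.2 ⟨ι g, by simp⟩))
    rw [← map_mul, orderOf_injective ι inj] at this
    omega

theorem card_sect {X : Type*} [Group X] (A : Subgroup Monster) (B : Subgroup A) [B.Normal]
    (e : Nonempty (A ⧸ B ≃* X)) : Nat.card X ∣ 808017424794512875886459904961710757005754368000000000 := by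
  obtain ⟨e⟩ := e
  rw [← Nat.card_congr e.toEquiv, ← card_M]
  exact (card_quotient_dvd_card B).trans (card_subgroup_dvd_card A)

variable {X : Type*} [Group X] [IsSimpleGroup X] {H : Subgroup Monster} {π : H →* X}

theorem card_eq (s : Surjective π) : Nat.card H = Nat.card X * Nat.card π.ker := by
  rw [← π.ker.index_mul_card, index_ker, MonoidHom.range_eq_top.2 s, card_top]

theorem card_ker_dvd (s : Surjective π) {N : ℕ}
    (hN : Nat.card X * N = 808017424794512875886459904961710757005754368000000000) : Nat.card π.ker ∣ N := by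
  have := card_subgroup_dvd_card H
  rw [card_M, ← hN, card_eq s] at this
  exact Nat.dvd_of_mul_dvd_mul_left (Nat.pos_of_ne_zero fun e => by simp [e] at hN) this

/-- a nontrivial normal 2-subgroup puts the group into the centralizer of an involution -/
theorem Mn.dvd (h : Mn π) {r : ℕ} (hr : r.Prime) (ne : 2 ≠ r) (d : r ∣ Nat.card X)
    (k : ∀ a, 0 < a → a ≤ 15 → 2 ^ a % r ≠ 1) (P : Subgroup H) [P.Normal] (hP : IsPGroup 2 P) (h1 : P ≠ ⊥) :
    Nat.card H ∣ 2 ^ 25 * 4157776806543360000 ∨ Nat.card H ∣ 2 * 4154781481226426191177580544000000 := by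
  haveI := finite_M
  obtain ⟨t, -, c, tt, t1⟩ := h.invol hr ne d (Mon.Rk.le_inj H.subtype_injective rank_M) k P hP h1
  have l : H ≤ centralizer {t.1} := fun g hg =>
    mem_centralizer_singleton_iff.2 (congrArg Subtype.val (mem_center_iff.1 c ⟨g, hg⟩))
  exact (card_cent (congrArg Subtype.val tt) fun e => t1 (Subtype.ext e)).imp
    (fun e => (card_dvd_of_le l).trans e.dvd) fun e => (card_dvd_of_le l).trans e.dvd

/-- the check for the odd primes -/
def oddOK (N : ℕ) (rs : List ℕ) : Bool :=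
  [3, 5, 7, 11, 13, 17, 19, 23, 29, 31, 37, 41, 43, 47, 53, 59, 61, 67, 71].all fun p => rs.any fun r =>
    p != r && (List.range 21).all fun a => a == 0 || N % p ^ a != 0 || (p ^ a % r != 1 && a != 20)

theorem odd_spec {N : ℕ} {rs : List ℕ} (h : oddOK N rs = true) (s : N ∣ Nat.factorial 71 ^ 46) {p : ℕ}
    (hp : p.Prime) (h2 : p ≠ 2) (d : p ∣ N) :
    ∃ r ∈ rs, p ≠ r ∧ ∀ a, 0 < a → p ^ a ∣ N → p ^ a % r ≠ 1 := by
  have l := (hp.dvd_factorial).1 (hp.dvd_of_dvd_pow (d.trans s))
  have m : p ∈ [3, 5, 7, 11, 13, 17, 19, 23, 29, 31, 37, 41, 43, 47, 53, 59, 61, 67, 71] := by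
    revert hp h2
    interval_cases p <;> decide
  obtain ⟨r, a, b⟩ := List.any_eq_true.1 (List.all_eq_true.1 h p m)
  simp only [Bool.and_eq_true, bne_iff_ne, ne_eq, List.all_eq_true, List.mem_range, Bool.or_eq_true,
    beq_iff_eq] at b
  refine ⟨r, a, b.1, fun j j0 e => ?_⟩
  have k := fun j (j0 : 0 < j) (l : j < 21) (e : p ^ j ∣ N) =>
    (b.2 j l).resolve_left fun q => q.elim j0.ne' fun q => q (Nat.mod_eq_zero_of_dvd e)
  by_cases l : j < 21
  · exact (k j j0 l e).1
  · exact absurd rfl (k 20 (by decide) (by decide) ((pow_dvd_pow p (by omega)).trans e)).2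

theorem Mn.ker_central (h : Mn π) (h2 : ∀ P : Subgroup H, P.Normal → IsPGroup 2 P → P ≤ π.ker → P ≤ center H)
    {N : ℕ} (hN : Nat.card X * N = 808017424794512875886459904961710757005754368000000000) {rs : List ℕ}
    (k : oddOK N rs = true) (hr : ∀ r ∈ rs, r.Prime ∧ r ∣ Nat.card X) : π.ker ≤ center H := by
  haveI := finite_M
  have d := card_ker_dvd h.surj hN
  refine h.ker_le h2 fun p hp ne e => ?_
  obtain ⟨r, a, b, c⟩ := odd_spec k ((Dvd.intro_left _ hN).trans (by decide +kernel)) hp ne (e.trans d)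
  exact ⟨r, (hr r a).1, b, (hr r a).2, fun j j0 f => c j j0 (f.trans d)⟩

/-- the kernel is central of odd order -/
theorem Mn.stem (h : Mn π) (p : commutator X = ⊤) {r n N : ℕ} (hr : r.Prime) (ne : 2 ≠ r) (d : r ∣ Nat.card X)
    (k : ∀ a, 0 < a → a ≤ 15 → 2 ^ a % r ≠ 1) (dn : n ∣ Nat.card X)
    (n1 : ¬ n ∣ 2 ^ 25 * 4157776806543360000) (n2 : ¬ n ∣ 2 * 4154781481226426191177580544000000)
    (hN : Nat.card X * N = 808017424794512875886459904961710757005754368000000000) {rs : List ℕ}
    (o : oddOK N rs = true) (hs : ∀ r ∈ rs, r.Prime ∧ r ∣ Nat.card X) :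
    IsStemExtension π ∧ ¬ 2 ∣ Nat.card π.ker := by
  haveI := finite_M
  haveI := Fact.mk Nat.prime_two
  have b : ∀ P : Subgroup H, P.Normal → IsPGroup 2 P → P = ⊥ := fun P _ hP => by
    by_contra h1
    have := dn.trans (Dvd.intro _ (card_eq h.surj).symm)
    exact (h.dvd hr ne d k P hP h1).elim (fun e => n1 (this.trans e)) fun e => n2 (this.trans e)
  refine ⟨⟨h.surj, h.ker_central (fun P a c _ => (b P a c).le.trans bot_le) hN o hs,
    le_top.trans (h.perfect p).ge⟩, fun e => ?_⟩
  obtain ⟨P⟩ : Nonempty (Sylow 2 π.ker) := inferInstance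
  have := (map_eq_bot_iff_of_injective _ π.ker.subtype_injective).1
    (b _ (h.normal P) (P.isPGroup'.map π.ker.subtype))
  exact P.not_dvd_index (by rwa [this, index_bot])

end CF.Pz
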