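import Cfsg.Agent.Pz.L
import Cfsg.Agent.Known.Mon.He7
import Cfsg.Agent.Known.Inv.Sp.Co1
import Cfsg.Agent.Leech.CoTr
import Cfsg.Agent.S2049

/-! Elements of order 7 and 13 of the Conway group and of groups of Monster type. -/

set_option autoImplicit false
set_option maxRecDepth 100000

namespace CF.Pz

open Subgroup Function Cfsg CF.Leech CF.Known.Mon CF.XT.Co CF.Comp CF.Loc CF.LX CF.Even CF.KI.Co1 MulAction
open scoped Pointwise

theorem exists_fixed {Γ α : Type*} [Group Γ] [MulAction Γ α] {y : Γ} {p : ℕ} (hp : p.Prime) (h : y ^ p = 1)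
    {T : Set α} (hT : ∀ x ∈ T, y • x ∈ T) (n : ¬ p ∣ T.ncard) : ∃ x ∈ T, y • x = x := by
  haveI := Fact.mk hp
  haveI : Finite T := Set.finite_of_ncard_ne_zero fun e => n (e ▸ dvd_zero p)
  let f : Function.End T := fun x => ⟨y • x.1, hT _ x.2⟩
  have e : ∀ j (x : T), ((f ^ j) x).1 = y ^ j • x.1 := fun j => by
    induction' j with j ih
    · intro x; rw [pow_zero, pow_zero, one_smul]; rfl
    · intro x; rw [pow_succ', pow_succ', mul_smul, ← ih]; rfl
  letI := Fintype.ofFinite T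
  obtain ⟨x, hx⟩ := Equiv.Perm.exists_fixed_point_of_prime (p := p) (n := 1)
    (by rwa [← Nat.card_eq_fintype_card, Nat.card_coe_set_eq])
    (σ := ⟨f, (f ^ (p - 1) : Function.End T), fun x => Subtype.ext (by
      rw [e, smul_smul, pow_sub_one_mul hp.ne_zero, h, one_smul]), fun x => Subtype.ext (by
      change y • _ = _
      rw [e, smul_smul, mul_pow_sub_one hp.ne_zero, h, one_smul])⟩) (Equiv.ext fun x => Subtype.ext (by
      rw [pow_one, ← Equiv.Perm.iterate_eq_pow]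
      exact (e p x).trans (by rw [h, one_smul]; rfl)))
  exact ⟨x, x.2, congrArg Subtype.val hx⟩

theorem fix_zero {y : Co0} (h : ∀ w : W2, y • w = w → w = 0) (v : LL) (e : y • v = v) : v = 0 := by
  induction' k : (nm v).toNat using Nat.strong_induction_on with n ih generalizing v
  obtain ⟨u, rfl⟩ := red_eq_zero.1 (h _ (by rw [← red_smul, e]))
  by_contra n0
  have u0 : u ≠ 0 := fun q => n0 (by rw [q, smul_zero])
  have := le_nm u0
  refine u0 (ih _ ?_ u (smul_right_injective LL (two_ne_zero (α := ℕ)) ((smul_comm _ y u).trans e)) rfl)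
  rw [← k, two_nsmul, nm_add, dt_self]
  omega

theorem sum_zero {y : Co0} {n : ℕ} (hn : y ^ n = 1) (h : ∀ w : W2, y • w = w → w = 0) :
    ∑ k ∈ Finset.range n, R y ^ k = 0 := by
  have : ∑ k ∈ Finset.range n, DistribMulAction.toModuleEnd ℤ LL y ^ k = 0 := LinearMap.ext fun v => by
    refine fix_zero h _ ?_
    have := congrArg (· v) (mul_geom_sum (DistribMulAction.toModuleEnd ℤ LL y) n)
    rw [← map_pow, hn, map_one, sub_self] at this
    exact sub_eq_zero.1 this
  have := congrArg (fun x => (Int.castRingHom ℚ).mapMatrix (LinearMap.toMatrixAlgEquiv bas x)) this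
  simp only [map_sum, map_pow, map_zero] at this
  exact this

theorem fix_of_pm {y : Co0} {n : ℕ} (hn : Odd n) (h : y ^ n = 1) {v : LL} (v0 : v ≠ 0)
    (e : y • v = v ∨ y • v = -v) : y • v = v := e.resolve_right fun e => by
  have : (negCo * y) ^ n ∈ stabilizer Co0 v := pow_mem (by rw [mem_stabilizer_iff, mul_smul, e]; simp) n
  rw [neg_mul_pow _ hn, h, mul_one, mem_stabilizer_iff, negCo_smul, neg_eq_iff_add_eq_zero, ← two_nsmul] at this
  exact v0 (smul_right_injective LL (two_ne_zero (α := ℕ)) (this.trans (smul_zero _).symm))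

/-- an element of order seven with a fixed class fixes a frame -/
theorem type4 {y : Co0} (h : y ^ 7 = 1) {w : W2} (e : y • w = w) (w0 : w ≠ 0) :
    ∃ v, nm v = 64 ∧ y • red v = red v := by
  have m : ∀ {v : LL} {s : ℤ}, y • v = v → ¬ 7 ∣ (M1 v s).ncard → ∃ x ∈ M1 v s, y • x = x := fun {v s} a b =>
    exists_fixed (by norm_num) h (fun x hx => ⟨(co_nm y x).trans hx.1, by rw [← hx.2, ← co_dt y v x, a]⟩) b
  have k : ∀ v, nm v = 32 → y • v = v → ∃ v, nm v = 64 ∧ y • red v = red v := fun v a b => by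
    obtain ⟨x, hx, c⟩ := m (s := 0) b (by rw [(ncard_M1_32 a).2.2]; decide)
    exact ⟨v + x, by rw [nm_add, a, hx.1, hx.2]; rfl, by rw [← red_smul, smul_add, b, c]⟩
  obtain ⟨u, rfl⟩ := red_surjective w
  obtain ⟨v, a, b⟩ := exists_short' u
  rw [← a] at e w0
  have f := fun l => fix_of_pm (by decide) h (v := v) (fun q => w0 (by rw [q, map_zero])) ((smul_red_iff l).1 e)
  rcases b with rfl | b | b | b
  · exact absurd (map_zero _) w0
  · exact k v b (f (by omega))
  · obtain ⟨x, hx, c⟩ := m (s := -24) (f b.le) (by rw [(ncard_M1_48 b).1]; decide)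
    exact k x hx.1 c
  · exact ⟨v, b, e⟩

theorem frame_of_NS {y : Co0} {k : S} (h : k * mk y * k⁻¹ ∈ NS) : ∃ v, nm v = 64 ∧ y • red v = red v := by
  obtain ⟨k, rfl⟩ := mk_surj k
  obtain ⟨m, hm, e⟩ := h
  have : k * y * k⁻¹ ∈ Mon := by
    rcases mk_eq.1 (show mk (k * y * k⁻¹) = mk m by rw [e, map_mul, map_mul, map_inv]) with e | e <;> rw [e]
    exacts [hm, mul_mem negCo_mem_Mon hm]
  refine ⟨k⁻¹ • e8 none, by rw [co_nm, nm_e8], ?_⟩
  rw [red_smul, ← mul_smul, eq_inv_smul_iff, ← mul_smul, ← mul_assoc]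
  exact smul_w8_iff.2 this

theorem cls_of {j : Co0} (h : j * j = 1) (h1 : mk j ≠ 1) : IsConj (FS 0) (mk j) ∨ IsConj (FS 27) (mk j) :=
  (cls mapA.2.ge (by rw [← map_mul, h, map_one]) h1).imp_right
    (·.resolve_right fun c => f_not ((spl_of h).conj c.symm))

theorem conj_cent {a x y k : S} (e : k * a * k⁻¹ = x) (c : y * x = x * y) : k⁻¹ * y * k⁻¹⁻¹ ∈ 𝐂₁(a) := by
  subst e
  rw [mem_c1]
  calc _ = k⁻¹ * (y * (k * a * k⁻¹)) * k := by group
    _ = _ := by rw [c]; group

theorem frame_of_invol {y j : Co0} (h : j * j = 1) (h1 : mk j ≠ 1) (y7 : y ^ 7 = 1) (c : y * j = j * y) :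
    ∃ v, nm v = 64 ∧ y • red v = red v := by
  have c' : mk y * mk j = mk j * mk y := by rw [← map_mul, c, map_mul]
  rcases cls_of h h1 with q | q
  · have o : ofMask 185603 ∈ octads := M.oct_of_check (by decide +kernel)
    obtain ⟨n, -, e⟩ := oct_conj a_oct o
    rw [← a_eq] at e
    obtain ⟨k, hk⟩ := isConj_iff.1 ((isConj_iff.2 ⟨n, e⟩).symm.trans q)
    have s : (ev M.m C7.w).1 • ofMask 185603 = ofMask (imgW Mat.a2 1 C7.w 185603) := by
      rw [← Mat.fset_eq, ← Mat.fset_eq]; exact M.r0.smul_fset _ _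
    have b := C7.main.1.ord
    haveI := Fact.mk (by norm_num : Nat.Prime 7)
    have b7 : orderOf (pm (ev M.m C7.w)) = 7 := orderOf_eq_prime
      ((map_pow XT.Co.mk _ 7).symm.trans (by rw [← b, pow_orderOf_eq_one, map_one])) fun e => by
        rcases (mk_one _).1 e with e | e <;> rw [e] at b
        · simp at b
        · rw [orderOf_eq_two' negCo_mul_self negCo_ne_one] at b; omega
    obtain ⟨x, -, hx⟩ := Bt.exists_conj_mem (P := zpowers (pm (ev M.m C7.w))) (H := 𝐂₁(sg (ofMask 185603)))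
      (zpowers_le.2 (mem_c1.2 (mul_inv_eq_iff_eq_mul.1 ((sg_conj _ (mem_octads.1 o).1).trans
        (by rw [s]; exact congrArg (fun m => sg (ofMask m)) (by decide +kernel))))))
      (p := 7) (by norm_num) (m := 12740198400) (by rw [← e, Bt.card_cent_conj, Nat.card_zpowers, b7]; exact cardM)
      (by norm_num) (conj_cent hk c') (a := 1) (by rw [pow_one, conj_pow, ← map_pow, y7]; simp)
    exact frame_of_NS (k := x * k⁻¹) (by simpa only [mul_inv_rev, mul_assoc] using zpowers_le.2 (pm_mem _) hx)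
  · obtain ⟨k, hk⟩ := isConj_iff.1 q
    exact frame_of_NS (cent_u (conj_cent hk c'))

theorem not_13 {x j : Co0} (h : j * j = 1) (h1 : mk j ≠ 1) (o : orderOf (mk x) = 13) (c : x * j = j * x) : False := by
  have c' : mk x * mk j = mk j * mk x := by rw [← map_mul, c, map_mul]
  have k : ∀ {k : S} {H : Subgroup S}, k⁻¹ * mk x * k⁻¹⁻¹ ∈ H → 13 ∣ Nat.card H := fun {k H} m => by
    have := orderOf_dvd_natCard H m
    rwa [show orderOf (k⁻¹ * mk x * k⁻¹⁻¹) = _ from (MulAut.conj k⁻¹).orderOf_eq _, o] at this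
  rcases cls_of h h1 with q | q <;> obtain ⟨g, e⟩ := isConj_iff.1 q
  · exact absurd ((k (conj_cent e c')).trans cardM.dvd) (by decide)
  · exact absurd ((k (cent_u (conj_cent e c'))).trans card_NS.dvd) (by decide)

variable {G : Type*} [Group G] {Q : Subgroup G} {z : G} {M : MT Q z}

theorem rp_eq {x : G} {g g' : Co0} (r : M.Rp x g) (r' : M.Rp x g') {n : ℕ} (hn : Odd n) (a : g ^ n = 1)
    (b : g' ^ n = 1) : g = g' := (r.cases r').resolve_right fun e => by
  rw [e, neg_mul_pow _ hn, b, mul_one] at a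
  exact negCo_ne_one a

theorem rp_odd (M : MT Q z) {x : G} (hx : x * z = z * x) {n : ℕ} (hn : Odd n) (a : x ^ n = 1) :
    ∃ g, M.Rp x g ∧ g ^ n = 1 := by
  obtain ⟨g, r⟩ := M.exists_Rp (mem_c1.2 hx)
  rcases (r.pow n).mem_Q_iff.1 (a ▸ one_mem Q) with e | e
  · exact ⟨g, r, e⟩
  · exact ⟨_, r.neg, by rw [neg_mul_pow _ hn, e, negCo_mul_self]⟩

theorem rp_conj {x y : G} {g h : Co0} (r : M.Rp x g) (r' : M.Rp y h) {n a : ℕ} (hn : Odd n) (b : h ^ n = 1)
    (e : x * y * x⁻¹ = y ^ a) : g * h * g⁻¹ = h ^ a :=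
  rp_eq (r.conj r') (e ▸ r'.pow a) hn (by rw [conj_pow, b]; simp) (by rw [← pow_mul, mul_comm, pow_mul, b, one_pow])

theorem rp_comm {x y : G} {g h : Co0} (r : M.Rp x g) (r' : M.Rp y h) {n : ℕ} (hn : Odd n) (b : h ^ n = 1)
    (e : x * y = y * x) : g * h = h * g :=
  mul_inv_eq_iff_eq_mul.1 ((rp_conj r r' hn b (a := 1) (by rw [e]; simp)).trans (pow_one h))

theorem rp_sq {x : G} {g : Co0} (r : M.Rp x g) (h : x * x ∈ Q) : g * g = 1 ∨ g * g = negCo :=
  (r.mul r).mem_Q_iff.1 h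

end CF.Pz
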