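import Cfsg.Agent.Pz.W
import Cfsg.Agent.Schur.ONM

/-! Some elements of the O'Nan group. -/

set_option autoImplicit false
set_option maxRecDepth 100000
set_option Elab.async false

namespace CF.Pz

open Cfsg CF.Comp

/-- `i, y, t, s, l, l₂, l₃, l₄, h, a, b` -/
def wO : List (List ℕ) := [[9, 13, 7, 9, 7], [3, 9, 7, 11, 9, 7, 5, 13, 11, 9, 7, 9, 11, 13, 5, 7, 9, 11],
  [5, 3, 7, 5, 9, 7, 9, 13, 11, 9, 7, 9, 5, 7, 3, 5], [5, 3, 7, 5, 2, 9, 7, 9, 11, 9, 7, 9, 1, 5, 7, 3, 5, 13],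
  [9, 1, 9, 2], [9, 1, 7, 2], [1, 9, 1, 9], [1, 9, 7, 1], [11, 9, 5, 1, 7, 5],
  [3, 5, 3, 7, 5, 9, 7, 13, 11, 9, 5, 7, 3, 5], [5, 11, 9, 13, 11, 7, 9, 11, 13, 5, 7, 9]]

/-- the relations -/
noncomputable def rO : List (List ℕ × List ℕ) := [(wpow [1] 4, []), (wpow [1, 1, 17, 1, 1, 18] 19, []),
  (wpow [3] 7, []), ([3, 1], [1, 3]), ([19, 3], [3, 19]), ([21, 3], [3, 21]), ([19, 21, 20, 22], [3]),
  ([5, 5, 5], []), ([7, 7, 7], []), ([5, 7], [7, 5]), ([5, 1], [1, 5]), ([7, 1], [1, 7]), ([9, 1], [1, 9]),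
  ([11, 1, 1], [1, 1, 11]), ([13, 1, 1], [1, 1, 13]), ([15, 1, 1], [1, 1, 15]), ([5, 3, 6], wpow [3] 2),
  ([11, 5, 12], [7]), ([13, 5, 14], [5, 7]), ([15, 5, 16], [5, 7, 7]), (wpow [9, 4, 10, 4, 1] 3, [])]

theorem on_words : ∃ i y t s l l₂ l₃ l₄ h a b : Spor.ON, i ^ 4 = 1 ∧ orderOf (i * i * h * i * i * h⁻¹) = 19 ∧
    y ^ 7 = 1 ∧ y ≠ 1 ∧ y * i = i * y ∧ a * y = y * a ∧ b * y = y * b ∧ a * b * a⁻¹ * b⁻¹ = y ∧ t * t * t = 1 ∧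
    s * s * s = 1 ∧ t * s = s * t ∧ t * i = i * t ∧ s * i = i * s ∧ l * i = i * l ∧ l₂ * i * i = i * i * l₂ ∧
    l₃ * i * i = i * i * l₃ ∧ l₄ * i * i = i * i * l₄ ∧ t * y * t⁻¹ = y ^ 2 ∧ l₂ * t * l₂⁻¹ = s ∧
    l₃ * t * l₃⁻¹ = t * s ∧ l₄ * t * l₄⁻¹ = t * s * s ∧ (l * y⁻¹ * l⁻¹ * y⁻¹ * i) ^ 3 = 1 := by
  obtain ⟨g, a, b⟩ := words Schur.ON.mdl (by decide) (ws := wO) (rs := rO)
    (ns := [[1, 1, 17, 1, 1, 18], [3]]) (by decide +kernel) (by decide +kernel)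
  simp only [rO, List.forall_mem_cons, ev_wpow, ev_cons, ev_nil, mul_one, evL, Nat.reduceSub, Nat.reduceMod,
    Nat.reduceDiv, Nat.reduceEqDiff, if_true, if_false, ← mul_assoc, OfNat.ofNat_ne_zero, one_ne_zero] at a b
  obtain ⟨a1, a2, a3, a4, a5, a6, a7, a8, a9, a10, a11, a12, a13, a14, a15, a16, a17, a18, a19, a20, a21, -⟩ := a
  haveI := Fact.mk (by norm_num : Nat.Prime 19)
  exact ⟨g 0, g 1, g 2, g 3, g 4, g 5, g 6, g 7, g 8, g 9, g 10, a1, orderOf_eq_prime a2 b.1, a3, b.2.1, a4, a5, a6, a7,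
    a8, a9, a10, a11, a12, a13, a14, a15, a16, a17, a18, a19, a20, a21⟩

end CF.Pz
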