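import Cfsg.Agent.Pz.O1
import Cfsg.Agent.Pz.OW
import Cfsg.Agent.Pz.M1

/-! The O'Nan group is not involved in the Monster. -/

set_option autoImplicit false

namespace CF.Pz

open Subgroup Function Cfsg Spor

section
variable {H X : Type*} [Group H] [Group X] {π : H →* X} {c : H} (c3 : c ^ 3 = 1) (cc : ∀ g, g * c = c * g)
  (k : ∀ g, π g = 1 → g = 1 ∨ g = c ∨ g = c * c)
include k

theorem ker_pow {g h : H} (e : π g = π h) : ∃ n, g = h * c ^ n := by
  rcases k (h⁻¹ * g) (by rw [map_mul, map_inv, e, inv_mul_cancel]) with q | q | q <;> rw [inv_mul_eq_iff_eq_mul] at q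
  exacts [⟨0, by rwa [pow_zero]⟩, ⟨1, by rwa [pow_one]⟩, ⟨2, by rwa [pow_two]⟩]

include c3

theorem ker_cube {g : H} (e : π g = 1) : g ^ 3 = 1 := by
  obtain ⟨n, rfl⟩ := ker_pow k (e.trans (map_one π).symm)
  rw [one_mul, ← pow_mul, mul_comm, pow_mul, c3, one_pow]

theorem exists_lift (s : Surjective π) {x : X} {n m : ℕ} (h : x ^ n = 1) (hm : m * 3 % n = 1) :
    ∃ g, π g = x ∧ g ^ n = 1 := by
  obtain ⟨g, rfl⟩ := s x
  refine ⟨g ^ (m * 3), by rw [map_pow, pow_eq_pow_mod _ h, hm, pow_one], ?_⟩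
  rw [← pow_mul, show m * 3 * n = n * 3 * m by ring, pow_mul, pow_mul, ker_cube c3 k (by rwa [map_pow]), one_pow]

include cc

theorem lift_eq {g h : H} (e : π g = π h) {n : ℕ} (co : n.Coprime 3) (a : g ^ n = 1) (b : h ^ n = 1) : g = h := by
  obtain ⟨j, rfl⟩ := ker_pow k e
  rw [((show Commute h c from cc h).pow_right j).mul_pow, b, one_mul] at a
  have := pow_gcd_eq_one.2 ⟨a, show (c ^ j) ^ 3 = 1 by rw [← pow_mul, mul_comm, pow_mul, c3, one_pow]⟩
  rw [co, pow_one] at this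
  rw [this, mul_one]

theorem lift_conj {g y : H} {a n : ℕ} (co : n.Coprime 3) (b : y ^ n = 1) (e : π g * π y * (π g)⁻¹ = π y ^ a) :
    g * y * g⁻¹ = y ^ a :=
  lift_eq c3 cc k (by simpa using e) co (by rw [conj_pow, b]; simp) (by rw [← pow_mul, mul_comm, pow_mul, b, one_pow])

theorem lift_comm {g y : H} {n : ℕ} (co : n.Coprime 3) (b : y ^ n = 1) (e : π g * π y = π y * π g) :
    g * y = y * g :=
  mul_inv_eq_iff_eq_mul.1 ((lift_conj c3 cc k co b (a := 1) (by rw [e]; simp)).trans (pow_one y))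

end

theorem sq_act {X : Type*} [Group X] {g y : X} (h : g * y * g⁻¹ = y ^ 2) : g * g * y * (g * g)⁻¹ = y ^ 4 := by
  rw [show g * g * y * (g * g)⁻¹ = g * (g * y * g⁻¹) * g⁻¹ by group, h, ← conj_pow, h, ← pow_mul]

theorem cj_act {X : Type*} [Group X] {g y : X} (h : g * y * g⁻¹ = y ^ 2) (k : X) :
    k * g * k⁻¹ * (k * y * k⁻¹) * (k * g * k⁻¹)⁻¹ = (k * y * k⁻¹) ^ 2 := by
  rw [conj_pow, ← h]; group

theorem not_on (A : Subgroup Monster) (B : Subgroup A) [B.Normal] : ¬ IsoON (A ⧸ B) := fun q => by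
  haveI := finite_M
  obtain ⟨H, π, c, hs, c3, cc, k⟩ := emb_on A B q
  obtain ⟨i, y, t, s, l, l₂, l₃, l₄, h, a, b, a1, a2, a3, a4, a5, a6, a7, a8, a9, a10, a11, a12, a13, a14, a15, a16,
    a17, a18, a19, a20, a21, a22⟩ := on_words
  obtain ⟨i, rfl, i4⟩ := exists_lift c3 k hs a1 (m := 3) rfl
  obtain ⟨y, rfl, y7⟩ := exists_lift c3 k hs a3 (m := 5) rfl
  obtain ⟨t, rfl⟩ := hs t
  obtain ⟨s, hs'⟩ := hs s
  obtain ⟨l, rfl⟩ := hs l
  obtain ⟨l₂, rfl⟩ := hs l₂
  obtain ⟨l₃, rfl⟩ := hs l₃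
  obtain ⟨l₄, rfl⟩ := hs l₄
  obtain ⟨h, rfl⟩ := hs h
  obtain ⟨a, rfl⟩ := hs a
  obtain ⟨b, rfl⟩ := hs b
  subst hs'
  have zz : i * i * (i * i) = 1 := by rw [← i4]; simp only [pow_succ, pow_zero, one_mul, mul_assoc]
  obtain ⟨κ, Q, hκ, ⟨M⟩⟩ := exists_MT H.subtype_injective zz (g := h) (by
    have := orderOf_map_dvd π (i * i * (h * (i * i) * h⁻¹))
    simp only [map_mul, map_inv, ← mul_assoc] at this
    rw [a2] at this
    simp only [← mul_assoc]
    exact lt_of_lt_of_le (by decide) (Nat.le_of_dvd (orderOf_pos _) this))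
  have ci : ∀ {g}, π g * π i = π i * π g → g * i = i * g := lift_comm c3 cc k (by decide) i4
  have cy : ∀ {g}, π g * π y = π y * π g → g * y = y * g := lift_comm c3 cc k (by decide) y7
  have m : ∀ {g}, g * (i * i) = i * i * g → κ g ∈ (centralizer {i * i}).map κ := fun e =>
    ⟨_, mem_centralizer_singleton_iff.2 e, rfl⟩
  have mi : ∀ {g}, π g * π i = π i * π g → κ g ∈ (centralizer {i * i}).map κ := fun e =>
    m ((show Commute _ i from ci e).mul_right (ci e))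
  have mz : ∀ {g}, π g * π i * π i = π i * π i * π g → κ g ∈ (centralizer {i * i}).map κ := fun e =>
    m (lift_comm c3 cc k (n := 2) (by decide) (by rw [pow_two, zz]) (by rwa [map_mul, ← mul_assoc]))
  have cm : ∀ {a b}, a * b = b * a → κ a * κ b = κ b * κ a := fun h => by rw [← map_mul, h, map_mul]
  have ac : ∀ {g l e}, π g * (π l * π y * (π l)⁻¹) * (π g)⁻¹ = (π l * π y * (π l)⁻¹) ^ e →
      κ g * (κ l * κ y * (κ l)⁻¹) * (κ g)⁻¹ = (κ l * κ y * (κ l)⁻¹) ^ e := fun {g l e} r => by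
    simpa using congrArg κ (lift_conj c3 cc k (g := g) (y := l * y * l⁻¹) (a := e) (n := 7) (by decide)
      (by rw [conj_pow, y7]; simp) (by simpa using r))
  obtain ⟨n₁, e₁⟩ := ker_pow k (g := t * t * t) (h := 1) (by simpa using a9)
  obtain ⟨n₂, e₂⟩ := ker_pow k (g := s * s * s) (h := 1) (by simpa using a10)
  obtain ⟨n₃, e₃⟩ := ker_pow k (g := t * s) (h := s * t) (by simpa using a11)
  haveI := Fact.mk (by norm_num : Nat.Prime 7)
  refine on_cfg M (c := κ c) (i := κ i) (y := κ y) (a := κ a) (b := κ b) (t := κ t) (s := κ s) (l := κ l)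
    (S := (centralizer {i * i}).map κ) (by rw [← map_pow, c3, map_one]) (fun _ ⟨g, _, e⟩ => e ▸ cm (cc g))
    (fun _ ⟨g, hg, e⟩ => e ▸ cm (mem_centralizer_singleton_iff.1 hg)) (cm (cc _).symm) (mi rfl) (mi a5) (mi a12)
    (mi a13) (mi a14) (map_mul κ i i).symm
    ((orderOf_injective κ hκ y).trans (orderOf_eq_prime y7 fun e => a4 (by rw [e, map_one]))) (cm (ci a5))
    (cm (cy a6)) (cm (cy a7)) ?_ (n₁ := n₁) (n₂ := n₂) (n₃ := n₃) (by simpa using congrArg κ e₁)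
    (by simpa using congrArg κ e₂) (by simpa using congrArg κ e₃) ?_ (cm (ci a14)) ?_
  · obtain ⟨n, e⟩ := ker_pow k (g := a * b * a⁻¹ * b⁻¹) (h := y) (by simpa using a8)
    have : (a * b * a⁻¹ * b⁻¹) ^ 3 = y ^ 3 := by
      rw [e, ((show Commute y c from cc y).pow_right n).mul_pow, ← pow_mul, mul_comm n, pow_mul, c3, one_pow, mul_one]
    simpa using congrArg κ this
  · have b1 := cj_act a18 (π 1)
    have b2 := cj_act a18 (π l₂)
    have b3 := cj_act a18 (π l₃)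
    have b4 := cj_act a18 (π l₄)
    rw [show π 1 * π t * (π 1)⁻¹ = π t by simp] at b1
    rw [a19] at b2
    rw [a20] at b3
    rw [a21] at b4
    have d3 := sq_act b3
    have d4 := sq_act b4
    have ts : Commute (π t) (π s) := a11
    rw [← pow_two, ts.mul_pow, pow_two, pow_two] at d3
    rw [← pow_two, mul_assoc (π t) (π s), (ts.mul_right ts).mul_pow, pow_two, pow_two, ← mul_assoc (π s * π s), a10,
      one_mul] at d4
    rw [mul_assoc (π t) (π s)] at b4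
    simp only [List.forall_mem_cons, ← map_mul κ t, ← map_mul κ s, ← map_mul κ (t * t)]
    simp only [← map_mul π t, ← map_mul π s, ← map_mul π (t * t)] at b3 b4 d3 d4
    exact ⟨⟨_, mi (by simp), 1, .inl rfl, ac b1⟩, ⟨_, mi (by simp), 3, .inr rfl, ac (map_mul π t t ▸ sq_act b1)⟩,
      ⟨_, mz a15, 1, .inl rfl, ac b2⟩, ⟨_, mz a15, 3, .inr rfl, ac (map_mul π s s ▸ sq_act b2)⟩,
      ⟨_, mz a16, 1, .inl rfl, ac b3⟩, ⟨_, mz a17, 1, .inl rfl, ac b4⟩, ⟨_, mz a17, 3, .inr rfl, ac d4⟩,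
      ⟨_, mz a16, 3, .inr rfl, ac d3⟩, by simp⟩
  · have := ker_cube c3 k (g := ((y * (l * y * l⁻¹))⁻¹ * i) ^ 3) (by simpa [mul_assoc] using a22)
    rw [← pow_mul] at this
    simpa using congrArg κ this

end CF.Pz
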