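import Cfsg.Agent.Pz.R0

/-! The centralizer of an involution of the O'Nan group does not fit into that of a central involution. -/

set_option autoImplicit false

namespace CF.Pz

open Subgroup Function Cfsg CF.Leech CF.Known.Mon CF.XT.Co CF.Loc CF.LX CF.Even CF.KI.Co1 Polynomial

theorem he_contra {G : Type} [Group G] [Finite G] {Q : Subgroup G} {z y a b : G} {M : MT Q z} {Y : Co0}
    (r : M.Rp y Y) (o : orderOf y = 7) (f : ∃ v, nm v = 64 ∧ Y • red v = red v) (ha : a * y = y * a)
    (hb : b * y = y * b) (e : (a * b * a⁻¹ * b⁻¹) ^ 3 = y ^ 3) : False := by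
  obtain ⟨v, v1, v2⟩ := f
  obtain ⟨s, hs, sy, ls⟩ := r.exists_lam (o ▸ by decide) v2
  obtain ⟨k, lk⟩ := M.exists_twist ls v1
  obtain ⟨M', l', x, r', o', q⟩ := MT.exists_gen hs lk (p := 7) (by norm_num) (by decide) (B := zpowers y)
    (by rw [Nat.card_zpowers, o]) (zpowers_le.2 ⟨r.mem, mem_c1.2 sy.symm⟩) (permHom_mem _) C7.main.1.ord
    (m := 4096 * 34974720) (by rw [card_Mon]) (by norm_num)
  have m : ∀ {g}, g * y = y * g → g ∈ centralizer (zpowers x : Set G) := fun h =>
    q ▸ centralizer_zpowers y ▸ mem_c1.2 h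
  have ct : (zpowers x).subgroupOf (centralizer (zpowers x : Set G)) ≤ center _ := fun g hg =>
    mem_center_iff.2 fun h => Subtype.ext (h.2 g.1 hg).symm
  haveI : ((zpowers x).subgroupOf (centralizer (zpowers x : Set G))).Normal :=
    ⟨fun g hg h => by rwa [mem_center_iff.1 (ct hg) h, mul_inv_cancel_right]⟩
  obtain ⟨φ⟩ := MT.he hs l' r' o'
  let σ := φ.toMonoidHom.comp (QuotientGroup.mk' _)
  have kk : σ.ker = (zpowers x).subgroupOf (centralizer (zpowers x : Set G)) := by
    rw [← MonoidHom.comap_ker, (MonoidHom.ker_eq_bot_iff _).2 φ.injective, MonoidHom.comap_bot, QuotientGroup.ker_mk']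
  have y1 : (⟨y, m rfl⟩ : centralizer (zpowers x : Set G)) ∈ commutator _ := by
    have := pow_mem (pow_mem (commutator_mem_commutator (mem_top (⟨a, m ha⟩ : centralizer (zpowers x : Set G)))
      (mem_top ⟨b, m hb⟩)) 3) 5
    refine (congrArg (· ∈ _) (Subtype.ext ?_)).mpr this
    change y = ((a * b * a⁻¹ * b⁻¹) ^ 3) ^ 5
    rw [e, ← pow_mul, pow_eq_pow_mod _ (o ▸ pow_orderOf_eq_one y), pow_one]
  obtain ⟨p, hp⟩ := Agent.S2049.result.2 _ σ ⟨φ.surjective.comp (QuotientGroup.mk'_surjective _), kk ▸ ct, fun g hg => by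
    obtain ⟨n, hn⟩ := q.ge (kk.le hg)
    exact (show ⟨y, m rfl⟩ ^ n = g from Subtype.ext hn) ▸ zpow_mem y1 n⟩
  obtain ⟨w, hw⟩ := hp ⟨⟨y, m rfl⟩, kk.ge (q.le (mem_zpowers y))⟩
  rw [Subsingleton.elim w 1, map_one] at hw
  rw [← show (1 : G) = y from congrArg (fun g : σ.ker => g.1.1) hw, orderOf_one] at o
  omega

theorem avg3 {A : Type*} [Ring A] [Algebra ℚ A] {e a : A} (h0 : e * e = e) (h1 : e * a = a) (h2 : a * e = a)
    (h3 : a * a * a = e) : IsIdempotentElem ((1 / 3 : ℚ) • (e + a + a * a)) := by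
  rw [IsIdempotentElem, smul_mul_smul_comm]
  simp only [add_mul, mul_add, ← mul_assoc, h0, h1, h2, h3]
  rw [mul_assoc a a e, h2]
  module

/-- the projection onto the vectors fixed by `C` -/
noncomputable def EE (C : Co0) : Matrix GolayPt GolayPt ℚ := (1 / 3 : ℚ) • (1 + R C + R C * R C)

section
variable {C : Co0} (h : C ^ 3 = 1)
include h

theorem EE_idem : IsIdempotentElem (EE C) := avg3 (mul_one _) (one_mul _) (mul_one _)
  (by rw [← map_mul, ← map_mul, ← pow_three', h, map_one])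

omit h in
theorem EE_comm {g : Co0} (c : Commute g C) : Commute (R g) (EE C) :=
  (((Commute.one_right _).add_right (c.map R)).add_right ((c.map R).mul_right (c.map R))).smul_right _

theorem EE_pow (k : ℕ) : R (C ^ k) * EE C = EE C := by
  induction' k with k ih
  · simp
  · have : R C * EE C = EE C := by
      rw [EE, mul_smul_comm, mul_add, mul_add, ← mul_assoc, ← map_mul, ← map_mul, ← pow_three', h, map_one, mul_one]
      module
    rw [pow_succ, map_mul, mul_assoc, this, ih]

theorem EE_mul (g : Co0) {k : Co0} (c : Commute k C) : R g * EE C * (R k * EE C) = R (g * k) * EE C := by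
  rw [mul_assoc, ← mul_assoc (EE C), ← (EE_comm c).eq, mul_assoc, (EE_idem h).eq, map_mul, mul_assoc]

theorem nine_dvd {U V : Co0} (cu : Commute U C) (cv : Commute V C) {a b c : ℕ} (u3 : U * U * U = C ^ a)
    (v3 : V * V * V = C ^ b) (uv : U * V = V * U * C ^ c)
    (t : ∀ g ∈ [U, U * U, V, V * V, U * V, U * (V * V), U * U * V, U * U * (V * V)], (R g * EE C).trace = 0) :
    ∃ n : ℕ, (EE C).trace = 9 * n := by
  have e : EE C = R 1 * EE C := by rw [map_one, one_mul]
  have i : ∀ {U a}, Commute U C → U * U * U = C ^ a →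
      IsIdempotentElem ((1 / 3 : ℚ) • (EE C + R U * EE C + R U * EE C * (R U * EE C))) := fun {U a} c u =>
    avg3 (EE_idem h) (by nth_rw 1 [e]; rw [EE_mul h _ c, one_mul]) (by rw [mul_assoc, (EE_idem h).eq])
      (by rw [EE_mul h _ c, EE_mul h _ c, u, EE_pow h])
  have k : Commute (R U * EE C) (R V * EE C) := by
    rw [Commute, SemiconjBy, EE_mul h _ cv, EE_mul h _ cu, uv, map_mul R _ (C ^ c), mul_assoc, EE_pow h]
  have ku := ((EE_comm cu).symm.mul_right (Commute.refl _)).symm
  have kv := (EE_comm cv).symm.mul_right (Commute.refl _)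
  have := trace_idem ((i cu u3).mul_of_commute ((((((Commute.refl _).add_right kv).add_right (kv.mul_right kv)).add_left
    ((ku.add_right k).add_right (k.mul_right k))).add_left (((ku.mul_left ku).add_right (k.mul_left k)).add_right
      ((k.mul_left k).mul_right (k.mul_left k)))).smul_left _ |>.smul_right _) (i cv v3))
  refine ⟨_, Eq.trans ?_ (congrArg (9 * ·) this)⟩
  simp only [List.forall_mem_cons] at t
  obtain ⟨t1, t2, t3, t4, t5, t6, t7, t8, -⟩ := t
  have l : ∀ {g}, Commute g C → EE C * (R g * EE C) = R g * EE C := fun q => by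
    nth_rw 1 [e]; rw [EE_mul h _ q, one_mul]
  have r : ∀ g, R g * EE C * EE C = R g * EE C := fun g => by rw [mul_assoc, (EE_idem h).eq]
  rw [EE_mul h _ cu, EE_mul h _ cv]
  simp only [smul_mul_smul_comm, add_mul, mul_add, EE_mul h _ cv, EE_mul h _ (cv.mul_left cv), l cv,
    l (cv.mul_left cv), r, (EE_idem h).eq, Matrix.trace_smul, Matrix.trace_add, t1, t2, t3, t4, t5, t6, t7,
    t8, smul_eq_mul]
  ring

theorem det_contra {J X Y Z : Co0} (jj : J * J = negCo) (c : Commute J C) {n : ℕ} (t : (EE C).trace = 9 * n)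
    (k : ∀ g ∈ [X, Y, Z], Commute g C ∧ Commute g J ∧ g ^ 63 = 1) (e : X * Y * Z = J ∨ X * Y * Z = negCo * J) :
    False := by
  have f : cyclotomic 12 ℚ = Polynomial.X ^ 4 - Polynomial.X ^ 2 + 1 := by
    rw [← cyclotomic_expand_eq_cyclotomic Nat.prime_two (show 2 ∣ 6 by decide), cyclotomic_six]
    simp [← pow_mul]
  have hf := cyclotomic.irreducible_rat (n := 12) (by decide)
  have j2 : R J ^ 2 = -1 := by rw [pow_two, ← map_mul, jj, R_neg]
  have c3 : R C ^ 3 = 1 := by rw [← map_pow, h, map_one]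
  have p : ∀ m, R (C * J) ^ m = R C ^ m * R J ^ m := fun m => by rw [map_mul, (c.symm.map R).mul_pow]
  have cm : ∀ {g}, Commute g C → Commute (R g) (1 - EE C) := fun q => (Commute.one_right _).sub_right (EE_comm q)
  obtain ⟨m, h1, D, h2⟩ := cyc_det (A := R (C * J)) hf (EE_idem h).one_sub
    (cm ((Commute.refl C).mul_left c)) (by
      have : aeval (R (C * J)) (cyclotomic 12 ℚ) = (3 : ℚ) • EE C := by
        rw [f]
        simp only [map_add, map_sub, map_pow, aeval_X, map_one, p]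
        rw [show 4 = 2 * 2 from rfl, pow_mul (R J), j2, show 2 * 2 = 3 + 1 from rfl, pow_succ (R C) 3, c3, EE, pow_two (R C)]
        simp only [neg_one_sq, mul_one, one_mul, mul_neg]
        module
      rw [this, smul_mul_assoc, mul_sub, mul_one, (EE_idem h).eq, sub_self, smul_zero])
  rw [Matrix.trace_sub, trace_R_one, t, natDegree_cyclotomic, show Nat.totient 12 = 4 by decide +kernel] at h1
  have : 24 = 9 * n + 4 * m := by exact_mod_cast sub_eq_iff_eq_add'.1 h1
  obtain rfl : m = 6 := by omega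
  have mm : ∀ {g}, Commute g C ∧ Commute g J ∧ g ^ 63 = 1 →
      R g ∈ Subalgebra.centralizer ℚ {R (C * J), 1 - EE C} := fun q => by
    simp only [Subalgebra.mem_centralizer_iff, Set.mem_insert_iff, Set.mem_singleton_iff, forall_eq_or_imp, forall_eq]
    exact ⟨((q.1.mul_right q.2.1).map R).symm, (cm q.1).symm⟩
  have d : ∀ {g} q, D ⟨R g, mm q⟩ ^ 63 = 1 := fun {g} q => by
    rw [← map_pow, ← map_one D]
    exact congrArg D (Subtype.ext (by rw [SubmonoidClass.coe_pow, ← map_pow, q.2.2, map_one]; rfl))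
  simp only [List.forall_mem_cons] at k
  have w : D (⟨_, mm k.1⟩ * ⟨_, mm k.2.1⟩ * ⟨_, mm k.2.2.1⟩) ^ 63 = 1 := by
    rw [map_mul, map_mul, mul_pow, mul_pow, d k.1, d k.2.1, d k.2.2.1, mul_one, mul_one]
  have j9 : R (C * J) ^ 9 = R J := by
    rw [p, show 9 = 3 * 3 from rfl, pow_mul, c3, show 3 * 3 = 2 * 4 + 1 from rfl, pow_succ (R J), pow_mul, j2]
    simp [show (-1 : Matrix GolayPt GolayPt ℚ) ^ 4 = 1 from Even.neg_one_pow (by decide)]
  haveI := Fact.mk hf
  haveI := algebraRat.charZero (AdjoinRoot (cyclotomic 12 ℚ))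
  have z : AdjoinRoot.root (cyclotomic 12 ℚ) ^ 6 = -1 := by
    have := (congrArg (AdjoinRoot.mk (cyclotomic 12 ℚ)) f).symm.trans AdjoinRoot.mk_self
    simp only [map_add, map_sub, map_pow, AdjoinRoot.mk_X, map_one] at this
    linear_combination (AdjoinRoot.root (cyclotomic 12 ℚ) ^ 2 + 1) * this
  have fin : ∀ q : ℚ[X], aeval (R (C * J)) q = R X * R Y * R Z → AdjoinRoot.mk (cyclotomic 12 ℚ) q ^ 6 = -1 → False :=
    fun q a b => by
      have hq : aeval (R (C * J)) q ∈ Subalgebra.centralizer ℚ {R (C * J), 1 - EE C} :=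
        a ▸ mul_mem (mul_mem (mm k.1) (mm k.2.1)) (mm k.2.2.1)
      have w' : D ⟨_, hq⟩ ^ 63 = 1 := (congrArg (D · ^ 63) (Subtype.ext a)).trans w
      rw [h2, b, Odd.neg_one_pow (by decide)] at w'
      exact two_ne_zero (α := AdjoinRoot (cyclotomic 12 ℚ)) (by linear_combination -w')
  rcases e with e | e
  · refine fin (Polynomial.X ^ 9) (by rw [map_pow, aeval_X, j9, ← e, map_mul, map_mul]) ?_
    rw [map_pow, AdjoinRoot.mk_X, ← pow_mul, mul_comm, pow_mul, z, Odd.neg_one_pow (by decide)]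
  · refine fin (-Polynomial.X ^ 9) (by
      rw [map_neg, map_pow, aeval_X, j9, ← map_mul, ← map_mul, e, map_mul, R_neg, neg_one_mul]) ?_
    rw [map_neg, Even.neg_pow (by decide), map_pow, AdjoinRoot.mk_X, ← pow_mul, mul_comm, pow_mul, z, Odd.neg_one_pow (by decide)]

end

end CF.Pz
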