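import Cfsg.Agent.Pz.O0

/-! The configuration inside a central extension of the O'Nan group. -/

set_option autoImplicit false

namespace CF.Pz

open Subgroup Function Cfsg CF.Leech CF.Known.Mon CF.XT.Co CF.Loc CF.LX CF.Even CF.KI.Co1

variable {G : Type} [Group G] [Finite G] {Q : Subgroup G} {z : G}

theorem on_cfg (M : MT Q z) {c i y a b t s l : G} {S : Subgroup G} (c3 : c ^ 3 = 1) (cS : ∀ g ∈ S, g * c = c * g)
    (zS : ∀ g ∈ S, g * z = z * g) (cz : c * z = z * c) (mi : i ∈ S) (my : y ∈ S) (mt : t ∈ S) (ms : s ∈ S) (ml : l ∈ S)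
    (ii : i * i = z) (oy : orderOf y = 7) (yi : y * i = i * y) (ha : a * y = y * a) (hb : b * y = y * b)
    (ab : (a * b * a⁻¹ * b⁻¹) ^ 3 = y ^ 3) {n₁ n₂ n₃ : ℕ} (t3 : t * t * t = c ^ n₁) (s3 : s * s * s = c ^ n₂)
    (ts : t * s = s * t * c ^ n₃)
    (act : ∀ g ∈ [t, t * t, s, s * s, t * s, t * (s * s), t * t * s, t * t * (s * s)], ∃ k ∈ S, ∃ e, (e = 1 ∨ e = 3) ∧
      g * (k * y * k⁻¹) * g⁻¹ = (k * y * k⁻¹) ^ (e + 1))
    (li : l * i = i * l) (g9 : ((y * (l * y * l⁻¹))⁻¹ * i) ^ 9 = 1) : False := by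
  have y7 : y ^ 7 = 1 := oy ▸ pow_orderOf_eq_one y
  obtain ⟨Y, rY, Y1⟩ := rp_odd M (zS y my) (by decide) y7
  have nf := fun f => he_contra rY oy f ha hb ab
  have fp : ∀ w : W2, Y • w = w → w = 0 := fun w e => by_contra fun n => nf (type4 Y1 e n)
  obtain ⟨C, rC, C1⟩ := rp_odd M cz (by decide) c3
  have cm : ∀ {g X}, g ∈ S → M.Rp g X → Commute X C := fun m r => rp_comm r rC (by decide) C1 (cS _ m)
  have z0 : ∀ g ∈ [t, t * t, s, s * s, t * s, t * (s * s), t * t * s, t * t * (s * s)], ∀ {X}, M.Rp g X →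
      (R X * EE C).trace = 0 := fun g hg X r => by
    obtain ⟨k, hk, e, he, q⟩ := act g hg
    obtain ⟨K, rK⟩ := M.exists_Rp (mem_c1.2 (zS k hk))
    have K1 : (K * Y * K⁻¹) ^ 7 = 1 := by rw [conj_pow, Y1]; simp
    refine trace_zero (n := 7) (c := e) (Y := R (K * Y * K⁻¹)) (by decide) (by rw [← map_pow, K1, map_one])
      (sum_zero K1 fun w h => ?_) ?_ (by rcases he with rfl | rfl <;> decide)
    · rw [mul_smul, mul_smul, ← eq_inv_smul_iff] at h
      have := fp (K⁻¹ • w) h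
      rwa [inv_smul_eq_iff, smul_zero] at this
    · rw [mul_assoc, ← (EE_comm (cm (mul_mem (mul_mem hk my) (inv_mem hk)) (rK.conj rY))).eq, ← mul_assoc, ← mul_assoc,
        ← map_pow, ← map_mul, ← map_mul, ← rp_conj r (rK.conj rY) (by decide) K1 q, inv_mul_cancel_right]
  have n9 : ∀ {g n}, g * g * g = c ^ n → g ^ 9 = 1 := fun {g n} e => by
    rw [show 9 = 3 * 3 from rfl, pow_mul, pow_three' g, e, ← pow_mul, mul_comm, pow_mul, c3, one_pow]
  have cube : ∀ {g n X}, g * g * g = c ^ n → M.Rp g X → X ^ 9 = 1 → X * X * X = C ^ n := fun {g n X} e r q =>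
    rp_eq ((r.mul r).mul r) (e ▸ rC.pow n) (n := 3) (by decide) (by rw [← pow_three', ← pow_mul, q])
      (by rw [← pow_mul, mul_comm, pow_mul, C1, one_pow])
  obtain ⟨U, rU, U1⟩ := rp_odd M (zS t mt) (by decide) (n9 t3)
  obtain ⟨V, rV, V1⟩ := rp_odd M (zS s ms) (by decide) (n9 s3)
  have uv : U * V = V * U * C ^ n₃ := by
    have := rp_eq (rU.conj rV) (x := t * s * t⁻¹) (g' := V * C ^ n₃) (by
      rw [ts, mul_assoc s, (show Commute t c from cS t mt).pow_right, ← mul_assoc, mul_inv_cancel_right]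
      exact rV.mul (rC.pow _)) (n := 9) (by decide) (by rw [conj_pow, V1]; simp) (by
      rw [((cm ms rV).pow_right _).mul_pow, V1, ← pow_mul, show n₃ * 9 = 3 * (3 * n₃) by ring, pow_mul, C1]; simp)
    rw [mul_inv_eq_iff_eq_mul.1 this, mul_assoc, mul_assoc, ((cm mt rU).pow_right _).eq]
  obtain ⟨n, hn⟩ := nine_dvd C1 (cm mt rU) (cm ms rV) (cube t3 rU U1) (cube s3 rV V1) uv (by
    simp only [List.forall_mem_cons] at z0 ⊢
    obtain ⟨t1, t2, t3, t4, t5, t6, t7, t8, -⟩ := z0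
    exact ⟨t1 rU, t2 (rU.mul rU), t3 rV, t4 (rV.mul rV), t5 (rU.mul rV), t6 (rU.mul (rV.mul rV)),
      t7 ((rU.mul rU).mul rV), t8 ((rU.mul rU).mul (rV.mul rV)), by simp⟩)
  obtain ⟨J, rJ⟩ := M.exists_Rp (mem_c1.2 (zS i mi))
  have iQ : i ∉ Q := fun h => by
    have zz := mul_self_of_invol M.lq.ord
    rcases (M.lam_eq_zero i h).1 (fp _ (by rw [← rY.lam h, yi, mul_inv_cancel_right])) with e | e <;>
      rw [e] at ii <;> have := M.lq.ord
    · rw [← ii] at this; simp at this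
    · rw [← ii, zz] at this; simp at this
  have cj : ∀ {g X n}, Odd n → M.Rp g X → X ^ n = 1 → g * i = i * g → Commute X J := fun o r q e =>
    (rp_comm rJ r o q e.symm).symm
  have JJ := (rp_sq rJ (ii ▸ M.lq.mem)).resolve_left fun h => nf
    (frame_of_invol h (fun q => iQ (rJ.mem_Q_iff.2 ((mk_one _).1 q))) Y1 (cj (by decide) rY Y1 yi))
  have m2 := mul_mem (mul_mem ml my) (inv_mem ml)
  have m3 := mul_mem (inv_mem (mul_mem my m2)) mi
  have c2 : Commute (l * y * l⁻¹) i := ((show Commute l i from li).mul_left yi).mul_left (show Commute l i from li).inv_left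
  obtain ⟨X, rX, X1⟩ := rp_odd M (zS _ m2) (n := 7) (by decide) (by rw [conj_pow, y7]; simp)
  obtain ⟨Z, rZ, Z1⟩ := rp_odd M (zS _ m3) (by decide) g9
  refine det_contra C1 JJ (cm mi rJ) hn (X := Y) (Y := X) (Z := Z) ?_
    (((rY.mul rX).mul rZ).cases (by rwa [mul_inv_cancel_left]))
  simp only [List.forall_mem_cons]
  exact ⟨⟨cm my rY, cj (by decide) rY Y1 yi, by rw [show 63 = 7 * 9 from rfl, pow_mul, Y1, one_pow]⟩,
    ⟨cm m2 rX, cj (by decide) rX X1 c2, by rw [show 63 = 7 * 9 from rfl, pow_mul, X1, one_pow]⟩,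
    ⟨cm m3 rZ, cj (by decide) rZ Z1 (((show Commute y i from yi).mul_left c2).inv_left.mul_left (.refl i)),
      by rw [show 63 = 9 * 7 from rfl, pow_mul, Z1, one_pow]⟩, by simp⟩

end CF.Pz
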