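import Cfsg.Agent.Schur.Mdl

/-! Relations between named elements, checked on a base. -/

set_option autoImplicit false

namespace CF.Pz

open CF.Comp CF.Schur.Pc

/-- the two sides agree on the base -/
noncomputable def relB (nets : List Net) (bs : List ℕ) (ws : List (List ℕ)) (rs : List (List ℕ × List ℕ)) : Bool :=
  lall (fun r => sameB nets bs (subst ws r.1) (subst ws r.2)) rs

/-- the words move the point `0` or the point `1` -/
noncomputable def nelB (nets : List Net) (ws rs : List (List ℕ)) : Bool :=
  lall (fun r => !(fixW nets 0 (subst ws r) && fixW nets 1 (subst ws r))) rs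

theorem words {G Ω : Type*} [Group G] [MulAction G Ω] {n : ℕ} {D : CF.Comp.Dom Ω n} {nets : List Net} {f : ℕ → G}
    {bs : List ℕ} (h : Mdl D nets f ⊤ bs) (hn : 1 < n) {ws ns : List (List ℕ)} {rs : List (List ℕ × List ℕ)}
    (h1 : relB nets bs ws rs = true) (h2 : nelB nets ws ns = true) :
    ∃ g : ℕ → G, (∀ r ∈ rs, ev g r.1 = ev g r.2) ∧ ∀ r ∈ ns, ev g r ≠ 1 := by
  refine ⟨fun i => ev f (nth [] ws i), fun r hr => ?_, fun r hr e => ?_⟩
  · rw [← ev_subst, ← ev_subst]
    exact h.sameB _ _ (lall_iff.1 h1 r hr)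
  · rw [← ev_subst] at e
    have k : ∀ b < n, fixW nets b (subst ws r) = true := fun b hb => by
      by_contra q
      exact h.reps.not_fixW hb (Bool.eq_false_iff.2 q) (by rw [e, one_smul])
    have := lall_iff.1 h2 r hr
    simp [k 0 (by omega), k 1 hn] at this

end CF.Pz
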