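import Cfsg.Agent.Pz.R0
import Cfsg.Agent.Pz.M1
import Cfsg.Agent.Pz.W

/-! The Rudvalis group is not involved in the Monster. -/

set_option autoImplicit false
set_option maxRecDepth 100000

namespace CF.Pz

open Subgroup Function Cfsg Spor CF.Comp

/-- `v, x, e, y, g, h, u` -/
def wR : List (List ℕ) := [[13, 10, 7, 3, 13, 1], [10, 3, 9, 2, 3, 7, 1], [3, 15, 3, 12, 15, 4, 16, 4],
  [3, 16, 9, 13, 3, 7, 4], [4, 5, 9, 16, 2, 6], [3], [4, 5, 9, 16, 2, 6, 13, 10, 7, 3, 13, 1, 5, 1, 15, 10, 6, 3]]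

/-- the relations -/
noncomputable def rR : List (List ℕ × List ℕ) := [([1, 1], []), (wpow [1, 11, 1, 12] 29, []), ([9, 1, 10], [13]),
  ([13, 1], [1, 13]), (wpow [3] 13, []), ([3, 1], [1, 3]), ([3, 13], [13, 3]), ([5, 1], [1, 5]), ([5, 13], [13, 5]),
  ([5, 5], []), ([5, 3, 5, 3], []), (wpow [7] 7, []), ([7, 1], [1, 7]), ([7, 13], [13, 7]),
  ([5, 7, 5, 8, 7, 7, 7, 5, 8, 8, 8], [])]

theorem ru_words : ∃ v x e y g h u : Ru.K, v * v = 1 ∧ orderOf (v * (h * v * h⁻¹)) = 29 ∧ g * v * g⁻¹ = u ∧ u ≠ v ∧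
    u * v = v * u ∧ orderOf x = 13 ∧ x * v = v * x ∧ x * u = u * x ∧ e * v = v * e ∧ e * u = u * e ∧ e * e = 1 ∧
    e * x * e * x = 1 ∧ y ^ 7 = 1 ∧ y * v = v * y ∧ y * u = u * y ∧
    e * (y * e * y⁻¹) * (y ^ 3 * e * (y ^ 3)⁻¹) = 1 := by
  obtain ⟨g, a, b⟩ := words (Schur.Pc.mdl_of_exact Ru.exact fun _ => trivial) (by decide) (ws := wR) (rs := rR)
    (ns := [[1, 11, 1, 12], [13, 2], [3]]) (by decide +kernel) (by decide +kernel)
  simp only [rR, List.forall_mem_cons, ev_wpow, ev_cons, ev_nil, mul_one, evL, Nat.reduceSub, Nat.reduceMod,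
    Nat.reduceDiv, Nat.reduceEqDiff, if_true, if_false, ← mul_assoc, OfNat.ofNat_ne_zero, one_ne_zero] at a b
  obtain ⟨a1, a2, a3, a4, a5, a6, a7, a8, a9, a10, a11, a12, a13, a14, a15, -⟩ := a
  haveI := Fact.mk (by norm_num : Nat.Prime 13)
  haveI := Fact.mk (by norm_num : Nat.Prime 29)
  exact ⟨g 0, g 1, g 2, g 3, g 4, g 5, g 6, a1, by rw [← mul_assoc, ← mul_assoc]; exact orderOf_eq_prime a2 b.1, a3,
    mt mul_inv_eq_one.2 b.2.1, a4, orderOf_eq_prime a5 b.2.2.1, a6, a7, a8, a9, a10, a11, a12, a13, a14,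
    by rw [← a15]; simp only [pow_succ, pow_zero, one_mul, mul_inv_rev, mul_assoc]⟩

theorem not_ru (A : Subgroup Monster) (B : Subgroup A) [B.Normal] : ¬ IsoRu (A ⧸ B) := fun q => by
  haveI := finite_M
  obtain ⟨ι, hι⟩ := emb_ru A B q
  obtain ⟨v, x, e, y, g, h, u, a1, a2, a3, a4, a5, a6, a7, a8, a9, a10, a11, a12, a13, a14, a15, a16⟩ := ru_words
  obtain ⟨κ, Q, hκ, ⟨M⟩⟩ := exists_MT (ι := ι.comp Ru.eqv.symm.toMonoidHom) (hι.comp Ru.eqv.symm.injective) a1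
    (g := h) (by rw [a2]; decide)
  have c : ∀ {a b}, a * b = b * a → κ a * κ b = κ b * κ a := fun h => by rw [← map_mul, h, map_mul]
  exact ru_cfg M (u := κ u) (x := κ x) (e := κ e) (y := κ y) (κ.map_isConj (isConj_iff.2 ⟨g, a3⟩)) (hκ.ne a4) (c a5)
    ((orderOf_injective κ hκ x).trans a6) (c a7) (c a8) (c a9) (c a10) (by simpa using congrArg κ a11)
    (by simpa using congrArg κ a12) (by simpa using congrArg κ a13) (c a14) (c a15) (by simpa using congrArg κ a16)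

end CF.Pz
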