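import Cfsg.Agent.Pz.M2

/-! A four-group centralized by `Sz(8)` does not fit into the centralizer of a central involution. -/

set_option autoImplicit false

namespace CF.Pz

open Subgroup Function Cfsg CF.Leech CF.Known.Mon CF.XT.Co CF.Loc CF.LX CF.Even CF.KI.Co1 Polynomial

theorem neg_ne {g : Co0} : negCo * g ≠ g := fun e => negCo_ne_one (mul_eq_right.1 e)

theorem R_pm {g h : Co0} (e : g = h ∨ g = negCo * h) (t : (R h).trace = 0) : (R g).trace = 0 := by
  rcases e with rfl | rfl
  · exact t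
  · rw [map_mul, R_neg, neg_one_mul, Matrix.trace_neg, t, neg_zero]

theorem R_conj (g h : Co0) : (R (g * h * g⁻¹)).trace = (R h).trace := by
  rw [map_mul, Matrix.trace_mul_comm, ← map_mul, inv_mul_cancel_left]

theorem trace_R_one : (1 : Matrix GolayPt GolayPt ℚ).trace = 24 := by
  rw [Matrix.trace_one, card_pts]; rfl

/-- three commuting involutions with vanishing traces and a complex structure -/
theorem rank_three {a b c j : Co0} (aa : a * a = 1) (bb : b * b = 1) (cc : c * c = 1) (ab : Commute a b)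
    (ac : Commute a c) (bc : Commute b c) (ja : Commute j a) (jb : Commute j b) (jc : Commute j c)
    (jj : j * j = negCo) (t : ∀ g ∈ [a, b, c, a * b, a * c, b * c, a * b * c], (R g).trace = 0) : False := by
  have i : ∀ {x}, x * x = 1 → IsIdempotentElem ((1 / 2 : ℚ) • (1 + R x)) := fun {x} h => by
    rw [IsIdempotentElem, smul_mul_smul_comm, add_mul, mul_add, mul_add, ← map_mul, h, map_one]
    simp only [one_mul, mul_one]
    module
  have k : ∀ {x y}, Commute x y → Commute (R x) ((1 / 2 : ℚ) • (1 + R y)) := fun h =>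
    ((Commute.one_right _).add_right (h.map R)).smul_right _
  have l : ∀ {x y}, Commute x y → Commute ((1 / 2 : ℚ) • (1 + R x)) ((1 / 2 : ℚ) • (1 + R y)) := fun h =>
    ((Commute.one_left _).add_left (k h)).smul_left _
  have e : aeval (R j) (cyclotomic 4 ℚ) = 0 := by
    rw [show cyclotomic 4 ℚ = X ^ 2 + 1 by
      simpa [Finset.sum_range_succ, add_comm] using cyclotomic_prime_pow_eq_geom_sum (R := ℚ) (n := 1) Nat.prime_two]
    simp only [map_add, map_pow, aeval_X, map_one]
    rw [pow_two, ← map_mul, jj, R_neg, neg_add_cancel]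
  obtain ⟨n, h, -⟩ := cyc_det (cyclotomic.irreducible_rat (n := 4) (by decide))
    (((i aa).mul_of_commute (l ab) (i bb)).mul_of_commute ((l ac).mul_left (l bc)) (i cc))
    (((k ja).mul_right (k jb)).mul_right (k jc)) (by rw [e, zero_mul])
  simp only [List.forall_mem_cons, map_mul] at t
  obtain ⟨t1, t2, t3, t4, t5, t6, t7, -⟩ := t
  rw [natDegree_cyclotomic, show Nat.totient 4 = 2 by decide] at h
  simp only [smul_mul_smul_comm, add_mul, mul_add, one_mul, mul_one, Matrix.trace_smul, Matrix.trace_add,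
    trace_R_one, t1, t2, t3, t4, t5, t6, t7, smul_eq_mul] at h
  have : (3 : ℚ) = 2 * n := by push_cast at h; linarith
  have : 3 = 2 * n := by exact_mod_cast this
  omega

variable {G : Type*} [Group G] [Finite G] {Q : Subgroup G} {z : G}

theorem ru_cfg (M : MT Q z) {u x e y : G} (c : IsConj z u) (uz : u ≠ z) (cu : u * z = z * u) (ox : orderOf x = 13)
    (xz : x * z = z * x) (xu : x * u = u * x) (ez : e * z = z * e) (eu : e * u = u * e) (ee : e * e = 1)
    (ex : e * x * e * x = 1) (y7 : y ^ 7 = 1) (yz : y * z = z * y) (yu : y * u = u * y)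
    (r : e * (y * e * y⁻¹) * (y ^ 3 * e * (y ^ 3)⁻¹) = 1) : False := by
  have uQ : u ∉ Q := fun h => by
    obtain ⟨v, a, b⟩ := (M.conj_iff h).1 ⟨c, uz⟩
    obtain ⟨k, l⟩ := M.exists_twist b a
    have := orderOf_dvd_natCard (𝐂₁(z) ⊓ 𝐂₁(u)) (x := x) ⟨mem_c1.2 xz, mem_c1.2 xu⟩
    rw [ox, MT.card_L h l] at this
    exact absurd this (by decide)
  have x1 : x ^ 13 = 1 := ox ▸ pow_orderOf_eq_one x
  obtain ⟨J, rJ⟩ := M.exists_Rp (mem_c1.2 cu)
  obtain ⟨X, rX, X1⟩ := rp_odd M xz (by decide) x1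
  obtain ⟨Y, rY, Y1⟩ := rp_odd M yz (by decide) y7
  obtain ⟨A, rA⟩ := M.exists_Rp (mem_c1.2 ez)
  haveI := Fact.mk (by norm_num : Nat.Prime 13)
  have X2 : mk X ≠ 1 := fun h => by
    rw [MT.dj M (y := x) (ox ▸ by decide) (rX.mem_Q_iff.2 ((mk_one _).1 h)) (mem_zpowers x), orderOf_one] at ox
    omega
  have XJ := (rp_comm rJ rX (by decide) X1 xu.symm).symm
  have uu : u * u = 1 := by
    obtain ⟨g, rfl⟩ := isConj_iff.1 c
    rw [conj_mul, mul_self_of_invol M.lq.ord]; simp
  have JJ := (rp_sq rJ (uu ▸ one_mem Q)).resolve_left fun h => not_13 h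
    (fun q => uQ (rJ.mem_Q_iff.2 ((mk_one _).1 q))) (orderOf_eq_prime (by rw [← map_pow, X1, map_one]) X2) XJ
  have s := KI.cyc_sum R_inj card_pts (orderOf_eq_prime X1 fun q => X2 (by rw [q, map_one]))
    (by rw [← map_pow, pow_two, JJ, R_neg]) XJ
  have tA : (R A).trace = 0 := trace_zero (n := 13) (c := 11) (Y := R X) (by decide) (by rw [← map_pow, X1, map_one])
    (by simpa only [map_pow] using s) (by
      rw [← map_pow, ← map_mul, ← map_mul, ← rp_conj rA rX (by decide) X1 (a := 12) (by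
        rw [inv_eq_of_mul_eq_one_right ee, eq_inv_of_mul_eq_one_left ex, eq_comm, eq_inv_iff_mul_eq_one,
          ← pow_succ, x1]), inv_mul_cancel_right]) (by decide)
  let E : ℕ → G := fun i => y ^ i * e * (y ^ i)⁻¹
  let B : ℕ → Co0 := fun i => Y ^ i * A * (Y ^ i)⁻¹
  have rB : ∀ i, M.Rp (E i) (B i) := fun i => (rY.pow i).conj rA
  have t : ∀ i {g}, M.Rp (E i) g → (R g).trace = 0 := fun i g h => R_pm (h.cases (rB i)) (by rw [R_conj, tA])
  have EE : ∀ i, E i * E i = 1 := fun i => by simp only [E]; rw [conj_mul, ee]; simp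
  have E7 : ∀ i, E (i + 7) = E i := fun i => by simp only [E, pow_add, y7, mul_one]
  have m : ∀ i, E i * E (i + 1) = E (i + 3) := fun i => by
    rw [← mul_left_inj (E (i + 3)), EE]
    calc _ = y ^ i * (e * (y * e * y⁻¹) * (y ^ 3 * e * (y ^ 3)⁻¹)) * (y ^ i)⁻¹ := by simp only [E]; group
      _ = 1 := by rw [r]; simp
  have cm : ∀ {a b : G}, a * a = 1 → b * b = 1 → a * b * (a * b) = 1 → a * b = b * a := fun {a b} p q w => by
    rw [eq_inv_of_mul_eq_one_left w, mul_inv_rev, inv_eq_of_mul_eq_one_right p, inv_eq_of_mul_eq_one_right q]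
  have m02 : E 0 * E 2 = E 6 := by
    have := m 6
    rw [show E (6 + 1) = E 0 from E7 0, show E (6 + 3) = E 2 from E7 2] at this
    rw [← this, cm (EE 6) (EE 0) (by rw [this, EE]), ← mul_assoc, EE, one_mul]
  have m04 : E 0 * E 4 = E 5 := by
    have := m 4
    rw [show E (4 + 3) = E 0 from E7 0] at this
    rw [← this, cm (EE 4) (EE 5) (by rw [this, EE]), mul_assoc, EE, mul_one]
  have r3 : M.Rp (E 3) (B 0 * B 1) := m 0 ▸ (rB 0).mul (rB 1)
  have r4 : M.Rp (E 4) (B 1 * B 2) := m 1 ▸ (rB 1).mul (rB 2)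
  have r6 : M.Rp (E 6) (B 0 * B 2) := m02 ▸ (rB 0).mul (rB 2)
  have r5 : M.Rp (E 5) (B 0 * (B 1 * B 2)) := m04 ▸ (rB 0).mul r4
  have sq : ∀ i {g}, M.Rp (E i) g → g * g = A * A := fun i g h => by
    have : B i * B i = A * A := by
      simp only [B]
      rcases rp_sq rA (ee ▸ one_mem Q) with q | q <;> rw [conj_mul, q]
      · simp
      · rw [negCo_comm, mul_inv_cancel_right]
    rcases h.cases (rB i) with rfl | rfl
    · exact this
    · rw [mul_assoc, ← mul_assoc (B i), negCo_comm, mul_assoc, ← mul_assoc, negCo_mul_self, one_mul, this]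
  have an : ∀ {g h : Co0}, g * g = A * A → h * h = A * A → g * h * (g * h) = A * A → g * h = A * A * (h * g) :=
    fun {g h} a b d => by
      have i : ∀ {k : Co0}, k * k = A * A → k⁻¹ = A * A * k := fun {k} p => by
        rcases rp_sq rA (ee ▸ one_mem Q) with q | q <;> rw [q] at p ⊢
        · rw [one_mul, inv_eq_of_mul_eq_one_right p]
        · rw [inv_eq_iff_mul_eq_one, ← mul_assoc, negCo_comm, mul_assoc, p, negCo_mul_self]
      have := i d
      rw [mul_inv_rev, i a, i b] at this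
      rcases rp_sq rA (ee ▸ one_mem Q) with q | q <;> rw [q] at this ⊢
      · simpa using this.symm
      · rw [mul_assoc, ← mul_assoc h, negCo_comm, mul_assoc] at this
        exact (mul_left_cancel this).symm
  have a01 := an (sq 0 (rB 0)) (sq 1 (rB 1)) (sq 3 r3)
  have a02 := an (sq 0 (rB 0)) (sq 2 (rB 2)) (sq 6 r6)
  have a12 := an (sq 1 (rB 1)) (sq 2 (rB 2)) (sq 4 r4)
  have AA : A * A = 1 := (rp_sq rA (ee ▸ one_mem Q)).resolve_right fun q => by
    have a04 := an (sq 0 (rB 0)) (sq 4 r4) (sq 5 r5)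
    rw [q] at a01 a02 a04
    rw [← mul_assoc, a01, mul_assoc, mul_assoc, a02, ← mul_assoc (B 1), negCo_comm, mul_assoc,
      ← mul_assoc (B 1), mul_right_inj] at a04
    exact neg_ne a04
  rw [AA, one_mul] at a01 a02 a12
  have YJ : Commute J Y := rp_comm rJ rY (by decide) Y1 yu.symm
  have cj : ∀ i, Commute J A → Commute J (B i) := fun i h =>
    ((YJ.pow_right i).mul_right h).mul_right (YJ.pow_right i).inv_right
  have JA : Commute J A := ((rJ.mul rA).cases (eu ▸ rA.mul rJ)).resolve_right fun q => by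
    have p : ∀ i, J * B i = negCo * (B i * J) := fun i => by
      have := (YJ.pow_right i).eq
      calc _ = Y ^ i * (J * A) * (Y ^ i)⁻¹ := by simp only [B]; rw [← mul_assoc, ← mul_assoc, this]; group
        _ = negCo * (Y ^ i * A * (J * (Y ^ i)⁻¹)) := by rw [q, ← mul_assoc, negCo_comm]; group
        _ = _ := by rw [(YJ.pow_right i).inv_right.eq]; simp only [B]; group
    have w : J * (B 0 * B 1) = B 0 * B 1 * J := by
      rw [← mul_assoc, p, mul_assoc negCo, mul_assoc (B 0), p, ← mul_assoc (B 0), negCo_comm, mul_assoc negCo,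
        ← mul_assoc negCo, negCo_mul_self, one_mul, mul_assoc (B 0)]
    have p3 := p 3
    rcases r3.cases (rB 3) with k | k <;> rw [k] at w
    · exact neg_ne (p3.symm.trans w)
    · rw [← mul_assoc, negCo_comm, mul_assoc, mul_assoc, mul_right_inj] at w
      exact neg_ne (p3.symm.trans w)
  refine rank_three ((sq 0 (rB 0)).trans AA) ((sq 1 (rB 1)).trans AA) ((sq 2 (rB 2)).trans AA) a01 a02 a12
    (cj 0 JA) (cj 1 JA) (cj 2 JA) JJ ?_
  simp only [List.forall_mem_cons]
  exact ⟨t 0 (rB 0), t 1 (rB 1), t 2 (rB 2), t 3 r3, t 6 r6, t 4 r4, t 5 (mul_assoc (B 0) _ _ ▸ r5), by simp⟩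

end CF.Pz
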