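import Cfsg.Agent.SolvStr.Prim
import Cfsg.Prelude.Def_KGroupFacts
import Cfsg.Prelude.Def_CaseTheorems

/-! Minimal subgroups covering a simple section. -/

set_option autoImplicit false

namespace CF.Pz

open Subgroup Function Cfsg

/-- `π` is onto and no proper subgroup maps onto -/
structure Mn {H X : Type*} [Group H] [Group X] (π : H →* X) : Prop where
  surj : Surjective π
  min : ∀ N : Subgroup H, N.map π = ⊤ → N = ⊤

theorem exists_mn {G X : Type*} [Group G] [Finite G] [Group X] (A : Subgroup G) (B : Subgroup A) [B.Normal]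
    (e : Nonempty (A ⧸ B ≃* X)) : ∃ (H : Subgroup G) (π : H →* X), Mn π := by
  classical
  obtain ⟨e⟩ := e
  have ex : ∃ n, ∃ (H : Subgroup G) (π : H →* X), Surjective π ∧ Nat.card H = n :=
    ⟨_, A, e.toMonoidHom.comp (QuotientGroup.mk' B), e.surjective.comp (QuotientGroup.mk'_surjective B), rfl⟩
  obtain ⟨H, π, s, c⟩ := Nat.find_spec ex
  refine ⟨H, π, s, fun N hN => ?_⟩
  let f := N.equivMapOfInjective H.subtype H.subtype_injective
  have := Nat.find_min' ex ⟨N.map H.subtype, (π.comp N.subtype).comp f.symm.toMonoidHom, fun x => by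
    obtain ⟨y, hy, rfl⟩ := hN.ge (mem_top x)
    exact ⟨f ⟨y, hy⟩, by simp⟩, rfl⟩
  rw [← c, ← Nat.card_congr f.toEquiv] at this
  exact eq_top_of_le_card N this

variable {H X : Type*} [Group H] [Group X] {π : H →* X}

theorem Mn.top [IsSimpleGroup X] (h : Mn π) (N : Subgroup H) [hN : N.Normal] (k : ¬ N ≤ π.ker) : N = ⊤ :=
  h.min N ((hN.map π h.surj).eq_bot_or_eq_top.resolve_left fun e => k ((map_eq_bot_iff N).1 e))

theorem Mn.perfect (h : Mn π) (p : commutator X = ⊤) : commutator H = ⊤ :=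
  h.min _ (by rw [map_commutator_eq, MonoidHom.range_eq_top.2 h.surj]; exact p)

variable [Finite H]

theorem Mn.normal (h : Mn π) {p : ℕ} [Fact p.Prime] (P : Sylow p π.ker) : (P.map π.ker.subtype).Normal := by
  refine normalizer_eq_top_iff.1 (h.min _ ?_)
  have := congrArg (map π) P.normalizer_sup_eq_top
  rwa [Subgroup.map_sup, (Subgroup.map_eq_bot_iff (H := π.ker)).2 le_rfl, sup_bot_eq, ← MonoidHom.range_eq_map,
    MonoidHom.range_eq_top.2 h.surj] at this

theorem exists_elt (h : Surjective π) {r : ℕ} [hr : Fact r.Prime] (d : r ∣ Nat.card X) :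
    ∃ y, IsPGroup r (zpowers y) ∧ π y ≠ 1 := by
  obtain ⟨R⟩ : Nonempty (Sylow r H) := inferInstance
  by_contra! k
  have h1 : (R : Subgroup H) ≤ π.ker := fun y hy => k y (R.isPGroup'.to_le (zpowers_le.2 hy))
  refine R.not_dvd_index (d.trans (Dvd.dvd.trans ?_ (index_dvd_of_le h1)))
  rw [index_ker, MonoidHom.range_eq_top.2 h, card_top]

/-- normal `p`-subgroups too small for an automorphism of order `r` are central -/
theorem Mn.central [IsSimpleGroup X] (h : Mn π) {p r : ℕ} (hp : p.Prime) (hr : r.Prime) (ne : p ≠ r)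
    (d : r ∣ Nat.card X) (P : Subgroup H) [P.Normal] (hP : IsPGroup p P)
    (k : ∀ a, 0 < a → p ^ a ∣ Nat.card P → p ^ a % r ≠ 1) : P ≤ center H := by
  haveI := Fact.mk hp
  haveI := Fact.mk hr
  obtain ⟨y, y1, y2⟩ := exists_elt h.surj d
  have c := SolvStr.card_modEq_card_inf_centralizer (L := P) y1 (le_top.trans (normalizer_eq_top P).ge)
  obtain ⟨a, ha⟩ := IsPGroup.iff_card.1 hP
  obtain ⟨b, hb, e⟩ := (Nat.dvd_prime_pow hp).1
    (ha ▸ card_dvd_of_le (inf_le_left : P ⊓ centralizer (zpowers y : Set H) ≤ P))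
  obtain ⟨j, rfl⟩ := Nat.exists_eq_add_of_le hb
  have j0 : j = 0 := by
    by_contra j0
    refine k j (Nat.pos_of_ne_zero j0) (ha ▸ pow_dvd_pow p (by omega)) ?_
    rw [ha, e, pow_add] at c
    have := Nat.ModEq.cancel_left_of_coprime (((Nat.coprime_primes hr hp).2 ne.symm).pow_right b)
      (c.trans (by rw [mul_one]) : p ^ b * p ^ j ≡ p ^ b * 1 [MOD r])
    rwa [Nat.ModEq, Nat.mod_eq_of_lt hr.one_lt] at this
  subst j0
  have l := (eq_of_le_of_card_ge (inf_le_left : P ⊓ centralizer (zpowers y : Set H) ≤ P)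
    (by rw [ha, e, add_zero])).ge.trans inf_le_right
  have t := h.top (centralizer (P : Set H)) fun q => y2 (q (le_centralizer_iff.1 l (mem_zpowers y)))
  exact fun x hx => mem_center_iff.2 fun g => (t.ge (mem_top g) x hx).symm

theorem top_of_sylow (C : Subgroup H) (h : ∀ (p : ℕ) [Fact p.Prime] (P : Sylow p H), (P : Subgroup H) ≤ C) :
    C = ⊤ := by
  by_contra n
  obtain ⟨p, hp, d⟩ := Nat.exists_prime_and_dvd (mt index_eq_one.1 n)
  haveI := Fact.mk hp
  obtain ⟨P⟩ : Nonempty (Sylow p H) := inferInstance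
  exact P.not_dvd_index (d.trans (index_dvd_of_le (h p P)))

/-- a nontrivial normal 2-subgroup gives a central involution -/
theorem Mn.invol [IsSimpleGroup X] (h : Mn π) {r : ℕ} (hr : r.Prime) (ne : 2 ≠ r) (d : r ∣ Nat.card X) {n : ℕ}
    (rk : PRankLE 2 n H) (k : ∀ a, 0 < a → a ≤ n → 2 ^ a % r ≠ 1) (P : Subgroup H) [hn : P.Normal]
    (hP : IsPGroup 2 P) (h1 : P ≠ ⊥) : ∃ t ∈ P, t ∈ center H ∧ t * t = 1 ∧ t ≠ 1 := by
  let Z : Subgroup H :=
    { carrier := {x | x ∈ P ⊓ centralizer (P : Set H) ∧ x * x = 1}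
      one_mem' := ⟨one_mem _, mul_one 1⟩
      mul_mem' := fun {a b} ha hb => ⟨mul_mem ha.1 hb.1, by
        rw [mul_assoc, ← mul_assoc b, ha.1.2 b hb.1.1, mul_assoc, hb.2, mul_one, ha.2]⟩
      inv_mem' := fun {a} ha => ⟨inv_mem ha.1, by rw [← mul_inv_rev, ha.2, inv_one]⟩ }
  haveI : Z.Normal := ⟨fun a ha g => ⟨Normal.conj_mem inferInstance a ha.1 g, by
    rw [conj_mul, ha.2]; group⟩⟩
  have c := rk Z ⟨⟨fun a b => Subtype.ext (b.2.1.2 a a.2.1.1)⟩⟩ fun a ha => by rw [pow_two, ha.2]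
  have l := h.central Nat.prime_two hr ne d Z (hP.to_le fun a ha => ha.1.1) fun a a0 e => k a a0
    ((Nat.pow_le_pow_iff_right one_lt_two).1 ((Nat.le_of_dvd Nat.card_pos e).trans c))
  haveI := (nontrivial_iff_ne_bot P).2 h1
  haveI := hP.center_nontrivial
  obtain ⟨t, ht⟩ := exists_prime_orderOf_dvd_card' (G := center P) 2 (by
    obtain ⟨m, e⟩ := IsPGroup.iff_card.1 (hP.to_subgroup (center P))
    rw [e]
    exact dvd_pow_self 2 fun m0 => (Finite.one_lt_card (α := center P)).ne' (by rw [e, m0, pow_zero]))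
  have tt : t * t = 1 := by rw [← pow_two, ← ht, pow_orderOf_eq_one]
  have m : t.1.1 ∈ Z := ⟨⟨t.1.2, fun g hg => congrArg Subtype.val (mem_center_iff.1 t.2 ⟨g, hg⟩)⟩,
    congrArg (fun x : center P => x.1.1) tt⟩
  exact ⟨_, t.1.2, l m, m.2, fun e => by
    rw [show t = 1 from Subtype.ext (Subtype.ext e), orderOf_one] at ht; omega⟩

/-- the kernel is central once its Sylow 2-subgroup is -/
theorem Mn.ker_le [IsSimpleGroup X] (h : Mn π)
    (h2 : ∀ P : Subgroup H, P.Normal → IsPGroup 2 P → P ≤ π.ker → P ≤ center H)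
    (k : ∀ p, p.Prime → p ≠ 2 → p ∣ Nat.card π.ker → ∃ r, r.Prime ∧ p ≠ r ∧ r ∣ Nat.card X ∧
      ∀ a, 0 < a → p ^ a ∣ Nat.card π.ker → p ^ a % r ≠ 1) : π.ker ≤ center H := by
  refine subgroupOf_eq_top.1 (top_of_sylow _ fun p hp P => ?_)
  refine map_le_iff_le_comap.1 ?_
  haveI := h.normal P
  have hP := P.isPGroup'.map π.ker.subtype
  by_cases e : p = 2
  · subst e
    exact h2 _ this hP (map_subtype_le _)
  by_cases d : p ∣ Nat.card π.ker
  · obtain ⟨r, a, b, c, f⟩ := k p hp.out e d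
    exact h.central hp.out a b c _ hP fun a a0 g => f a a0 (g.trans (card_dvd_of_le (map_subtype_le _)))
  · rw [show (P : Subgroup π.ker) = ⊥ from card_eq_one.1 (by
      rw [P.card_eq_multiplicity, Nat.factorization_eq_zero_of_not_dvd d, pow_zero]), Subgroup.map_bot]
    exact bot_le

end CF.Pz
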